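import Mathlib.AlgebraicGeometry.IdealSheaf.Functorial
import Mathlib.AlgebraicGeometry.Morphisms.ClosedImmersion

/-!
Affine-local description of the pullback `IdealSheafData.comap` of an ideal sheaf.
-/

universe u

open CategoryTheory CategoryTheory.Limits AlgebraicGeometry

namespace Groth.Agent.Lib.Helper20

open AlgebraicGeometry.Scheme

/-- Affine case: on affine schemes the pullback ideal sheaf is the extension of the ideal of
global sections. -/
theorem ideal_comap_top_of_isAffine {X Y : Scheme.{u}} [IsAffine X] [IsAffine Y] (f : X ⟶ Y)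
    (K : Y.IdealSheafData) :
    (K.comap f).ideal ⟨⊤, isAffineOpen_top X⟩ =
      (K.ideal ⟨⊤, isAffineOpen_top Y⟩).map f.appTop.hom := by
  have hmap : ∀ J : X.IdealSheafData, (J.map f).ideal ⟨⊤, isAffineOpen_top Y⟩ =
      (J.ideal ⟨⊤, isAffineOpen_top X⟩).comap f.appTop.hom := by
    intro J
    exact IdealSheafData.ideal_map_of_isAffineHom J f ⟨⊤, isAffineOpen_top Y⟩
  apply le_antisymm
  · -- `K.comap f ≤ J₀`
    let J₀ : X.IdealSheafData :=
      IdealSheafData.ofIdealTop ((K.ideal ⟨⊤, isAffineOpen_top Y⟩).map f.appTop.hom)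
    have h1 : K.comap f ≤ J₀ := by
      rw [← IdealSheafData.le_map_iff_comap_le]
      apply IdealSheafData.le_of_isAffine
      rw [hmap]
      have : J₀.ideal ⟨⊤, isAffineOpen_top X⟩ =
          (K.ideal ⟨⊤, isAffineOpen_top Y⟩).map f.appTop.hom := by
        simp [J₀]
      rw [this]
      exact Ideal.le_comap_map
    have h2 := h1 ⟨⊤, isAffineOpen_top X⟩
    have : J₀.ideal ⟨⊤, isAffineOpen_top X⟩ =
        (K.ideal ⟨⊤, isAffineOpen_top Y⟩).map f.appTop.hom := by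
      simp [J₀]
    rwa [this] at h2
  · rw [Ideal.map_le_iff_le_comap, ← hmap]
    exact IdealSheafData.le_map_comap K f ⟨⊤, isAffineOpen_top Y⟩

theorem comap_inv_eq_map_hom {A B : CommRingCat.{u}} (e : A ≅ B) (I : Ideal A) :
    I.comap e.inv.hom = I.map e.hom.hom := by
  apply le_antisymm
  · exact Ideal.comap_le_map_of_inverse e.inv.hom e.hom.hom I (fun x => by
      change (e.inv ≫ e.hom).hom x = x
      simp)
  · exact Ideal.map_le_comap_of_inverse e.hom.hom e.inv.hom I (fun x => by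
      change (e.hom ≫ e.inv).hom x = x
      simp)

/-- Open immersion case, written with `Ideal.map` along the iso `appIso`. -/
theorem ideal_comap_of_isOpenImmersion_map {X Y : Scheme.{u}} (K : Y.IdealSheafData) (j : X ⟶ Y)
    [IsOpenImmersion j] (W : X.affineOpens) :
    (K.comap j).ideal W =
      (K.ideal ⟨j ''ᵁ W, W.2.image_of_isOpenImmersion j⟩).map (j.appIso W).hom.hom := by
  rw [IdealSheafData.ideal_comap_of_isOpenImmersion]
  exact comap_inv_eq_map_hom _ _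

/-- Key lemma: pullback of ideal sheaves computed on an affine open chart. -/
theorem ideal_comap_aux {X Y U' V' : Scheme.{u}} [IsAffine U'] [IsAffine V'] (f : X ⟶ Y)
    (jU : U' ⟶ X) (jV : V' ⟶ Y) [IsOpenImmersion jU] [IsOpenImmersion jV] (f' : U' ⟶ V')
    (hf : f' ≫ jV = jU ≫ f) (K : Y.IdealSheafData)
    (e : jU ''ᵁ ⊤ ≤ f ⁻¹ᵁ (jV ''ᵁ ⊤)) :
    (K.comap f).ideal ⟨jU ''ᵁ ⊤, (isAffineOpen_top U').image_of_isOpenImmersion jU⟩ =
      (K.ideal ⟨jV ''ᵁ ⊤, (isAffineOpen_top V').image_of_isOpenImmersion jV⟩).map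
        (f.appLE (jV ''ᵁ ⊤) (jU ''ᵁ ⊤) e).hom := by
  have h1 := ideal_comap_of_isOpenImmersion_map (K.comap f) jU ⟨⊤, isAffineOpen_top U'⟩
  have h2 := ideal_comap_of_isOpenImmersion_map K jV ⟨⊤, isAffineOpen_top V'⟩
  have h3 := ideal_comap_top_of_isAffine f' (K.comap jV)
  rw [← IdealSheafData.comap_comp, hf, IdealSheafData.comap_comp, h1, h2, Ideal.map_map] at h3
  -- `h3 : map (jU.appIso ⊤).hom (K.comap f)(jU''⊤) = map (f'.appTop ∘ (jV.appIso ⊤).hom) K(jV''⊤)`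
  have key' : f.appLE (jV ''ᵁ ⊤) (jU ''ᵁ ⊤) e ≫ (jU.appIso ⊤).hom =
      (jV.appIso ⊤).hom ≫ f'.appTop := by
    have h6 : f'.appTop = f'.appLE ⊤ ⊤ le_top := by
      simp [Scheme.Hom.appLE]
    rw [Scheme.Hom.appIso_hom', Scheme.Hom.appIso_hom', Scheme.Hom.appLE_comp_appLE, h6,
      Scheme.Hom.appLE_comp_appLE]
    simp only [hf]
  have key : f.appLE (jV ''ᵁ ⊤) (jU ''ᵁ ⊤) e =
      (jV.appIso ⊤).hom ≫ f'.appTop ≫ (jU.appIso ⊤).inv := by
    rw [← Category.assoc, Iso.eq_comp_inv, key']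
  have h4 := congrArg (Ideal.map (jU.appIso ⊤).inv.hom) h3
  rw [Ideal.map_map, Ideal.map_map] at h4
  have h5 : (jU.appIso ⊤).inv.hom.comp (jU.appIso ⊤).hom.hom = RingHom.id _ := by
    rw [← CommRingCat.hom_comp]; simp
  rw [h5, Ideal.map_id] at h4
  rw [h4, key]
  rfl

theorem ideal_comap_transport {X Y : Scheme.{u}} (f : X ⟶ Y) (K : Y.IdealSheafData)
    (U U' : X.affineOpens) (V V' : Y.affineOpens) (hU : U'.1 = U.1) (hV : V'.1 = V.1)
    (e : U.1 ≤ f ⁻¹ᵁ V.1) (e' : U'.1 ≤ f ⁻¹ᵁ V'.1)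
    (h : (K.comap f).ideal U' = (K.ideal V').map (f.appLE V'.1 U'.1 e').hom) :
    (K.comap f).ideal U = (K.ideal V).map (f.appLE V.1 U.1 e).hom := by
  obtain ⟨U, hU0⟩ := U
  obtain ⟨U', hU0'⟩ := U'
  obtain ⟨V, hV0⟩ := V
  obtain ⟨V', hV0'⟩ := V'
  simp only at hU hV
  subst hU hV
  exact h

/-- **Affine-local description of the pullback of an ideal sheaf**: if `U ⊆ X` and `V ⊆ Y`
are affine opens with `f(U) ⊆ V`, then `(f⁻¹K)(U) = K(V)·Γ(X,U)`. -/
theorem ideal_comap {X Y : Scheme.{u}} (f : X ⟶ Y) (K : Y.IdealSheafData) (U : X.affineOpens)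
    (V : Y.affineOpens) (e : U.1 ≤ f ⁻¹ᵁ V.1) :
    (K.comap f).ideal U = (K.ideal V).map (f.appLE V.1 U.1 e).hom := by
  have : IsAffine U.1.toScheme := U.2
  have : IsAffine V.1.toScheme := V.2
  have hU : U.1.ι ''ᵁ ⊤ = U.1 := Scheme.Opens.ι_image_top _
  have hV : V.1.ι ''ᵁ ⊤ = V.1 := Scheme.Opens.ι_image_top _
  have e' : U.1.ι ''ᵁ ⊤ ≤ f ⁻¹ᵁ (V.1.ι ''ᵁ ⊤) := by rw [hU, hV]; exact e
  have h := ideal_comap_aux f U.1.ι V.1.ι (f.resLE V.1 U.1 e) (Scheme.Hom.resLE_comp_ι ..) K e'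
  exact ideal_comap_transport f K U ⟨_, _⟩ V ⟨_, _⟩ hU hV e e' h

/-- The affine opens of `X` mapping into an affine open of `Y` cover `X`. -/
theorem iSup_affine_charts_eq_top {X Y : Scheme.{u}} (f : X ⟶ Y) :
    ⨆ i : {p : X.affineOpens × Y.affineOpens // p.1.1 ≤ f ⁻¹ᵁ p.2.1}, (i.1.1 : X.Opens) = ⊤ := by
  rw [eq_top_iff]
  intro x _
  obtain ⟨_, ⟨V, hV, rfl⟩, hxV, -⟩ :=
    Y.isBasis_affineOpens.exists_subset_of_mem_open (Set.mem_univ (f x)) isOpen_univ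
  obtain ⟨_, ⟨U, hU, rfl⟩, hxU, hUV⟩ :=
    X.isBasis_affineOpens.exists_subset_of_mem_open (show x ∈ (f ⁻¹ᵁ V : X.Opens) from hxV)
      (f ⁻¹ᵁ V).2
  exact TopologicalSpace.Opens.mem_iSup.mpr ⟨⟨(⟨U, hU⟩, ⟨V, hV⟩), hUV⟩, hxU⟩

/-- Pullback of ideal sheaves commutes with products. -/
theorem comap_mul {X Y : Scheme.{u}} (f : X ⟶ Y) (K₁ K₂ : Y.IdealSheafData) :
    (K₁ * K₂).comap f = K₁.comap f * K₂.comap f := by
  apply IdealSheafData.ext_of_iSup_eq_top
    (fun i : {p : X.affineOpens × Y.affineOpens // p.1.1 ≤ f ⁻¹ᵁ p.2.1} => i.1.1)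
    (iSup_affine_charts_eq_top f)
  rintro ⟨⟨U, V⟩, e⟩
  simp only [IdealSheafData.ideal_mul, Pi.mul_apply]
  rw [ideal_comap f _ U V e, ideal_comap f K₁ U V e, ideal_comap f K₂ U V e,
    IdealSheafData.ideal_mul, Pi.mul_apply, Ideal.map_mul]

/-- Pullback of ideal sheaves commutes with powers. -/
theorem comap_pow {X Y : Scheme.{u}} (f : X ⟶ Y) (K : Y.IdealSheafData) (n : ℕ) :
    (K ^ n).comap f = K.comap f ^ n := by
  induction n with
  | zero => simp [IdealSheafData.comap_top]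
  | succ n ih => rw [pow_succ, pow_succ, comap_mul, ih]

end Groth.Agent.Lib.Helper20
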