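import Mathlib

/-!
# Annihilators of finite modules commute with localization (helper20)
-/

namespace Groth.Agent.Lib.Helper20.AnnLoc

theorem map_annihilator_of_isLocalizedModule {R R' M M' : Type*} [CommRing R] [CommRing R']
    [Algebra R R'] [AddCommGroup M] [Module R M] [AddCommGroup M'] [Module R M'] [Module R' M']
    [IsScalarTower R R' M'] (S : Submonoid R) [IsLocalization S R'] (f : M →ₗ[R] M')
    [IsLocalizedModule S f] [Module.Finite R M] :
    (Module.annihilator R M).map (algebraMap R R') = Module.annihilator R' M' := by
  classical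
  apply le_antisymm
  · rw [Ideal.map_le_iff_le_comap]
    intro a ha
    rw [Ideal.mem_comap, Module.mem_annihilator]
    intro m'
    obtain ⟨⟨m, s⟩, hm⟩ := IsLocalizedModule.surj S f m'
    have h1 : s • (a • m') = 0 := by
      rw [smul_comm, hm, ← map_smul, Module.mem_annihilator.1 ha m, map_zero]
    have h2 := IsLocalizedModule.smul_injective f s
    have h3 : a • m' = 0 := h2 (by
      show s • (a • m') = s • (0 : M')
      rw [h1, smul_zero])
    rw [algebraMap_smul]
    exact h3
  · intro a' ha'
    obtain ⟨⟨a, s⟩, has⟩ := IsLocalization.surj S a'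
    have hu : IsUnit (algebraMap R R' s) := IsLocalization.map_units R' s
    -- `a` kills `M'`
    have hakill : ∀ m' : M', a • m' = 0 := by
      intro m'
      rw [← algebraMap_smul R' a m', ← has, mul_smul, algebraMap_smul]
      exact Module.mem_annihilator.1 ha' _
    -- a finite generating set
    obtain ⟨T, hT⟩ := (Module.Finite.fg_top : (⊤ : Submodule R M).FG)
    have hex : ∀ m : M, ∃ c : S, c • (a • m) = 0 := by
      intro m
      have h0 : f (a • m) = 0 := by rw [map_smul]; exact hakill _
      have := (IsLocalizedModule.eq_zero_iff S f).1 h0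
      exact this
    choose c hc using hex
    let d : S := ∏ t ∈ T, c t
    have hd : ((d : R) * a) ∈ Module.annihilator R M := by
      rw [Module.mem_annihilator]
      intro m
      have hm : m ∈ Submodule.span R (T : Set M) := by rw [hT]; trivial
      induction hm using Submodule.span_induction with
      | mem x hx =>
        have hx' : x ∈ T := hx
        have hdx : (d : R) = (∏ t ∈ T.erase x, (c t : R)) * (c x : R) := by
          simp only [d, Submonoid.coe_finsetProd]
          rw [Finset.prod_erase_mul T (fun t => (c t : R)) hx']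
        rw [mul_smul, hdx, mul_smul]
        have : (c x : R) • a • x = 0 := hc x
        rw [this, smul_zero]
      | zero => rw [smul_zero]
      | add x y _ _ hx hy => rw [smul_add, hx, hy, add_zero]
      | smul r x _ hx => rw [smul_comm, hx, smul_zero]
    have h1 : algebraMap R R' ((d : R) * a) ∈ (Module.annihilator R M).map (algebraMap R R') :=
      Ideal.mem_map_of_mem _ hd
    have hud : IsUnit (algebraMap R R' d) := IsLocalization.map_units R' d
    obtain ⟨v, hv⟩ := hud
    obtain ⟨w, hw⟩ := hu
    have h2 : a' = (↑v⁻¹ * ↑w⁻¹ : R') * algebraMap R R' ((d : R) * a) := by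
      rw [map_mul, ← has, ← hv, ← hw]
      have e1 : (↑v⁻¹ * ↑w⁻¹ : R') * ((v : R') * (a' * (w : R'))) =
          ((↑v⁻¹ : R') * (v : R')) * ((↑w⁻¹ : R') * (w : R')) * a' := by ring
      rw [e1, Units.inv_mul, Units.inv_mul, one_mul, one_mul]
    rw [h2]
    exact Ideal.mul_mem_left _ _ h1

end Groth.Agent.Lib.Helper20.AnnLoc
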