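import Groth.Agent.Lib.Helper20.FormalSys
import Mathlib.AlgebraicGeometry.PullbackCarrier

/-!
Adic morphisms of systems of thickenings: transfer of `IsFormal` / `IsAdic`.
-/

universe u

open CategoryTheory CategoryTheory.Limits AlgebraicGeometry

namespace Groth.Agent.Lib.Helper20

open AlgebraicGeometry.Scheme

/-- Kernel of the base change of a closed immersion, for an arbitrary cartesian square. -/
theorem ker_fst_of_isPullback {P X Y Z : Scheme.{u}} {fst : P ⟶ X} {snd : P ⟶ Z} {f : X ⟶ Y}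
    {i : Z ⟶ Y} [IsClosedImmersion i] (h : IsPullback fst snd f i) :
    fst.ker = i.ker.comap f := by
  rw [← IdealSheafData.ker_fst_of_isClosedImmersion i f, ← h.isoPullback_hom_fst,
    Scheme.Hom.ker_comp_of_isIso]

/-- Base change of a surjective closed immersion. -/
theorem closedImmersion_surjective_of_isPullback {P X Y Z : Scheme.{u}} {fst : P ⟶ X}
    {snd : P ⟶ Z} {f : X ⟶ Y} {i : Z ⟶ Y} (h : IsPullback fst snd f i)
    (hi : IsClosedImmersion i ∧ Function.Surjective i.base) :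
    IsClosedImmersion fst ∧ Function.Surjective fst.base := by
  obtain ⟨hi1, hi2⟩ := hi
  have hs : Surjective i := ⟨hi2⟩
  refine ⟨MorphismProperty.of_isPullback h.flip hi1, ?_⟩
  have : Surjective fst := MorphismProperty.of_isPullback (P := @Surjective) h.flip hs
  exact this.surj

section

variable {𝔛 𝔖 : FSch.Sys.{u}} (f : 𝔛 ⟶ 𝔖)

/-- For an adic morphism the squares `X_0 ⟶ X_n`, `S_0 ⟶ S_n` are cartesian. -/
theorem isPullback_toX (hf : FSch.IsAdicHom f) (n : ℕ) :
    IsPullback (𝔛.toX n) ((f : FSch.Hom 𝔛 𝔖).app 0) ((f : FSch.Hom 𝔛 𝔖).app n) (𝔖.toX n) := by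
  induction n with
  | zero =>
    have h1 : IsIso (𝔛.toX 0) := inferInstanceAs (IsIso (𝟙 _))
    have h2 : IsIso (𝔖.toX 0) := inferInstanceAs (IsIso (𝟙 _))
    exact IsPullback.of_horiz_isIso ⟨by simp [FSch.Sys.toX]⟩
  | succ n ih => exact ih.paste_horiz (hf n)

theorem isFormal_of_isAdicHom (hf : FSch.IsAdicHom f) (h𝔖 : 𝔖.IsFormal) : 𝔛.IsFormal :=
  fun n => closedImmersion_surjective_of_isPullback (hf n) (h𝔖 n)

theorem isClosedImmersion_toX (h𝔖 : 𝔖.IsFormal) (n : ℕ) : IsClosedImmersion (𝔖.toX n) := by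
  induction n with
  | zero => exact inferInstanceAs (IsClosedImmersion (𝟙 _))
  | succ n ih =>
    have := (h𝔖 n).1
    exact inferInstanceAs (IsClosedImmersion (𝔖.toX n ≫ 𝔖.ι n))

theorem isAdic_of_isAdicHom (hf : FSch.IsAdicHom f) (h𝔖 : 𝔖.IsFormal) (h𝔖' : 𝔖.IsAdic) :
    𝔛.IsAdic := by
  intro n
  have := (h𝔖 n).1
  have := isClosedImmersion_toX h𝔖 (n + 1)
  rw [ker_fst_of_isPullback (hf n), ker_fst_of_isPullback (isPullback_toX f hf (n + 1)), h𝔖' n,
    comap_pow]

end

end Groth.Agent.Lib.Helper20
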