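import Groth.Agent.Lib.Helper20.IdealComap
import Groth.Prelude.Def_FSch3
import Mathlib.RingTheory.Localization.Finiteness
import Mathlib.RingTheory.LocalProperties.Basic

/-!
Finite type ideal sheaves (`FSch.IdealFT`): locality and pullback.
-/

universe u

open CategoryTheory CategoryTheory.Limits AlgebraicGeometry

namespace Groth.Agent.Lib.Helper20

open AlgebraicGeometry.Scheme

/-- Finite generation of the ideal on an affine open can be checked on a cover by basic opens. -/
theorem ideal_fg_of_basicOpen_cover {X : Scheme.{u}} (I : X.IdealSheafData) (U : X.affineOpens)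
    (s : Set Γ(X, U.1)) (hs : Ideal.span s = ⊤)
    (H : ∀ r ∈ s, (I.ideal (X.affineBasicOpen r)).FG) : (I.ideal U).FG := by
  have inst := U.2.isLocalization_basicOpen
  refine Submodule.of_localizationSpan' s hs (Rₚ := fun g => Γ(X, X.basicOpen g.1))
    (Mₚ := fun g => Γ(X, X.basicOpen g.1))
    (fun g => Algebra.linearMap Γ(X, U.1) Γ(X, X.basicOpen g.1)) ?_
  rintro ⟨r, hr⟩
  rw [Ideal.localized'_eq_map, RingHom.algebraMap_toAlgebra, I.map_ideal_basicOpen]
  exact H r hr

/-- On a locally Noetherian scheme every ideal sheaf is of finite type. -/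
theorem idealFT_of_isLocallyNoetherian {X : Scheme.{u}} [IsLocallyNoetherian X]
    (I : X.IdealSheafData) : FSch.IdealFT I := fun U =>
  have := IsLocallyNoetherian.component_noetherian U
  IsNoetherian.noetherian _

/-- The pullback of a finite type ideal sheaf is of finite type. -/
theorem idealFT_comap {X Y : Scheme.{u}} (f : X ⟶ Y) (K : Y.IdealSheafData)
    (hK : FSch.IdealFT K) : FSch.IdealFT (K.comap f) := by
  intro U
  let s : Set Γ(X, U.1) := {r | ∃ V : Y.affineOpens, X.basicOpen r ≤ f ⁻¹ᵁ V.1}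
  apply ideal_fg_of_basicOpen_cover (K.comap f) U s
  · rw [← U.2.self_le_iSup_basicOpen_iff]
    intro x hxU
    obtain ⟨_, ⟨V, hV, rfl⟩, hxV, -⟩ :=
      Y.isBasis_affineOpens.exists_subset_of_mem_open (Set.mem_univ (f x)) isOpen_univ
    obtain ⟨r, hr1, hr2⟩ := U.2.exists_basicOpen_le (V := f ⁻¹ᵁ V) ⟨x, hxV⟩ hxU
    exact TopologicalSpace.Opens.mem_iSup.mpr ⟨⟨r, ⟨⟨V, hV⟩, hr1⟩⟩, hr2⟩
  · rintro r ⟨V, hrV⟩
    rw [ideal_comap f K (X.affineBasicOpen r) V hrV]
    exact (hK V).map _

end Groth.Agent.Lib.Helper20
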