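import Groth.Agent.Lib.Helper20.ThickNoeth
import Groth.Agent.Lib.Helper20.IdealFT

/-!
A system adic over a locally Noetherian adic formal system, with locally Noetherian level 0,
is a locally Noetherian adic formal system.
-/

universe u

open CategoryTheory CategoryTheory.Limits AlgebraicGeometry

namespace Groth.Agent.Lib.Helper20

theorem isLocNoethFormal_of_isAdicHom {𝔛 𝔖 : FSch.Sys.{u}} (f : 𝔛 ⟶ 𝔖)
    (h𝔖 : 𝔖.IsLocNoethFormal) (hf : FSch.IsAdicHom f) [IsLocallyNoetherian (𝔛.X 0)] :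
    𝔛.IsLocNoethFormal := by
  have hF := isFormal_of_isAdicHom f hf h𝔖.1
  have hA := isAdic_of_isAdicHom f hf h𝔖.1 h𝔖.2.1
  refine ⟨hF, hA, fun n => ?_⟩
  have hci := (h𝔖.1 0).1
  have hN := h𝔖.2.2 (0 + 1)
  have hft : FSch.IdealFT (𝔛.ι 0).ker := by
    rw [ker_fst_of_isPullback (hf 0)]
    exact idealFT_comap _ _ (idealFT_of_isLocallyNoetherian _)
  exact isLocallyNoetherian_level 𝔛 hF hA hft n

end Groth.Agent.Lib.Helper20
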