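import Groth.Agent.S0009
import Groth.Agent.S0012
import Groth.Agent.Lib.QCoh.Helper50_Nakayama
import Groth.Agent.Lib.Cohomology.Helper1_SerreVanishing

/-!
# A nilpotent thickening of an affine scheme is affine (helper20)

`isAffine_of_thickening`: let `t : X ⟶ X'` be a surjective closed immersion with `X` affine, whose
kernel ideal is nilpotent of uniformly bounded order on affine opens. Then `X'` is affine.

Proof: every quasi-coherent `K` on `X'` has `H¹(X', K) = 0` (dévissage along `K → t_* t^* K`,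
Serre vanishing on `X` and `H(X', t_* -) = H(X, -)` for affine `t`), then Serre's criterion
(`S0009`, helper1).
-/

universe u

open CategoryTheory CategoryTheory.Limits AlgebraicGeometry Opposite TopologicalSpace TensorProduct
open Groth.Agent.Lib.QCoh Scheme.Modules

namespace Groth.Agent.Lib.Helper20.ThickAffine

variable {X X' : Scheme.{u}} (t : X ⟶ X') [IsClosedImmersion t]

/-- The unit `K ⟶ t_* t^* K`. -/
noncomputable abbrev η (K : X'.Modules) :
    K ⟶ (pushforward t).obj ((Scheme.Modules.pullback t).obj K) :=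
  (pullbackPushforwardAdjunction t).unit.app K

omit [IsClosedImmersion t] in
lemma pullbackSectionsMap_eq (K : X'.Modules) (W : X'.Opens) (m : Γ(K, W)) :
    pullbackSectionsMap t (le_refl (t ⁻¹ᵁ W)) K m = (η t K).app W m := by
  have h2 : ((Scheme.Modules.pullback t).obj K).presheaf.map
      (homOfLE (le_refl (t ⁻¹ᵁ W))).op = 𝟙 _ :=
    ((Scheme.Modules.pullback t).obj K).presheaf.map_id _
  unfold pullbackSectionsMap
  rw [h2]
  rfl

section unit

variable (K : X'.Modules) [K.IsQuasicoherent] (U : X'.affineOpens)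

theorem unit_app_surjective : Function.Surjective ((η t K).app U.1) := by
  have hV : IsAffineOpen (t ⁻¹ᵁ U.1) := U.2.preimage t
  let _ : Algebra Γ(X', U.1) Γ(X, t ⁻¹ᵁ U.1) :=
    (t.appLE U.1 (t ⁻¹ᵁ U.1) le_rfl).hom.toAlgebra
  have hsurj : Function.Surjective (algebraMap Γ(X', U.1) Γ(X, t ⁻¹ᵁ U.1)) := by
    change Function.Surjective (t.appLE U.1 (t ⁻¹ᵁ U.1) le_rfl).hom
    rw [← Scheme.Hom.app_eq_appLE]
    exact t.app_surjective U.1 U.2
  obtain ⟨κ, -, hκ, -, -⟩ := exists_linearEquiv_pullback_map t le_rfl U.2 hV (𝟙 K)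
  intro y
  have hz' : ∀ z : Γ(X, t ⁻¹ᵁ U.1) ⊗[Γ(X', U.1)] Γ(K, U.1),
      ∃ m : Γ(K, U.1), z = (1 : Γ(X, t ⁻¹ᵁ U.1)) ⊗ₜ m := by
    intro z
    induction z with
    | zero => exact ⟨0, by simp⟩
    | add a b ha hb =>
      obtain ⟨m₁, rfl⟩ := ha
      obtain ⟨m₂, rfl⟩ := hb
      exact ⟨m₁ + m₂, (TensorProduct.tmul_add _ _ _).symm⟩
    | tmul b m =>
      obtain ⟨a, rfl⟩ := hsurj b
      refine ⟨a • m, ?_⟩
      rw [TensorProduct.tmul_smul, TensorProduct.smul_tmul', Algebra.smul_def, mul_one]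
  obtain ⟨m, hm⟩ := hz' (κ.symm y)
  refine ⟨m, ?_⟩
  rw [← pullbackSectionsMap_eq, ← hκ m, ← hm, LinearEquiv.apply_symm_apply]

theorem mem_smul_top_of_unit_app_eq_zero (m : Γ(K, U.1)) (h : (η t K).app U.1 m = 0) :
    m ∈ RingHom.ker (t.app U.1).hom • (⊤ : Submodule Γ(X', U.1) Γ(K, U.1)) := by
  have hV : IsAffineOpen (t ⁻¹ᵁ U.1) := U.2.preimage t
  let _ : Algebra Γ(X', U.1) Γ(X, t ⁻¹ᵁ U.1) :=
    (t.appLE U.1 (t ⁻¹ᵁ U.1) le_rfl).hom.toAlgebra
  have hsurj : Function.Surjective (algebraMap Γ(X', U.1) Γ(X, t ⁻¹ᵁ U.1)) := by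
    change Function.Surjective (t.appLE U.1 (t ⁻¹ᵁ U.1) le_rfl).hom
    rw [← Scheme.Hom.app_eq_appLE]
    exact t.app_surjective U.1 U.2
  obtain ⟨κ, -, hκ, -, -⟩ := exists_linearEquiv_pullback_map t le_rfl U.2 hV (𝟙 K)
  have h0 : (1 : Γ(X, t ⁻¹ᵁ U.1)) ⊗ₜ[Γ(X', U.1)] m = 0 := by
    apply κ.injective
    rw [map_zero, hκ m, pullbackSectionsMap_eq]
    exact h
  have h1 := mem_smul_top_of_one_tmul_eq_zero hsurj m h0
  have hker : RingHom.ker (algebraMap Γ(X', U.1) Γ(X, t ⁻¹ᵁ U.1)) =
      RingHom.ker (t.app U.1).hom := by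
    change RingHom.ker (t.appLE U.1 (t ⁻¹ᵁ U.1) le_rfl).hom = _
    rw [← Scheme.Hom.app_eq_appLE]
  rw [hker] at h1
  exact h1

theorem isQuasicoherent_pushPull :
    ((pushforward t).obj ((Scheme.Modules.pullback t).obj K)).IsQuasicoherent := by
  have : ((Scheme.Modules.pullback t).obj K).IsQuasicoherent := isQuasicoherent_pullback t K
  exact isQuasicoherent_pushforward_of_isAffineHom t _

theorem epi_unit : Epi (η t K) :=
  epi_of_forall_affine_surjective _ (unit_app_surjective t K)

theorem subsingleton_HH_pushPull [IsAffine X] :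
    Subsingleton (Coh.HH X' ((pushforward t).obj ((Scheme.Modules.pullback t).obj K)) 1) := by
  have : ((Scheme.Modules.pullback t).obj K).IsQuasicoherent := isQuasicoherent_pullback t K
  obtain ⟨e⟩ := Groth.Agent.S0012.result t ((Scheme.Modules.pullback t).obj K) 1
  have := Groth.Agent.Lib.Cohomology.H_succ_subsingleton_of_isAffine
    ((Scheme.Modules.pullback t).obj K) 0
  exact e.symm.subsingleton

end unit

/-- `K` is killed by the `n`-th power of the kernel ideal of `t` (on affine opens). -/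
def Killed (n : ℕ) (K : X'.Modules) : Prop :=
  ∀ (U : X'.affineOpens) (a : Γ(X', U.1)), a ∈ RingHom.ker (t.app U.1).hom ^ n →
    ∀ m : Γ(K, U.1), a • m = 0

theorem killed_kernel (n : ℕ) (K : X'.Modules) [K.IsQuasicoherent] (h : Killed t (n + 1) K) :
    Killed t n (kernel (η t K)) := by
  intro U a ha m'
  have hinj := app_injective_of_mono (kernel.ι (η t K)) U.1
  apply hinj
  rw [map_zero, Hom.app_smul]
  set m := (kernel.ι (η t K)).app U.1 m' with hm
  have h0 : (η t K).app U.1 m = 0 := by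
    have h1 : (kernel.ι (η t K) ≫ η t K).app U.1 m' = 0 := by
      rw [kernel.condition]; rfl
    exact h1
  have h2 := mem_smul_top_of_unit_app_eq_zero t K U m h0
  refine Submodule.smul_induction_on h2 ?_ ?_
  · intro b hb x _
    rw [← mul_smul]
    refine h U (a * b) ?_ x
    rw [pow_succ]
    exact Ideal.mul_mem_mul ha hb
  · intro x y hx hy
    rw [smul_add, hx, hy, add_zero]

theorem subsingleton_HH_of_killed [IsAffine X] : ∀ (n : ℕ) (K : X'.Modules) [K.IsQuasicoherent],
    Killed t n K → Subsingleton (Coh.HH X' K 1) := by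
  intro n
  induction n with
  | zero =>
    intro K _ h
    refine Groth.Agent.Lib.Cohomology.SerreCrit.subsingleton_HH_of_isZero K ?_ 1
    rw [IsZero.iff_id_eq_zero]
    apply eq_zero_of_affine
    intro U m
    have h1 : (1 : Γ(X', U.1)) • m = 0 := h U 1 (by rw [pow_zero, Ideal.one_eq_top]; trivial) m
    rw [one_smul] at h1
    rw [h1, map_zero]
  | succ n ih =>
    intro K _ h
    have hq := isQuasicoherent_pushPull t K
    have hK' : (kernel (η t K)).IsQuasicoherent := isQuasicoherent_kernel (η t K)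
    have h1 : Subsingleton (Coh.HH X' (kernel (η t K)) 1) := ih _ (killed_kernel t n K h)
    have h3 := subsingleton_HH_pushPull t K
    have := epi_unit t K
    let S : ShortComplex X'.Modules :=
      ShortComplex.mk (kernel.ι (η t K)) (η t K) (kernel.condition _)
    have hS : S.ShortExact :=
      { exact := S.exact_of_f_is_kernel (kernelIsKernel (η t K))
        mono_f := inferInstanceAs (Mono (kernel.ι (η t K)))
        epi_g := inferInstanceAs (Epi (η t K)) }
    exact Groth.Agent.Lib.Cohomology.SerreCrit.subsingleton_HH_mid S hS 1 h1 h3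

/-- **A nilpotent thickening of an affine scheme is affine.** -/
theorem isAffine_of_thickening (ht : Function.Surjective t) [IsAffine X] (n : ℕ)
    (hn : ∀ U : X'.affineOpens, RingHom.ker (t.app U.1).hom ^ n = ⊥) : IsAffine X' := by
  have : CompactSpace X' := ht.compactSpace t.continuous
  refine Groth.Agent.S0009.result X' fun I i _ hq => ?_
  have : I.IsQuasicoherent := hq
  refine subsingleton_HH_of_killed t n I ?_
  intro U a ha m
  rw [hn U] at ha
  rw [(Submodule.mem_bot _).1 ha, zero_smul]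

end Groth.Agent.Lib.Helper20.ThickAffine
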