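import Groth.Agent.Lib.Helper20.AnnLoc
import Groth.Agent.Lib.Helper61.QCohSections
import Groth.Agent.Lib.QCoh.Helper18_IdealPow
import Groth.Agent.Lib.Helper20.ThickAffine
import Groth.Agent.Lib.QCoh.Helper50_BaseChange

/-!
# The annihilator ideal sheaf of a quasi-coherent module of finite type (helper20)

* `annIdeal F`: the ideal sheaf `U ↦ Ann Γ(F, U)`, with support `Supp F`.
* `isIso_unit_annIdeal`: `F ⟶ j_* j^* F` is an isomorphism for `j : V(Ann F) ⟶ X`.
* `isIso_unit_of_killed`: more generally for any closed immersion whose kernel kills `F`.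
-/

universe u

open CategoryTheory CategoryTheory.Limits AlgebraicGeometry Opposite TopologicalSpace
open Groth.Agent.Lib.QCoh Scheme.Modules

namespace Groth.Agent.Lib.Helper20.AnnIdeal

open Groth.Agent.Lib.Helper61.QCohSections Groth.Agent.Lib.Helper20.ThickAffine

variable {X : Scheme.{u}}

/-- If the kernel of the closed immersion `t` kills `K`, the unit `K ⟶ t_* t^* K` is an
isomorphism. -/
theorem isIso_unit_of_killed {Z : Scheme.{u}} (t : Z ⟶ X) [IsClosedImmersion t]
    (K : X.Modules) [K.IsQuasicoherent]
    (h : ∀ (U : X.affineOpens) (a : Γ(X, U.1)), a ∈ RingHom.ker (t.app U.1).hom →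
      ∀ m : Γ(K, U.1), a • m = 0) : IsIso (η t K) := by
  refine isIso_of_bijective_app_of_isBasis (η t K) (fun U : X.affineOpens => U.1) ?_ fun U => ?_
  · have : Set.range (fun U : X.affineOpens => U.1) = X.affineOpens := by
      ext V; constructor
      · rintro ⟨U, rfl⟩; exact U.2
      · intro hV; exact ⟨⟨V, hV⟩, rfl⟩
    rw [this]
    exact X.isBasis_affineOpens
  · refine ⟨?_, unit_app_surjective t K U⟩
    rw [injective_iff_map_eq_zero]
    intro m hm
    have h2 := mem_smul_top_of_unit_app_eq_zero t K U m hm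
    refine Submodule.smul_induction_on h2 ?_ ?_
    · intro b hb x _
      exact h U b hb x
    · intro x y hx hy
      rw [hx, hy, add_zero]

variable (F : X.Modules) [F.IsQuasicoherent] [F.IsFiniteType]

theorem map_annihilator_basicOpen (U : X.affineOpens) (g : Γ(X, U.1)) :
    (Module.annihilator Γ(X, U.1) Γ(F, U.1)).map
        (X.presheaf.map (homOfLE (X.basicOpen_le g)).op).hom =
      Module.annihilator Γ(X, X.basicOpen g) Γ(F, X.basicOpen g) := by
  letI := resModule F (X.basicOpen_le g)
  haveI : IsScalarTower Γ(X, U.1) Γ(X, X.basicOpen g) Γ(F, X.basicOpen g) :=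
    isScalarTower_res F (X.basicOpen_le g)
  haveI : IsLocalization.Away g Γ(X, X.basicOpen g) := U.2.isLocalization_basicOpen g
  haveI := isLocalizedModule_res_basicOpen F U.2 g
  haveI : Module.Finite Γ(X, U.1) Γ(F, U.1) := finite_Γ_of_isAffineOpen U.2 F
  exact AnnLoc.map_annihilator_of_isLocalizedModule (Submonoid.powers g)
    (resLinear F (X.basicOpen_le g))

theorem mem_support_iff_mem_zeroLocus (U : X.affineOpens) (x : X) (hx : x ∈ U.1) :
    x ∈ CohB1.support F ↔
      x ∈ X.zeroLocus (U := U.1) (Module.annihilator Γ(X, U.1) Γ(F, U.1) : Set Γ(X, U.1)) := by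
  haveI : Module.Finite Γ(X, U.1) Γ(F, U.1) := finite_Γ_of_isAffineOpen U.2 F
  rw [← mem_support_iff_primeIdealOf_mem_support F U.2 x hx, Module.support_eq_zeroLocus,
    Scheme.mem_zeroLocus_iff, PrimeSpectrum.mem_zeroLocus]
  constructor
  · intro h f hf hxf
    exact (notMem_primeIdealOf_iff U.2 x hx f).2 hxf (h hf)
  · intro h f hf
    by_contra hcon
    exact h f hf ((notMem_primeIdealOf_iff U.2 x hx f).1 hcon)

/-- The annihilator ideal sheaf of a quasi-coherent module of finite type. -/
noncomputable def annIdeal : X.IdealSheafData :=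
  Scheme.IdealSheafData.mkOfMemSupportIff
    (fun U => Module.annihilator Γ(X, U.1) Γ(F, U.1))
    (fun U g => map_annihilator_basicOpen F U g) (CohB1.support F)
    (fun U x hx => mem_support_iff_mem_zeroLocus F U x hx)

theorem annIdeal_ideal (U : X.affineOpens) :
    (annIdeal F).ideal U = Module.annihilator Γ(X, U.1) Γ(F, U.1) := rfl

theorem annIdeal_support : ((annIdeal F).support : Set X) = CohB1.support F := rfl

theorem isIso_unit_annIdeal :
    IsIso ((pullbackPushforwardAdjunction (annIdeal F).subschemeι).unit.app F) := by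
  refine isIso_unit_of_killed (annIdeal F).subschemeι F ?_
  intro U a ha m
  rw [Scheme.IdealSheafData.ker_subschemeι_app, annIdeal_ideal] at ha
  exact Module.mem_annihilator.1 ha m

end Groth.Agent.Lib.Helper20.AnnIdeal
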