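import Groth.Agent.Lib.Helper20.CohCentre
import Groth.Agent.Lib.QCoh.FiniteType

/-!
# helper20: graph trick for morphisms defined on an open subset

`exists_graph_hom`: `X` locally Noetherian, `G` coherent, `M` quasi-coherent, `U` open and
`φ : G|_U ⟶ M|_U`.  Then there is a coherent subobject `j : H ↪ G ⊞ M` whose first projection is an
isomorphism over `U` and whose second projection is, over `U`, the first projection followed by `φ`.
-/

universe u
open CategoryTheory CategoryTheory.Limits AlgebraicGeometry Opposite TopologicalSpace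

namespace Groth.Agent.Lib.Helper20.DevGraph

open Groth.Agent.Lib.QCoh Scheme.Modules Groth.Agent.Lib.Helper20.CohCentre

variable {X : Scheme.{u}}

theorem exists_graph_hom (hX : ∀ x : X, ∃ U : X.Opens, x ∈ U ∧ NoetherianSpace (U : Set X))
    (G M : X.Modules) [G.IsQuasicoherent] [G.IsFiniteType] [M.IsQuasicoherent] (U : X.Opens)
    (φ : (restrictFunctor U.ι).obj G ⟶ (restrictFunctor U.ι).obj M) :
    ∃ (H : X.Modules) (j : H ⟶ G ⊞ M), Mono j ∧ H.IsQuasicoherent ∧ H.IsFiniteType ∧
      IsIso ((restrictFunctor U.ι).map (j ≫ biprod.fst)) ∧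
      (restrictFunctor U.ι).map (j ≫ biprod.snd) =
        (restrictFunctor U.ι).map (j ≫ biprod.fst) ≫ φ := by
  haveI hP : (G ⊞ M).IsQuasicoherent := isQuasicoherent_biprod _ _
  haveI hGU : ((restrictFunctor U.ι).obj G).IsQuasicoherent := isQuasicoherent_restrict U.ι G
  haveI hGU' : ((restrictFunctor U.ι).obj G).IsFiniteType := isFiniteType_restrict U.ι G
  let i : (restrictFunctor U.ι).obj G ⟶ (restrictFunctor U.ι).obj (G ⊞ M) :=
    (restrictFunctor U.ι).map biprod.inl + φ ≫ (restrictFunctor U.ι).map biprod.inr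
  have hi1 : i ≫ (restrictFunctor U.ι).map biprod.fst = 𝟙 _ := by
    simp only [i, Preadditive.add_comp, Category.assoc, ← Functor.map_comp, biprod.inl_fst,
      biprod.inr_fst, restrictFunctor_map_zero, comp_zero, add_zero]
    exact (restrictFunctor U.ι).map_id _
  have hi2 : i ≫ (restrictFunctor U.ι).map biprod.snd = φ := by
    simp only [i, Preadditive.add_comp, Category.assoc, ← Functor.map_comp, biprod.inl_snd,
      biprod.inr_snd, restrictFunctor_map_zero, comp_zero, zero_add]
    exact (congrArg (fun t => φ ≫ t) ((restrictFunctor U.ι).map_id _)).trans (Category.comp_id _)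
  haveI : Mono i := by
    have : Mono (i ≫ (restrictFunctor U.ι).map biprod.fst) := by rw [hi1]; infer_instance
    exact mono_of_mono i ((restrictFunctor U.ι).map biprod.fst)
  obtain ⟨H, j, e, hmono, hq, hft, he⟩ :=
    SubExt.master_locallyNoetherian hX U (G ⊞ M) ((restrictFunctor U.ι).obj G) i
  have ha : (restrictFunctor U.ι).map (j ≫ biprod.fst) = e.hom := by
    rw [Functor.map_comp, ← he, Category.assoc, hi1, Category.comp_id]
  have hb : (restrictFunctor U.ι).map (j ≫ biprod.snd) = e.hom ≫ φ := by
    rw [Functor.map_comp, ← he, Category.assoc, hi2]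
  refine ⟨H, j, hmono, hq, hft, ?_, ?_⟩
  · rw [ha]; infer_instance
  · rw [hb, ha]

end Groth.Agent.Lib.Helper20.DevGraph
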