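import Groth.Agent.Lib.Helper20.PushO
import Groth.Agent.Lib.Helper20.DevGraph
import Groth.Agent.Lib.QCoh.Helper18_StalkHomSpread
import Groth.Agent.Lib.QCoh.Helper18_StalkLocal
import Groth.Agent.Lib.QCoh.Helper18_AssRestrict
import Mathlib.RingTheory.Ideal.AssociatedPrime.Basic

/-!
# helper20: associated points and local monomorphisms from `O_Z` (`Z` the closure of the point)
-/

universe u
open CategoryTheory CategoryTheory.Limits AlgebraicGeometry Opposite TopologicalSpace

namespace Groth.Agent.Lib.Helper20.AssMono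

open Groth.Agent.Lib.QCoh Groth.Agent.Lib.Helper20.DevLen Scheme.Modules

section Alg

theorem isAssociatedPrime_maximalIdeal_iff {R : Type*} [CommRing R] [IsLocalRing R]
    [IsNoetherianRing R] {A B : Type*} [AddCommGroup A] [Module R A] [AddCommGroup B] [Module R B]
    (hA : Module.length R A = 1) :
    IsAssociatedPrime (IsLocalRing.maximalIdeal R) B ↔
      ∃ ψ : A →ₗ[R] B, Function.Injective ψ := by
  have hAs : IsSimpleModule R A := Module.length_eq_one_iff.1 hA
  obtain ⟨I, hI, ⟨e⟩⟩ := isSimpleModule_iff_quot_maximal.1 hAs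
  obtain rfl : I = IsLocalRing.maximalIdeal R := IsLocalRing.eq_maximalIdeal hI
  rw [isAssociatedPrime_iff_exists_injective_linearMap]
  constructor
  · rintro ⟨-, f, hf⟩
    exact ⟨f.comp e.toLinearMap, hf.comp e.injective⟩
  · rintro ⟨ψ, hψ⟩
    exact ⟨inferInstance, ψ.comp e.symm.toLinearMap, hψ.comp e.symm.injective⟩

end Alg

variable {X : Scheme.{u}}

/-- The structure sheaf of the reduced closed subscheme on the closure of `ξ`, as an `O_X`-module. -/
noncomputable abbrev OZ (X : Scheme.{u}) (ξ : X) : X.Modules :=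
  (Scheme.Modules.pushforward
    (Scheme.IdealSheafData.vanishingIdeal ⟨closure {ξ}, isClosed_closure⟩).subschemeι).obj
    (Coh.structureModule
      (Scheme.IdealSheafData.vanishingIdeal ⟨closure {ξ}, isClosed_closure⟩).subscheme)

theorem isCoh_OZ (ξ : X) : Coh.IsCoh (OZ X ξ) :=
  Groth.Agent.Lib.Helper20.PushO.isCoh_push_structureModule _

theorem length_OZ (ξ : X) : L ξ (OZ X ξ) = 1 := by
  let W : Closeds X := ⟨closure {ξ}, isClosed_closure⟩
  have hW : IsIrreducible (W : Set X) := isIrreducible_singleton.closure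
  haveI hint : IsIntegral (Scheme.IdealSheafData.vanishingIdeal W).subscheme :=
    Groth.Agent.Lib.Helper21.RedSubscheme.isIntegral_vanishingIdeal_subscheme W hW
  have hr : Set.range (Scheme.IdealSheafData.vanishingIdeal W).subschemeι = closure {ξ} :=
    Groth.Agent.Lib.Helper21.RedSubscheme.range_subschemeι_vanishingIdeal W
  have hce : Topology.IsClosedEmbedding (Scheme.IdealSheafData.vanishingIdeal W).subschemeι :=
    (Scheme.IdealSheafData.vanishingIdeal W).subschemeι.isClosedEmbedding
  have h1 : closure ({(Scheme.IdealSheafData.vanishingIdeal W).subschemeι (genericPoint _)} :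
      Set X) = closure {ξ} := by
    rw [← Set.image_singleton, hce.closure_image_eq, genericPoint_closure, Set.image_univ, hr]
  have h2 : IsGenericPoint ((Scheme.IdealSheafData.vanishingIdeal W).subschemeι (genericPoint _))
      (closure {ξ}) := h1
  have hgp : (Scheme.IdealSheafData.vanishingIdeal W).subschemeι (genericPoint _) = ξ :=
    h2.eq isGenericPoint_closure
  have h3 := Groth.Agent.Lib.Helper20.PushStalk.length_stalk_push_structureModule
    (Scheme.IdealSheafData.vanishingIdeal W).subschemeι (genericPoint _)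
  have h4 : Module.length
      ((Scheme.IdealSheafData.vanishingIdeal W).subscheme.presheaf.stalk (genericPoint _))
      ((Scheme.IdealSheafData.vanishingIdeal W).subscheme.presheaf.stalk (genericPoint _)) = 1 :=
    Groth.Agent.Lib.Helper20.DevPoint.length_self_field
      (Scheme.IdealSheafData.vanishingIdeal W).subscheme.functionField
  rw [h4] at h3
  have transport : ∀ ξ'' : X, ξ'' = ξ → ∀ G : X.Modules,
      Module.length (X.presheaf.stalk ξ'') (G.presheaf.stalk ξ'') = 1 →
      Module.length (X.presheaf.stalk ξ) (G.presheaf.stalk ξ) = 1 := by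
    rintro _ rfl G h
    exact h
  exact transport _ hgp _ h3

/-- spreading out a linear map of stalks, quasi-coherent target -/
theorem exists_hom_restrict_with_stalk_eq' (X : Scheme.{u}) [IsLocallyNoetherian X]
    (F G : X.Modules) [F.IsQuasicoherent] (hG : Coh.IsCoh G) (x : X)
    (ψ : ↑(G.presheaf.stalk x) →ₗ[X.presheaf.stalk x] ↑(F.presheaf.stalk x)) :
    ∃ (U : X.Opens) (hx : x ∈ U)
      (φ : (Scheme.Modules.restrictFunctor U.ι).obj G ⟶ (Scheme.Modules.restrictFunctor U.ι).obj F),
      (Scheme.Modules.restrictStalkNatIso U.ι (⟨x, hx⟩ : U)).inv.app G ≫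
          (TopCat.Presheaf.stalkFunctor _ (⟨x, hx⟩ : U)).map φ.mapPresheaf ≫
            (Scheme.Modules.restrictStalkNatIso U.ι (⟨x, hx⟩ : U)).hom.app F =
        AddCommGrpCat.ofHom ψ.toAddMonoidHom := by
  have := hG.1
  have := hG.2
  have : G.IsFinitePresentation := isFinitePresentation_of_isLocallyNoetherian G
  obtain ⟨θ, hθ⟩ := (RefHull74.evalStalk_bijective G F x).2 ψ
  obtain ⟨U, hxU, g, rfl⟩ := TopCat.Presheaf.exists_germ_eq (RefHull.homSh G F).presheaf θ
  rw [RefHull.evalStalk_germ] at hθ
  refine ⟨U, hxU, StalkHomSpread.homOfSection g, ?_⟩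
  ext a
  refine (StalkHomSpread.stalk_homOfSection_apply g x hxU a).trans ?_
  rw [hθ]
  rfl

end Groth.Agent.Lib.Helper20.AssMono
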