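import Groth.Agent.Lib.Helper20.AssMono

/-!
# helper20: `x ∈ Ass F` iff there is a monomorphism `O_Z|_U → F|_U` near `x`
-/

universe u
open CategoryTheory CategoryTheory.Limits AlgebraicGeometry Opposite TopologicalSpace

namespace Groth.Agent.Lib.Helper20.AssMono

open Groth.Agent.Lib.QCoh Groth.Agent.Lib.Helper20.DevLen Scheme.Modules

variable {X : Scheme.{u}}

theorem exists_mono_of_isAssPoint [IsLocallyNoetherian X] (F : X.Modules) [F.IsQuasicoherent]
    (x : X) (hx : Curv2.IsAssPoint F x) :
    ∃ (U : X.Opens), x ∈ U ∧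
      ∃ φ : (Scheme.Modules.pullback U.ι).obj (OZ X x) ⟶ (Scheme.Modules.pullback U.ι).obj F,
        Mono φ := by
  have hO := isCoh_OZ (X := X) x
  haveI : (OZ X x).IsQuasicoherent := hO.1
  haveI : (OZ X x).IsFiniteType := hO.2
  obtain ⟨ψ, hψ⟩ := (isAssociatedPrime_maximalIdeal_iff (R := X.presheaf.stalk x)
    (A := (OZ X x).presheaf.stalk x) (B := F.presheaf.stalk x) (length_OZ x)).1 hx
  obtain ⟨U, hxU, φ, hφ⟩ := exists_hom_restrict_with_stalk_eq' X F (OZ X x) hO x ψ
  have hX : ∀ y : X, ∃ V : X.Opens, y ∈ V ∧ NoetherianSpace (V : Set X) := by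
    intro y
    obtain ⟨V, hV0, hyV, -⟩ := Opens.isBasis_iff_nbhd.1 (X.isBasis_affineOpens)
      (show y ∈ (⊤ : X.Opens) from trivial)
    have hV : IsAffineOpen V := hV0
    haveI : IsNoetherianRing Γ(X, V) := IsLocallyNoetherian.component_noetherian ⟨V, hV⟩
    exact ⟨V, hyV, noetherianSpace_of_isAffineOpen V hV⟩
  obtain ⟨H, j, hj, hHq, hHf, hiso, hcomm⟩ :=
    Groth.Agent.Lib.Helper20.DevGraph.exists_graph_hom hX (OZ X x) F U φ
  have hH : Coh.IsCoh H := ⟨hHq, hHf⟩
  let u : U := ⟨x, hxU⟩
  have ha : Function.Bijective (stalkMap (j ≫ biprod.fst) x) := by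
    have h1 : Function.Bijective
        (stalkMap ((restrictFunctor U.ι).map (j ≫ biprod.fst)) u) := by
      have hi2 : IsIso ((stalkFunctor U u).map ((restrictFunctor U.ι).map (j ≫ biprod.fst))) :=
        Functor.map_isIso _ _
      exact (ConcreteCategory.isIso_iff_bijective _).1 hi2
    exact (StalkLocal.bijective_stalkMap_restrict_iff U (j ≫ biprod.fst) u).1 h1
  have hφinj : Function.Injective (stalkMap φ u) := by
    intro a₁ a₂ h12
    have hbijG := StalkLocal.bijective_restrictStalkNatIso_app U u (OZ X x)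
    have key : ∀ a : ((restrictFunctor U.ι).obj (OZ X x)).presheaf.stalk u,
        ψ ((restrictStalkNatIso U.ι u).hom.app (OZ X x) a) =
          (restrictStalkNatIso U.ι u).hom.app F (stalkMap φ u a) := by
      intro a
      have h2 := ConcreteCategory.congr_hom hφ ((restrictStalkNatIso U.ι u).hom.app (OZ X x) a)
      rw [ConcreteCategory.comp_apply, ConcreteCategory.comp_apply] at h2
      have h3 : (restrictStalkNatIso U.ι u).inv.app (OZ X x)
          ((restrictStalkNatIso U.ι u).hom.app (OZ X x) a) = a := by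
        rw [← ConcreteCategory.comp_apply, Iso.hom_inv_id_app]
        rfl
      rw [h3] at h2
      exact h2.symm
    apply hbijG.1
    apply hψ
    rw [key, key, h12]
  have hb : Function.Injective (stalkMap (j ≫ biprod.snd) x) := by
    have h1 : Function.Injective
        (stalkMap ((restrictFunctor U.ι).map (j ≫ biprod.snd)) u) := by
      rw [hcomm]
      intro a₁ a₂ h12
      rw [stalkMap_comp_apply, stalkMap_comp_apply] at h12
      have h3 : Function.Bijective
          (stalkMap ((restrictFunctor U.ι).map (j ≫ biprod.fst)) u) := by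
        have hi2 : IsIso ((stalkFunctor U u).map ((restrictFunctor U.ι).map (j ≫ biprod.fst))) :=
          Functor.map_isIso _ _
        exact (ConcreteCategory.isIso_iff_bijective _).1 hi2
      exact h3.1 (hφinj h12)
    exact (StalkLocal.injective_stalkMap_restrict_iff U (j ≫ biprod.snd) u).1 h1
  -- the open locus
  let V : X.Opens := ⟨{y | Function.Bijective (stalkMap (j ≫ biprod.fst) y)} ∩
      {y | Function.Injective (stalkMap (j ≫ biprod.snd) y)},
    (ZClosLib.isOpen_setOf_bijective_stalkMap hH hO (j ≫ biprod.fst)).inter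
      (StalkLocal.isOpen_setOf_injective_stalkMap hH (j ≫ biprod.snd))⟩
  have hxV : x ∈ V := ⟨ha, hb⟩
  haveI hisoV : IsIso ((restrictFunctor V.ι).map (j ≫ biprod.fst)) := by
    apply ZClosLib.isIso_of_forall_stalkMap_bijective
    intro v
    exact (StalkLocal.bijective_stalkMap_restrict_iff V (j ≫ biprod.fst) v).2 v.2.1
  haveI hmonoV : Mono ((restrictFunctor V.ι).map (j ≫ biprod.snd)) := by
    apply ZClosLib.mono_of_forall_stalkMap_injective
    intro v
    exact (StalkLocal.injective_stalkMap_restrict_iff V (j ≫ biprod.snd) v).2 v.2.2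
  refine ⟨V, hxV, (restrictFunctorIsoPullback V.ι).inv.app (OZ X x) ≫
    (inv ((restrictFunctor V.ι).map (j ≫ biprod.fst)) ≫
      (restrictFunctor V.ι).map (j ≫ biprod.snd)) ≫
    (restrictFunctorIsoPullback V.ι).hom.app F, ?_⟩
  infer_instance

theorem isAssPoint_of_mono [IsLocallyNoetherian X] (F : X.Modules) [F.IsQuasicoherent]
    (x : X) (U : X.Opens) (hxU : x ∈ U)
    (φ : (Scheme.Modules.pullback U.ι).obj (OZ X x) ⟶ (Scheme.Modules.pullback U.ι).obj F)
    [Mono φ] : Curv2.IsAssPoint F x := by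
  have hO := isCoh_OZ (X := X) x
  haveI : (OZ X x).IsQuasicoherent := hO.1
  let u : U := ⟨x, hxU⟩
  have hinj : Function.Injective (stalkMapₗ φ u) := stalkMap_injective_of_mono φ u
  have hlen : Module.length ((U : Scheme.{u}).presheaf.stalk u)
      (((Scheme.Modules.pullback U.ι).obj (OZ X x)).presheaf.stalk u) = 1 := by
    rw [AssRestrict.length_stalk_pullback_ι U (OZ X x) u]
    exact length_OZ x
  have h1 : Curv2.IsAssPoint ((Scheme.Modules.pullback U.ι).obj F) u :=
    (isAssociatedPrime_maximalIdeal_iff hlen).2 ⟨stalkMapₗ φ u, hinj⟩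
  exact (AssRestrict.isAssPoint_pullback_ι_iff U F u).1 h1

end Groth.Agent.Lib.Helper20.AssMono
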