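import Groth.Agent.Lib.QCoh.Helper66_SubExt3
import Groth.Agent.Lib.QCoh.Helper74_LocFreeLift
import Groth.Agent.Lib.QCoh.Helper74_IsoLocus
import Groth.Agent.Lib.QCoh.Helper50_Products

/-!
# helper20: graph trick for sections of quasi-coherent modules on locally Noetherian schemes

`exists_graph`: for a quasi-coherent module `M` on a locally Noetherian scheme, an open `U` and a
section `m` of `M` over `U`, there are a coherent module `G` with maps `a : G ⟶ O_X`, `b : G ⟶ M`
such that `a` is an isomorphism over `U` and the section `s` of `G` over `U` with `a s = 1` has `b s = m`.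
-/

universe u
open CategoryTheory CategoryTheory.Limits AlgebraicGeometry Opposite TopologicalSpace

namespace Groth.Agent.Lib.Helper20.CohCentre

open Groth.Agent.Lib.QCoh Groth.Agent.Lib.QCoh.Lift74 Scheme.Modules

variable {X : Scheme.{u}}

lemma restrictFunctor_map_zero {Y : Scheme.{u}} (f : Y ⟶ X) [IsOpenImmersion f] (M N : X.Modules) :
    (restrictFunctor f).map (0 : M ⟶ N) = 0 := by
  ext U
  rfl

theorem exists_graph (hX : ∀ x : X, ∃ U : X.Opens, x ∈ U ∧ NoetherianSpace (U : Set X))
    (M : X.Modules) [M.IsQuasicoherent] (U : X.Opens) (m : Γ(M, U.ι ''ᵁ ⊤)) :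
    ∃ (G : X.Modules) (a : G ⟶ Coh.structureModule X) (b : G ⟶ M) (s : Γ(G, U.ι ''ᵁ ⊤)),
      G.IsQuasicoherent ∧ G.IsFiniteType ∧ IsIso ((restrictFunctor U.ι).map a) ∧
      a.app (U.ι ''ᵁ ⊤) s = (1 : Γ(X, U.ι ''ᵁ ⊤)) ∧ b.app (U.ι ''ᵁ ⊤) s = m := by
  haveI hO : (Coh.structureModule X).IsQuasicoherent := (IsoLocus74.isCoh_structureModule X).1
  haveI hP : (Coh.structureModule X ⊞ M).IsQuasicoherent := isQuasicoherent_biprod _ _
  haveI hOU : (Coh.structureModule (U : Scheme.{u})).IsQuasicoherent :=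
    (IsoLocus74.isCoh_structureModule _).1
  haveI hOU' : (Coh.structureModule (U : Scheme.{u})).IsFiniteType :=
    (IsoLocus74.isCoh_structureModule _).2
  let m' : Γ(M.restrict U.ι, ⊤) := m
  let u : Coh.structureModule (U : Scheme.{u}) ⟶ M.restrict U.ι := unitHomOfTop (M.restrict U.ι) m'
  let i : Coh.structureModule (U : Scheme.{u}) ⟶ (Coh.structureModule X ⊞ M).restrict U.ι :=
    (restrictUnitIso U.ι).inv ≫ (restrictFunctor U.ι).map biprod.inl +
      u ≫ (restrictFunctor U.ι).map biprod.inr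
  have hi1 : i ≫ (restrictFunctor U.ι).map biprod.fst = (restrictUnitIso U.ι).inv := by
    simp only [i, Preadditive.add_comp, Category.assoc, ← Functor.map_comp, biprod.inl_fst,
      biprod.inr_fst, restrictFunctor_map_zero, comp_zero, add_zero]
    exact (congrArg (fun t => (restrictUnitIso U.ι).inv ≫ t) ((restrictFunctor U.ι).map_id _)).trans
      (Category.comp_id _)
  have hi2 : i ≫ (restrictFunctor U.ι).map biprod.snd = u := by
    simp only [i, Preadditive.add_comp, Category.assoc, ← Functor.map_comp, biprod.inl_snd,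
      biprod.inr_snd, restrictFunctor_map_zero, comp_zero, zero_add]
    exact (congrArg (fun t => u ≫ t) ((restrictFunctor U.ι).map_id _)).trans
      (Category.comp_id _)
  haveI : Mono i := by
    have : Mono (i ≫ (restrictFunctor U.ι).map biprod.fst) := by rw [hi1]; infer_instance
    exact mono_of_mono i ((restrictFunctor U.ι).map biprod.fst)
  obtain ⟨G', i', e, hmono, hq, hft, he⟩ :=
    SubExt.master_locallyNoetherian hX U (Coh.structureModule X ⊞ M)
      (Coh.structureModule (U : Scheme.{u})) i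
  have ha : (restrictFunctor U.ι).map (i' ≫ biprod.fst) = e.hom ≫ (restrictUnitIso U.ι).inv := by
    rw [Functor.map_comp, ← he, Category.assoc, hi1]
  have hb : (restrictFunctor U.ι).map (i' ≫ biprod.snd) = e.hom ≫ u := by
    rw [Functor.map_comp, ← he, Category.assoc, hi2]
  refine ⟨G', i' ≫ biprod.fst, i' ≫ biprod.snd, e.inv.app ⊤ (1 : Γ((U : Scheme.{u}), ⊤)),
    hq, hft, ?_, ?_, ?_⟩
  · rw [ha]; infer_instance
  · have h1 : ((restrictFunctor U.ι).map (i' ≫ biprod.fst)).app ⊤
        (e.inv.app ⊤ (1 : Γ((U : Scheme.{u}), ⊤))) = (1 : Γ(X, U.ι ''ᵁ ⊤)) := by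
      rw [ha, ← ConcreteCategory.comp_apply, ← Hom.comp_app, Iso.inv_hom_id_assoc,
        restrictUnitIso_inv_app_one]
    exact h1
  · have h1 : ((restrictFunctor U.ι).map (i' ≫ biprod.snd)).app ⊤
        (e.inv.app ⊤ (1 : Γ((U : Scheme.{u}), ⊤))) = m' := by
      rw [hb, ← ConcreteCategory.comp_apply, ← Hom.comp_app, Iso.inv_hom_id_assoc]
      exact unitHomOfTop_app_one _ _
    exact h1

end Groth.Agent.Lib.Helper20.CohCentre
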