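import Groth.Prelude.Def_FSch3
import Groth.Agent.Lib.Helper20.IdealComap
import Groth.Agent.Lib.Helper38.FibreNbhd
import Groth.Agent.Lib.Helper38.ClosedImmNhd

/-!
# Completed morphisms of proper schemes versus neighbourhoods of the closed fibre (helper20)

Setting: `g : X ⟶ Z`, `h : Y ⟶ Z`, `f : X ⟶ Y` with `f ≫ h = g`, `𝓙` an ideal sheaf on `Z`.
* `isPullback_completionMap`: the levels of the completed morphism are base changes of `f`.
* `app_of_restrict`: a base-change stable property of `f` over `h⁻¹ U`, `U ⊇ V(𝓙)`, passes to all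
  levels of the completed morphism.
* `exists_opens_of_locally`: spreading a target-local property from neighbourhoods of points of
  `h⁻¹ V(𝓙)` to `h⁻¹ U` for an open `U ⊇ V(𝓙)` (`h` closed).
* `exists_opens_isClosedImmersion`: if level `0` is a closed immersion (and `f` proper), `f` is a
  closed immersion near each point of `h⁻¹ V(𝓙)`.
-/

set_option autoImplicit false
universe u

open CategoryTheory CategoryTheory.Limits AlgebraicGeometry

namespace Groth.Agent.Lib.Helper20.ComplNbhd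

open Groth.Agent.Lib.Helper20 Groth.Agent.Lib.Helper38

variable {X Y Z : Scheme.{u}} (g : X ⟶ Z) (h : Y ⟶ Z) (f : X ⟶ Y) (w : f ≫ h = g)
  (𝓙 : Z.IdealSheafData) (hc : FSch.PowCompat f (𝓙.comap g) (𝓙.comap h))

include w in
theorem isPullback_completionMap (n : ℕ) :
    IsPullback (FSch.completionToX X (𝓙.comap g) n)
      ((FSch.completionMap f (𝓙.comap g) (𝓙.comap h) hc : FSch.Hom _ _).app n) f
      (FSch.completionToX Y (𝓙.comap h) n) := by
  rw [FSch.completionMap_app]
  haveI : IsClosedImmersion (FSch.completionToX X (𝓙.comap g) n) :=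
    inferInstanceAs (IsClosedImmersion ((𝓙.comap g) ^ (n + 1)).subschemeι)
  haveI : IsClosedImmersion (FSch.completionToX Y (𝓙.comap h) n) :=
    inferInstanceAs (IsClosedImmersion ((𝓙.comap h) ^ (n + 1)).subschemeι)
  refine isPullback_of_isClosedImmersion _ _ _ _
    (Scheme.IdealSheafData.subschemeMap_subschemeι _ _ _ _).symm ?_
  change (((𝓙.comap h) ^ (n + 1)).subschemeι).ker.comap f = (((𝓙.comap g) ^ (n + 1)).subschemeι).ker
  rw [Scheme.IdealSheafData.ker_subschemeι, Scheme.IdealSheafData.ker_subschemeι, comap_pow,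
    ← Scheme.IdealSheafData.comap_comp, w]

theorem range_completionToX_subset (U : Z.Opens) (hU : (𝓙.support : Set Z) ⊆ U) (n : ℕ) :
    Set.range (FSch.completionToX Y (𝓙.comap h) n) ⊆ (h ⁻¹ᵁ U : Y.Opens) := by
  change Set.range ((𝓙.comap h) ^ (n + 1)).subschemeι ⊆ _
  rw [Scheme.IdealSheafData.range_subschemeι, Scheme.IdealSheafData.support_pow_succ,
    Scheme.IdealSheafData.support_comap]
  intro y hy
  exact hU hy

include w in
theorem app_of_restrict (P : MorphismProperty Scheme.{u}) [P.IsStableUnderBaseChange]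
    (U : Z.Opens) (hU : (𝓙.support : Set Z) ⊆ U) (hP : P (f ∣_ h ⁻¹ᵁ U)) (n : ℕ) :
    P ((FSch.completionMap f (𝓙.comap g) (𝓙.comap h) hc : FSch.Hom _ _).app n) := by
  obtain ⟨z', fst', -, -, sq⟩ := isPullback_morphismRestrict_of_isPullback f (h ⁻¹ᵁ U)
    (FSch.completionToX Y (𝓙.comap h) n) (range_completionToX_subset h 𝓙 U hU n)
    (isPullback_completionMap g h f w 𝓙 hc n)
  exact MorphismProperty.of_isPullback sq hP

theorem exists_opens_of_locally (P : MorphismProperty Scheme.{u}) [IsZariskiLocalAtTarget P]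
    [UniversallyClosed h]
    (hloc : ∀ y ∈ (𝓙.comap h).support, ∃ V : Y.Opens, y ∈ V ∧ P (f ∣_ V)) :
    ∃ U : Z.Opens, (𝓙.support : Set Z) ⊆ U ∧ P (f ∣_ h ⁻¹ᵁ U) := by
  choose V hyV hPV using hloc
  let W' : Y.Opens := ⨆ y : {y : Y // y ∈ (𝓙.comap h).support}, V y.1 y.2
  have hW' : P (f ∣_ W') := morphismRestrict_iSup f _ (fun y => hPV y.1 y.2)
  refine ⟨⟨(h '' (W' : Set Y)ᶜ)ᶜ, (h.isClosedMap _ W'.2.isClosed_compl).isOpen_compl⟩, ?_, ?_⟩
  · rintro s hs ⟨y, hy, rfl⟩
    have hy' : y ∈ (𝓙.comap h).support := by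
      rw [Scheme.IdealSheafData.support_comap]
      exact hs
    exact hy (TopologicalSpace.Opens.mem_iSup.mpr ⟨⟨y, hy'⟩, hyV y hy'⟩)
  · refine morphismRestrict_of_le f ?_ hW'
    intro y hy
    by_contra hyW
    exact hy ⟨y, hyW, rfl⟩

include w in
theorem exists_opens_isClosedImmersion [IsProper f]
    (hci : IsClosedImmersion ((FSch.completionMap f (𝓙.comap g) (𝓙.comap h) hc :
      FSch.Hom _ _).app 0)) (y : Y) (hy : y ∈ (𝓙.comap h).support) :
    ∃ V : Y.Opens, y ∈ V ∧ IsClosedImmersion (f ∣_ V) := by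
  have hA := isPullback_completionMap g h f w 𝓙 hc 0
  -- the point `y` comes from level 0
  have hy0 : y ∈ Set.range (FSch.completionToX Y (𝓙.comap h) 0) := by
    change y ∈ Set.range ((𝓙.comap h) ^ (0 + 1)).subschemeι
    rw [Scheme.IdealSheafData.range_subschemeι, Scheme.IdealSheafData.support_pow_succ]
    exact hy
  obtain ⟨y₀, rfl⟩ := hy0
  -- the fibre of `f` over `y` has at most one point
  have hsub : (f ⁻¹' {FSch.completionToX Y (𝓙.comap h) 0 y₀}).Subsingleton := by
    have key : ∀ x : X, f x = FSch.completionToX Y (𝓙.comap h) 0 y₀ →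
        ∃ x₀, FSch.completionToX X (𝓙.comap g) 0 x₀ = x ∧
          (FSch.completionMap f (𝓙.comap g) (𝓙.comap h) hc : FSch.Hom _ _).app 0 x₀ = y₀ := by
      intro x hx
      obtain ⟨p, hp1, hp2⟩ := Scheme.exists_preimage_of_isPullback hA x y₀ hx
      exact ⟨p, hp1, hp2⟩
    intro x hx x' hx'
    obtain ⟨x₀, rfl, hx₀⟩ := key x hx
    obtain ⟨x₀', rfl, hx₀'⟩ := key x' hx'
    have : x₀ = x₀' := hci.isClosedEmbedding.injective (hx₀.trans hx₀'.symm)
    rw [this]
  obtain ⟨V₀, hyV₀, hfin⟩ :=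
    exists_isFinite_morphismRestrict_of_finite_preimage_singleton f _ hsub.finite
  -- the field valued point
  let K : Type u := ((FSch.completionAlong Y (𝓙.comap h)).X 0).residueField y₀
  let z₀ : Spec (CommRingCat.of K) ⟶ (FSch.completionAlong Y (𝓙.comap h)).X 0 :=
    ((FSch.completionAlong Y (𝓙.comap h)).X 0).fromSpecResidueField y₀
  have hsq := (IsPullback.of_hasPullback
    ((FSch.completionMap f (𝓙.comap g) (𝓙.comap h) hc : FSch.Hom _ _).app 0) z₀).paste_horiz hA
  haveI : IsClosedImmersion (pullback.snd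
      ((FSch.completionMap f (𝓙.comap g) (𝓙.comap h) hc : FSch.Hom _ _).app 0) z₀) :=
    MorphismProperty.pullback_snd (P := @IsClosedImmersion) _ _ hci
  have hz : Set.range (z₀ ≫ FSch.completionToX Y (𝓙.comap h) 0) ⊆ V₀ := by
    rintro _ ⟨t, rfl⟩
    have : z₀ t = y₀ := Scheme.fromSpecResidueField_apply _ t
    rw [Scheme.Hom.comp_apply, this]
    exact hyV₀
  obtain ⟨V, hzV, hV⟩ := exists_opens_isClosedImmersion_of_isPullback f V₀ hfin _ hz hsq
  refine ⟨V, ?_, hV⟩
  obtain ⟨t⟩ : Nonempty (Spec (CommRingCat.of K)) := (inferInstance : Nonempty (PrimeSpectrum K))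
  have h1 := hzV ⟨t, rfl⟩
  have : z₀ t = y₀ := Scheme.fromSpecResidueField_apply _ t
  rw [Scheme.Hom.comp_apply, this] at h1
  exact h1

end Groth.Agent.Lib.Helper20.ComplNbhd
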