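import Groth.Agent.Lib.Helper20.ComplNbhd
import Groth.Agent.S7864

/-!
# Completed morphisms: the isomorphism case (helper20)

* `ker_le_pow_of_isIso`: if level `n` of the completed morphism is an isomorphism, the kernel of `f`
  lies in the `(n+1)`-st power of the ideal.
* `exists_opens_isIso_of_ker_le_pow`: Krull — a closed immersion near `y ∈ V(I)` whose kernel lies in
  all powers of `I` is an isomorphism near `y`.
-/

set_option autoImplicit false
universe u

open CategoryTheory CategoryTheory.Limits AlgebraicGeometry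

namespace Groth.Agent.Lib.Helper20.ComplNbhd

open Groth.Agent.Lib.Helper20 Groth.Agent.Lib.Helper38 AlgebraicGeometry.Scheme TopologicalSpace

variable {X Y Z : Scheme.{u}} (g : X ⟶ Z) (h : Y ⟶ Z) (f : X ⟶ Y) (w : f ≫ h = g)
  (𝓙 : Z.IdealSheafData) (hc : FSch.PowCompat f (𝓙.comap g) (𝓙.comap h))

theorem ker_le_pow_of_isIso (n : ℕ)
    (hiso : IsIso ((FSch.completionMap f (𝓙.comap g) (𝓙.comap h) hc : FSch.Hom _ _).app n)) :
    f.ker ≤ (𝓙.comap h) ^ (n + 1) := by
  have h1 : FSch.completionToX Y (𝓙.comap h) n =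
      inv ((FSch.completionMap f (𝓙.comap g) (𝓙.comap h) hc : FSch.Hom _ _).app n) ≫
        FSch.completionToX X (𝓙.comap g) n ≫ f := by
    rw [IsIso.eq_inv_comp, FSch.completionMap_app]
    exact (Scheme.IdealSheafData.subschemeMap_subschemeι _ _ _ _)
  have h2 : (FSch.completionToX Y (𝓙.comap h) n).ker = (𝓙.comap h) ^ (n + 1) :=
    Scheme.IdealSheafData.ker_subschemeι _
  rw [← h2, h1, ← Category.assoc]
  exact Scheme.Hom.le_ker_comp _ _

theorem exists_opens_isIso_of_ker_le_pow [IsLocallyNoetherian Y] [QuasiCompact f]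
    (I : Y.IdealSheafData) (hK : ∀ n, f.ker ≤ I ^ n) (y : Y) (hy : y ∈ I.support)
    (V₀ : Y.Opens) (hyV₀ : y ∈ V₀) (hci : IsClosedImmersion (f ∣_ V₀)) :
    ∃ V : Y.Opens, y ∈ V ∧ IsIso (f ∣_ V) := by
  obtain ⟨_, ⟨U, hU, rfl⟩, hyU, hUV⟩ :=
    Y.isBasis_affineOpens.exists_subset_of_mem_open hyV₀ V₀.2
  haveI : IsNoetherianRing Γ(Y, U) := IsLocallyNoetherian.component_noetherian ⟨U, hU⟩
  obtain ⟨r, hrJ, hrK⟩ := Groth.Agent.S7864.exists_kill (I.ideal ⟨U, hU⟩) (f.ker.ideal ⟨U, hU⟩)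
    (fun n => hK n ⟨U, hU⟩)
  have hyr : y ∈ Y.basicOpen r := by
    rw [IdealSheafData.mem_support_iff_of_mem (U := ⟨U, hU⟩) hyU, Scheme.mem_zeroLocus_iff] at hy
    have h1 := hy _ hrJ
    rw [Scheme.mem_basicOpen _ _ _ hyU] at h1 ⊢
    have h2 : Y.presheaf.germ U y hyU r + (-(Y.presheaf.germ U y hyU (r - 1))) = 1 := by
      rw [map_sub, map_one]; ring
    rcases IsLocalRing.isUnit_or_isUnit_of_add_one h2 with h3 | h3
    · exact h3
    · exact absurd (IsUnit.neg_iff _ |>.mp h3) h1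
  have hker : f.ker.ideal (Y.affineBasicOpen r) = ⊥ := by
    have h1 := f.ker.map_ideal_basicOpen ⟨U, hU⟩ r
    rw [← h1]
    refine le_bot_iff.mp (Ideal.map_le_iff_le_comap.mpr ?_)
    intro k hk
    refine Ideal.mem_comap.mpr ((Ideal.mem_bot).mpr ?_)
    have h2 := Y.toRingedSpace.isUnit_res_basicOpen r
    have h3 : (Y.presheaf.map (homOfLE (Y.basicOpen_le r)).op).hom r *
        (Y.presheaf.map (homOfLE (Y.basicOpen_le r)).op).hom k = 0 := by
      rw [← map_mul, hrK k hk, map_zero]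
    exact (IsUnit.mul_right_eq_zero h2).mp h3
  have hle : Y.basicOpen r ≤ V₀ := fun t ht => hUV (Y.basicOpen_le r ht)
  refine ⟨Y.basicOpen r, hyr, ?_⟩
  haveI : IsClosedImmersion (f ∣_ Y.basicOpen r) :=
    morphismRestrict_of_le (P := @IsClosedImmersion) f hle hci
  haveI : IsAffine (Y.basicOpen r).toScheme := (Y.affineBasicOpen r).2
  rw [IsClosedImmersion.isIso_iff_ker_eq_bot]
  refine Scheme.IdealSheafData.ext_of_isAffine ?_
  have key : ∀ (W : Y.affineOpens), W.1 = Y.basicOpen r → f.ker.ideal W = ⊥ := by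
    rintro ⟨W, hW⟩ rfl; exact hker
  have h5 := Scheme.ker_morphismRestrict_ideal f (Y.basicOpen r) ⟨⊤, isAffineOpen_top _⟩
  rw [key _ (by simp)] at h5
  exact h5

end Groth.Agent.Lib.Helper20.ComplNbhd
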