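import Mathlib.RingTheory.Length
import Mathlib.RingTheory.FiniteLength
import Mathlib.RingTheory.SimpleModule.Basic
import Mathlib.RingTheory.LocalRing.MaximalIdeal.Basic
import Mathlib.RingTheory.Artinian.Module

/-!
# helper20: a module of length one over a local ring embeds in any nonzero Artinian module
-/

namespace Groth.Agent.Lib.Helper20.DevAlg

theorem exists_injective_of_length_one {R : Type*} [CommRing R] [IsLocalRing R]
    {A B : Type*} [AddCommGroup A] [Module R A] [AddCommGroup B] [Module R B]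
    (hA : Module.length R A = 1) (hB : IsFiniteLength R B) (hB0 : Nontrivial B) :
    ∃ ψ : A →ₗ[R] B, Function.Injective ψ := by
  have hAs : IsSimpleModule R A := Module.length_eq_one_iff.1 hA
  obtain ⟨hBN, hBA⟩ := isFiniteLength_iff_isNoetherian_isArtinian.1 hB
  haveI : IsAtomic (Submodule R B) :=
    isAtomic_of_orderBot_wellFounded_lt (wellFounded_lt (α := Submodule R B))
  have htop : (⊤ : Submodule R B) ≠ ⊥ := top_ne_bot
  obtain ⟨S, hS, -⟩ := (IsAtomic.eq_bot_or_exists_atom_le (⊤ : Submodule R B)).resolve_left htop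
  have hSs : IsSimpleModule R ↥S := isSimpleModule_iff_isAtom.2 hS
  obtain ⟨I, hI, ⟨e1⟩⟩ := isSimpleModule_iff_quot_maximal.1 hAs
  obtain ⟨J, hJ, ⟨e2⟩⟩ := isSimpleModule_iff_quot_maximal.1 hSs
  have hIJ : I = J := (IsLocalRing.eq_maximalIdeal hI).trans (IsLocalRing.eq_maximalIdeal hJ).symm
  subst hIJ
  refine ⟨S.subtype.comp ((e1.trans e2.symm).toLinearMap), ?_⟩
  exact S.injective_subtype.comp (e1.trans e2.symm).injective

end Groth.Agent.Lib.Helper20.DevAlg
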