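import Mathlib.RingTheory.Length
import Mathlib.RingTheory.SimpleModule.Basic
import Mathlib.RingTheory.LocalRing.MaximalIdeal.Basic
import Mathlib.RingTheory.Finiteness.Basic

/-!
# helper20: a nonzero finite module over a local ring surjects onto any module of length one
-/

namespace Groth.Agent.Lib.Helper20.DevAlg

theorem exists_surjective_of_length_one {R : Type*} [CommRing R] [IsLocalRing R]
    {A B : Type*} [AddCommGroup A] [Module R A] [AddCommGroup B] [Module R B]
    [Module.Finite R A] (hA0 : Nontrivial A) (hB : Module.length R B = 1) :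
    ∃ ψ : A →ₗ[R] B, Function.Surjective ψ := by
  have hBs : IsSimpleModule R B := Module.length_eq_one_iff.1 hB
  have hbot : (⊥ : Submodule R A) ≠ ⊤ := bot_ne_top
  obtain ⟨A', hA', -⟩ := (IsCoatomic.eq_top_or_exists_le_coatom (⊥ : Submodule R A)).resolve_left hbot
  have hQs : IsSimpleModule R (A ⧸ A') := isSimpleModule_iff_isCoatom.2 hA'
  obtain ⟨I, hI, ⟨e1⟩⟩ := isSimpleModule_iff_quot_maximal.1 hQs
  obtain ⟨J, hJ, ⟨e2⟩⟩ := isSimpleModule_iff_quot_maximal.1 hBs
  have hIJ : I = J := (IsLocalRing.eq_maximalIdeal hI).trans (IsLocalRing.eq_maximalIdeal hJ).symm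
  subst hIJ
  refine ⟨((e1.trans e2.symm).toLinearMap).comp A'.mkQ, ?_⟩
  exact (e1.trans e2.symm).surjective.comp (Submodule.mkQ_surjective A')

end Groth.Agent.Lib.Helper20.DevAlg
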