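import Mathlib.Topology.KrullDimension
import Mathlib.Topology.Sober
import Mathlib.Topology.NoetherianSpace
import Mathlib.Order.KrullDimension

/-!
# helper20: dimension of proper irreducible closed subsets; finiteness of maximal points
-/

open Set Function Order TopologicalSpace Topology

namespace Groth.Agent.Lib.Helper20.DevDim

variable {X : Type*} [TopologicalSpace X]

/-- A proper closed irreducible subset `A` of an irreducible closed subset `A'` has
`dim A + 1 ≤ dim A'`. -/
theorem topologicalKrullDim_add_one_le {A A' : Set X} (hA : IsClosed A) (hAirr : IsIrreducible A)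
    (hA'irr : IsIrreducible A') (hAA' : A ⊆ A') (hne : A ≠ A') :
    topologicalKrullDim ↥A + 1 ≤ topologicalKrullDim ↥A' := by
  have hind : IsInducing (Set.inclusion hAA') := (IsEmbedding.inclusion hAA').isInducing
  haveI : IrreducibleSpace ↥A' := by
    have := (Subtype.preirreducibleSpace hA'irr.2)
    exact { toPreirreducibleSpace := this, toNonempty := hA'irr.1.to_subtype }
  let topA' : IrreducibleCloseds ↥A' :=
    ⟨Set.univ, IrreducibleSpace.isIrreducible_univ _, isClosed_univ⟩
  let g : WithTop (IrreducibleCloseds ↥A) → IrreducibleCloseds ↥A' := fun c =>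
    match c with
    | ⊤ => topA'
    | (c : IrreducibleCloseds ↥A) => IrreducibleCloseds.map (Set.inclusion hAA') hind.continuous c
  have hrange : IsClosed (Set.range (Set.inclusion hAA')) := by
    have : Set.range (Set.inclusion hAA') = Subtype.val ⁻¹' A := by
      ext a'
      constructor
      · rintro ⟨a, rfl⟩
        exact a.2
      · intro h
        exact ⟨⟨a'.1, h⟩, rfl⟩
    rw [this]
    exact hA.preimage continuous_subtype_val
  have hg : StrictMono g := by
    rw [WithTop.strictMono_iff]
    refine ⟨IrreducibleCloseds.map_strictMono_of_isInducing hind, fun c => ?_⟩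
    refine lt_of_le_of_ne (fun a _ => Set.mem_univ a) ?_
    intro heq
    apply hne
    apply Set.Subset.antisymm hAA'
    intro a' ha'
    have h1 : (⟨a', ha'⟩ : ↥A') ∈ (g (c : WithTop (IrreducibleCloseds ↥A)) : Set ↥A') := by
      rw [heq]
      exact Set.mem_univ _
    have h2 : (g (c : WithTop (IrreducibleCloseds ↥A)) : Set ↥A') ⊆
        Set.range (Set.inclusion hAA') :=
      closure_minimal (Set.image_subset_range _ _) hrange
    obtain ⟨a, ha⟩ := h2 h1
    have : a.1 = a' := congrArg Subtype.val ha
    rw [← this]
    exact a.2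
  haveI : Nonempty (IrreducibleCloseds ↥A) := by
    haveI : IrreducibleSpace ↥A :=
      { toPreirreducibleSpace := Subtype.preirreducibleSpace hAirr.2
        toNonempty := hAirr.1.to_subtype }
    exact ⟨⟨Set.univ, IrreducibleSpace.isIrreducible_univ _, isClosed_univ⟩⟩
  have h1 := krullDim_le_of_strictMono g hg
  rw [krullDim_WithTop] at h1
  exact h1

/-- In a Noetherian sober T0 space, a closed subset has finitely many maximal points. -/
theorem finite_maximal_points [QuasiSober X] [T0Space X] [NoetherianSpace X] (S : Set X)
    (hS : IsClosed S) : {x | x ∈ S ∧ ∀ x' ∈ S, x' ⤳ x → x' = x}.Finite := by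
  haveI : QuasiSober ↥S := (hS.isClosedEmbedding_subtypeVal).quasiSober
  have hfin : (irreducibleComponents ↥S).Finite := NoetherianSpace.finite_irreducibleComponents
  haveI : Finite (irreducibleComponents ↥S) := hfin.to_subtype
  haveI : Finite (genericPoints ↥S) := Finite.of_equiv _ (genericPoints.equiv (α := ↥S)).symm
  have hfin2 : (genericPoints ↥S).Finite := Set.toFinite _
  refine (hfin2.image Subtype.val).subset ?_
  rintro x ⟨hxS, hmax⟩
  refine ⟨⟨x, hxS⟩, ?_, rfl⟩
  -- closure {x} is an irreducible component of S
  show closure ({(⟨x, hxS⟩ : ↥S)} : Set ↥S) ∈ irreducibleComponents ↥S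
  refine ⟨isIrreducible_singleton.closure, ?_⟩
  intro C hC hle
  -- C irreducible containing closure {x}
  have hCc : IsIrreducible (closure C) := hC.closure
  let η : ↥S := hCc.genericPoint
  have hη : closure ({η} : Set ↥S) = closure C := hCc.closure_genericPoint isClosed_closure
  have hxC : (⟨x, hxS⟩ : ↥S) ∈ closure C :=
    subset_closure (hle (subset_closure (Set.mem_singleton _)))
  have hspec : η ⤳ (⟨x, hxS⟩ : ↥S) := by
    rw [specializes_iff_mem_closure, hη]
    exact hxC
  have hspec' : (η : X) ⤳ x := (subtype_specializes_iff _ _).1 hspec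
  have hηx : (η : X) = x := hmax η.1 η.2 hspec'
  have hηx' : η = ⟨x, hxS⟩ := Subtype.ext hηx
  rw [← hηx', hη]
  exact subset_closure

end Groth.Agent.Lib.Helper20.DevDim
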