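import Groth.Agent.Lib.Helper20.Devissage
import Groth.Agent.Lib.QCoh.Helper18_StalkLoc
import Groth.Prelude.Def_ClSub2

/-!
# helper20: a module killed by the ideal sheaf of `closure {ξ}` has stalk at `ξ` killed by `m_ξ`
-/

universe u
open CategoryTheory CategoryTheory.Limits AlgebraicGeometry Opposite TopologicalSpace

namespace Groth.Agent.Lib.Helper20.DevKilled

open Groth.Agent.Lib.QCoh Groth.Agent.Lib.Helper20.DevLen Scheme.Modules

variable {X : Scheme.{u}}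

theorem mem_vanishingIdeal_of_mem_primeIdealOf (ξ : X) (Z : Closeds X)
    (hZ : (Z : Set X) ⊆ closure {ξ}) (U : X.affineOpens) (hξ : ξ ∈ U.1) (a : Γ(X, U.1))
    (ha : a ∈ (U.2.primeIdealOf ⟨ξ, hξ⟩).asIdeal) :
    a ∈ (Scheme.IdealSheafData.vanishingIdeal Z).ideal U := by
  rw [Scheme.IdealSheafData.vanishingIdeal_ideal, PrimeSpectrum.mem_vanishingIdeal]
  intro q hq
  have h1 : U.2.fromSpec q ∈ closure {ξ} := hZ hq
  have h2 : ξ ⤳ U.2.fromSpec q := specializes_iff_mem_closure.2 h1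
  have h3 : U.2.fromSpec (U.2.primeIdealOf ⟨ξ, hξ⟩) = ξ := U.2.fromSpec_primeIdealOf ⟨ξ, hξ⟩
  rw [← h3] at h2
  have h4 : U.2.primeIdealOf ⟨ξ, hξ⟩ ⤳ q :=
    (U.2.fromSpec.isOpenEmbedding.isInducing.specializes_iff).1 h2
  exact (PrimeSpectrum.le_iff_specializes _ _).2 h4 ha

theorem smul_eq_zero_of_killed (ξ : X) (Z : Closeds X) (hZ : (Z : Set X) ⊆ closure {ξ})
    (G : X.Modules) (hK : ClSub.KilledByIdeal (Scheme.IdealSheafData.vanishingIdeal Z) G)
    (r : X.presheaf.stalk ξ) (hr : r ∈ IsLocalRing.maximalIdeal (X.presheaf.stalk ξ))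
    (g : G.presheaf.stalk ξ) : r • g = 0 := by
  obtain ⟨V, hξV, m, rfl⟩ := TopCat.Presheaf.exists_germ_eq G.presheaf g
  obtain ⟨V', hξV', a, rfl⟩ := TopCat.Presheaf.exists_germ_eq X.presheaf r
  obtain ⟨W, hW0, hξW, hWV⟩ := Opens.isBasis_iff_nbhd.1 (X.isBasis_affineOpens)
    (show ξ ∈ V ⊓ V' from ⟨hξV, hξV'⟩)
  have hW : IsAffineOpen W := hW0
  have e1 : G.presheaf.germ V ξ hξV m =
      G.presheaf.germ W ξ hξW (G.presheaf.map (homOfLE (hWV.trans inf_le_left)).op m) :=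
    (TopCat.Presheaf.germ_res_apply G.presheaf (homOfLE (hWV.trans inf_le_left)) ξ hξW m).symm
  have e2 : X.presheaf.germ V' ξ hξV' a =
      X.presheaf.germ W ξ hξW (X.presheaf.map (homOfLE (hWV.trans inf_le_right)).op a) :=
    (TopCat.Presheaf.germ_res_apply X.presheaf (homOfLE (hWV.trans inf_le_right)) ξ hξW a).symm
  rw [e1, e2]
  set a' : Γ(X, W) := X.presheaf.map (homOfLE (hWV.trans inf_le_right)).op a with ha'
  set m' : Γ(G, W) := G.presheaf.map (homOfLE (hWV.trans inf_le_left)).op m with hm'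
  have hmem : a' ∈ (hW.primeIdealOf ⟨ξ, hξW⟩).asIdeal := by
    by_contra hcon
    have h1 := (notMem_primeIdealOf_iff hW ξ hξW a').1 hcon
    rw [Scheme.mem_basicOpen _ _ ξ hξW] at h1
    rw [e2] at hr
    exact (IsLocalRing.mem_maximalIdeal _).1 hr h1
  have hmem2 := mem_vanishingIdeal_of_mem_primeIdealOf ξ Z hZ ⟨W, hW⟩ hξW a' hmem
  have h0 : a' • m' = 0 := hK ⟨W, hW⟩ a' hmem2 m'
  rw [← germ_smul G ξ W hξW a' m', h0, map_zero]

end Groth.Agent.Lib.Helper20.DevKilled
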