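import Groth.Agent.Lib.QCoh.Helper18_StalkLinear
import Groth.Agent.Lib.QCoh.Helper18_Support
import Groth.Agent.Lib.QCoh.Helper18_Ass
import Groth.Agent.Lib.QCoh.CohKernel
import Mathlib.RingTheory.Length

/-!
# helper20: stalk lengths and supports for the dévissage lemma
-/

universe u
open CategoryTheory CategoryTheory.Limits AlgebraicGeometry Opposite TopologicalSpace

namespace Groth.Agent.Lib.Helper20.DevLen

open Groth.Agent.Lib.QCoh

variable {X : Scheme.{u}}

/-- The length of the stalk at `x`. -/
noncomputable abbrev L (x : X) (N : X.Modules) : ℕ∞ :=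
  Module.length (X.presheaf.stalk x) (N.presheaf.stalk x)

lemma stalkMap_comp_apply {A B C : X.Modules} (f : A ⟶ B) (g : B ⟶ C) (x : X)
    (m : A.presheaf.stalk x) : stalkMap (f ≫ g) x m = stalkMap g x (stalkMap f x m) := by
  have h1 : stalkMap (f ≫ g) x = stalkMap f x ≫ stalkMap g x := (stalkFunctor X x).map_comp f g
  exact congr($h1 m)

lemma stalkMap_zero_apply {A B : X.Modules} (x : X)
    (m : A.presheaf.stalk x) : stalkMap (0 : A ⟶ B) x m = 0 := by
  have h1 : stalkMap (0 : A ⟶ B) x = 0 := (stalkFunctor X x).map_zero A B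
  exact congr($h1 m)

lemma stalkMap_id_apply {A : X.Modules} (x : X)
    (m : A.presheaf.stalk x) : stalkMap (𝟙 A) x m = m := by
  have h1 : stalkMap (𝟙 A) x = 𝟙 _ := (stalkFunctor X x).map_id A
  exact congr($h1 m)

lemma stalkMap_add_apply {A B : X.Modules} (f g : A ⟶ B) (x : X)
    (m : A.presheaf.stalk x) : stalkMap (f + g) x m = stalkMap f x m + stalkMap g x m := by
  have h1 : stalkMap (f + g) x = stalkMap f x + stalkMap g x := (stalkFunctor X x).map_add
  exact congr($h1 m)

theorem L_iso {M N : X.Modules} (e : M ≅ N) (x : X) : L x M = L x N := by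
  have hinj := stalkMap_injective_of_mono e.hom x
  have hsurj := stalkMap_surjective_of_epi e.hom x
  exact (LinearEquiv.ofBijective (stalkMapₗ e.hom x) ⟨hinj, hsurj⟩).length_eq

theorem L_of_bijective {M N : X.Modules} (f : M ⟶ N) (x : X)
    (h : Function.Bijective (stalkMap f x)) : L x M = L x N :=
  (LinearEquiv.ofBijective (stalkMapₗ f x) h).length_eq

theorem L_cokernel_of_injective {H M : X.Modules} (b : H ⟶ M) (x : X)
    (hinj : Function.Injective (stalkMap b x)) : L x M = L x H + L x (cokernel b) := by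
  have hsurj := stalkMap_surjective_of_epi (cokernel.π b) x
  let S : ShortComplex X.Modules := ShortComplex.mk b (cokernel.π b) (cokernel.condition b)
  have hS : S.Exact := ShortComplex.exact_of_g_is_cokernel _ (cokernelIsCokernel b)
  have hE := hS.map (stalkFunctor X x)
  rw [ShortComplex.ab_exact_iff] at hE
  have hexact : Function.Exact (stalkMapₗ b x) (stalkMapₗ (cokernel.π b) x) := by
    intro m
    constructor
    · intro hm
      obtain ⟨m₁, hm₁⟩ := hE m hm
      exact ⟨m₁, hm₁⟩
    · rintro ⟨m₁, rfl⟩
      show stalkMap (cokernel.π b) x (stalkMap b x m₁) = 0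
      rw [← stalkMap_comp_apply, cokernel.condition, stalkMap_zero_apply]
  exact Module.length_eq_add_of_exact (stalkMapₗ b x) (stalkMapₗ (cokernel.π b) x) hinj hsurj hexact

theorem subsingleton_stalk_kernel {A B : X.Modules} (f : A ⟶ B) (x : X)
    (h : Function.Injective (stalkMap f x)) : Subsingleton ((kernel f).presheaf.stalk x) := by
  have hι := stalkMap_injective_of_mono (kernel.ι f) x
  refine ⟨fun a b => ?_⟩
  apply hι
  apply h
  rw [← stalkMap_comp_apply, ← stalkMap_comp_apply, kernel.condition, stalkMap_zero_apply,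
    stalkMap_zero_apply]

theorem subsingleton_stalk_cokernel {A B : X.Modules} (f : A ⟶ B) (x : X)
    (h : Function.Surjective (stalkMap f x)) : Subsingleton ((cokernel f).presheaf.stalk x) := by
  have hπ := stalkMap_surjective_of_epi (cokernel.π f) x
  suffices h0 : ∀ t : (cokernel f).presheaf.stalk x, t = 0 from
    ⟨fun a b => by rw [h0 a, h0 b]⟩
  intro t
  obtain ⟨s, rfl⟩ := hπ t
  obtain ⟨r, rfl⟩ := h s
  rw [← stalkMap_comp_apply, cokernel.condition, stalkMap_zero_apply]

theorem support_biprod_subset (G M : X.Modules) :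
    CohB1.support (G ⊞ M) ⊆ CohB1.support G ∪ CohB1.support M := by
  intro x hx
  by_contra hcon
  rw [Set.mem_union, not_or, notMem_support_iff, notMem_support_iff] at hcon
  obtain ⟨hG, hM⟩ := hcon
  rw [mem_support_iff] at hx
  apply hx
  suffices h0 : ∀ t : (G ⊞ M).presheaf.stalk x, t = 0 from
    ⟨fun a b => by rw [h0 a, h0 b]⟩
  intro t
  have h1 := stalkMap_id_apply (A := G ⊞ M) x t
  rw [← biprod.total, stalkMap_add_apply, stalkMap_comp_apply, stalkMap_comp_apply,
    Subsingleton.elim (stalkMap biprod.fst x t) 0,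
    Subsingleton.elim (stalkMap biprod.snd x t) 0, map_zero, map_zero, add_zero] at h1
  exact h1.symm

end Groth.Agent.Lib.Helper20.DevLen
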