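import Groth.Agent.Lib.Helper21.RedSubscheme
import Mathlib.RingTheory.Length
import Mathlib.RingTheory.SimpleModule.Basic
import Mathlib.RingTheory.LocalRing.ResidueField.Basic
import Mathlib.AlgebraicGeometry.FunctionField

/-!
# helper20: the integral closed subscheme on the closure of a point; length of the residue field
-/

universe u
open CategoryTheory AlgebraicGeometry TopologicalSpace

namespace Groth.Agent.Lib.Helper20.DevPoint

theorem length_eq_one_of_equiv_residueField {R : Type*} [CommRing R] [IsLocalRing R]
    {A : Type*} [AddCommGroup A] [Module R A] (e : A ≃ₗ[R] IsLocalRing.ResidueField R) :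
    Module.length R A = 1 := by
  rw [e.length_eq, Module.length_eq_one_iff]
  exact isSimpleModule_iff_quot_maximal.2
    ⟨IsLocalRing.maximalIdeal R, inferInstance, ⟨LinearEquiv.refl _ _⟩⟩

theorem length_self_field (K : Type*) [Field K] : Module.length K K = 1 := by
  rw [Module.length_eq_one_iff]
  infer_instance

/-- The reduced closed subscheme on the closure of a point `ξ`: an integral scheme with a closed
immersion into `X` whose range is `closure {ξ}` and which maps the generic point to `ξ`. -/
theorem exists_integral_closedImmersion (X : Scheme.{u}) (ξ : X) :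
    ∃ (Z : Scheme.{u}) (i : Z ⟶ X) (_ : IsClosedImmersion i) (_ : IsIntegral Z),
      Set.range i = closure {ξ} ∧ i (genericPoint Z) = ξ := by
  let W : Closeds X := ⟨closure {ξ}, isClosed_closure⟩
  have hW : IsIrreducible (W : Set X) := isIrreducible_singleton.closure
  haveI hint : IsIntegral (Scheme.IdealSheafData.vanishingIdeal W).subscheme :=
    Groth.Agent.Lib.Helper21.RedSubscheme.isIntegral_vanishingIdeal_subscheme W hW
  have hr : Set.range (Scheme.IdealSheafData.vanishingIdeal W).subschemeι = closure {ξ} :=
    Groth.Agent.Lib.Helper21.RedSubscheme.range_subschemeι_vanishingIdeal W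
  refine ⟨_, (Scheme.IdealSheafData.vanishingIdeal W).subschemeι, inferInstance, hint, hr, ?_⟩
  set i := (Scheme.IdealSheafData.vanishingIdeal W).subschemeι with hi
  have hce : Topology.IsClosedEmbedding i := i.isClosedEmbedding
  have h1 : closure ({i (genericPoint _)} : Set X) = closure {ξ} := by
    rw [← Set.image_singleton, hce.closure_image_eq, genericPoint_closure, Set.image_univ, hr]
  have h2 : IsGenericPoint (i (genericPoint _)) (closure {ξ}) := h1
  exact h2.eq isGenericPoint_closure

end Groth.Agent.Lib.Helper20.DevPoint
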