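import Groth.Agent.Lib.Helper20.DevKilled
import Groth.Agent.Lib.Helper20.AssMono
import Groth.Agent.Lib.Helper21.RedSubscheme
import Groth.Agent.Lib.QCoh.Helper74_ExtInv2
import Mathlib.RingTheory.SimpleModule.Basic

/-!
# helper20: dévissage with direct summands (EGA III 3.1.3)
-/

universe u
open CategoryTheory CategoryTheory.Limits AlgebraicGeometry Opposite TopologicalSpace

namespace Groth.Agent.Lib.Helper20.DevSummand

open Groth.Agent.Lib.QCoh Groth.Agent.Lib.Helper20.DevLen Scheme.Modules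
  Groth.Agent.Lib.Helper20.Devissage Groth.Agent.Lib.Helper20.AssMono

variable {X : Scheme.{u}}

/-- retraction of an injective linear map into a module killed by the maximal ideal -/
theorem exists_retraction_of_killed {R : Type*} [CommRing R] [IsLocalRing R]
    {A B : Type*} [AddCommGroup A] [Module R A] [AddCommGroup B] [Module R B]
    (hB : ∀ r ∈ IsLocalRing.maximalIdeal R, ∀ b : B, r • b = 0)
    (f : A →ₗ[R] B) (hf : Function.Injective f) :
    ∃ g : B →ₗ[R] A, ∀ a, g (f a) = a := by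
  have hT : Module.IsTorsionBySet R B (IsLocalRing.maximalIdeal R : Set R) := by
    intro b r
    exact hB r.1 r.2 b
  letI := hT.module
  letI : Field (R ⧸ IsLocalRing.maximalIdeal R) := Ideal.Quotient.field _
  have h1 : IsSemisimpleModule (R ⧸ IsLocalRing.maximalIdeal R) B := inferInstance
  have h2 : IsSemisimpleModule R B := hT.isSemisimpleModule_iff.1 h1
  obtain ⟨g, hg⟩ := IsSemisimpleModule.extension_property f hf LinearMap.id
  exact ⟨g, fun a => LinearMap.congr_fun hg a⟩

/-- the graph trick at the level of stalks -/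
theorem exists_graph_stalk [IsLocallyNoetherian X] (A B : X.Modules) (hA : Coh.IsCoh A)
    [B.IsQuasicoherent] (x : X)
    (ψ : A.presheaf.stalk x →ₗ[X.presheaf.stalk x] B.presheaf.stalk x) :
    ∃ (H : X.Modules) (u : H ⟶ A) (w : H ⟶ B), H.IsQuasicoherent ∧ H.IsFiniteType ∧
      CohB1.support H ⊆ CohB1.support A ∪ CohB1.support B ∧
      Function.Bijective (stalkMap u x) ∧
      ∀ h : H.presheaf.stalk x, stalkMap w x h = ψ (stalkMap u x h) := by
  haveI : A.IsQuasicoherent := hA.1
  haveI : A.IsFiniteType := hA.2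
  obtain ⟨U, hxU, φ, hφ⟩ := exists_hom_restrict_with_stalk_eq' X B A hA x ψ
  have hX : ∀ y : X, ∃ V : X.Opens, y ∈ V ∧ NoetherianSpace (V : Set X) := by
    intro y
    obtain ⟨V, hV0, hyV, -⟩ := Opens.isBasis_iff_nbhd.1 (X.isBasis_affineOpens)
      (show y ∈ (⊤ : X.Opens) from trivial)
    have hV : IsAffineOpen V := hV0
    haveI : IsNoetherianRing Γ(X, V) := IsLocallyNoetherian.component_noetherian ⟨V, hV⟩
    exact ⟨V, hyV, noetherianSpace_of_isAffineOpen V hV⟩
  obtain ⟨H, j, hj, hHq, hHf, hiso, hcomm⟩ :=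
    Groth.Agent.Lib.Helper20.DevGraph.exists_graph_hom hX A B U φ
  let u : U := ⟨x, hxU⟩
  have ha' : Function.Bijective
      (stalkMap ((restrictFunctor U.ι).map (j ≫ biprod.fst)) u) := by
    have hi2 : IsIso ((stalkFunctor U u).map ((restrictFunctor U.ι).map (j ≫ biprod.fst))) :=
      Functor.map_isIso _ _
    exact (ConcreteCategory.isIso_iff_bijective _).1 hi2
  have ha : Function.Bijective (stalkMap (j ≫ biprod.fst) x) :=
    (StalkLocal.bijective_stalkMap_restrict_iff U (j ≫ biprod.fst) u).1 ha'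
  have key : ∀ a : ((restrictFunctor U.ι).obj A).presheaf.stalk u,
      ψ ((restrictStalkNatIso U.ι u).hom.app A a) =
        (restrictStalkNatIso U.ι u).hom.app B (stalkMap φ u a) := by
    intro a
    have h2 := ConcreteCategory.congr_hom hφ ((restrictStalkNatIso U.ι u).hom.app A a)
    rw [ConcreteCategory.comp_apply, ConcreteCategory.comp_apply] at h2
    have h3 : (restrictStalkNatIso U.ι u).inv.app A
        ((restrictStalkNatIso U.ι u).hom.app A a) = a := by
      rw [← ConcreteCategory.comp_apply, Iso.hom_inv_id_app]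
      rfl
    rw [h3] at h2
    exact h2.symm
  refine ⟨H, j ≫ biprod.fst, j ≫ biprod.snd, hHq, hHf, ?_, ha, ?_⟩
  · exact (support_subset_of_mono j).trans (support_biprod_subset A B)
  · intro h
    obtain ⟨h', rfl⟩ := (StalkLocal.bijective_restrictStalkNatIso_app U u H).2 h
    have e1 := StalkLocal.stalkMap_restrict_apply U (j ≫ biprod.snd) u h'
    have e2 := StalkLocal.stalkMap_restrict_apply U (j ≫ biprod.fst) u h'
    have e3 : stalkMap ((restrictFunctor U.ι).map (j ≫ biprod.snd)) u h' =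
        stalkMap φ u (stalkMap ((restrictFunctor U.ι).map (j ≫ biprod.fst)) u h') := by
      rw [hcomm, stalkMap_comp_apply]
    rw [e3, ← key] at e1
    exact e1.symm.trans (congrArg ψ e2)

/-- In a module `G` supported on `closure {ξ}` whose stalk at `ξ` is killed by the maximal ideal,
every coherent submodule inherits `P` (two-out-of-three, direct summands, and `P` for modules
vanishing at `ξ`). -/
theorem split_of_killed [IsNoetherian X] {P : X.Modules → Prop}
    (hP : ∀ M N : X.Modules, Nonempty (M ≅ N) → P M → P N) {Y₀ : Set X} (h₁ : SESHyp P Y₀)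
    (hsum : ∀ (M N : X.Modules) (i : N ⟶ M) (r : M ⟶ N), i ≫ r = 𝟙 N → Coh.IsCoh M →
      Coh.IsCoh N → P M → P N)
    (ξ : X) (hξ : closure {ξ} ⊆ Y₀)
    (hstar : ∀ N : X.Modules, Coh.IsCoh N → CohB1.support N ⊆ closure {ξ} →
      Subsingleton (N.presheaf.stalk ξ) → P N)
    (G : X.Modules) (hG : Coh.IsCoh G) (hGs : CohB1.support G ⊆ closure {ξ})
    (hkill : ∀ r ∈ IsLocalRing.maximalIdeal (X.presheaf.stalk ξ),
      ∀ g : G.presheaf.stalk ξ, r • g = 0)
    (hPG : P G) (C : X.Modules) (hC : Coh.IsCoh C) (i : C ⟶ G) [Mono i] : P C := by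
  haveI : C.IsQuasicoherent := hC.1
  have hQ : Coh.IsCoh (cokernel i) := isCoh_cokernel hC hG i
  have hCs : CohB1.support C ⊆ closure {ξ} := (support_subset_of_mono i).trans hGs
  have hQs : CohB1.support (cokernel i) ⊆ closure {ξ} :=
    (support_subset_of_epi (cokernel.π i)).trans hGs
  have hiinj := stalkMap_injective_of_mono i ξ
  have hqsurj := stalkMap_surjective_of_epi (cokernel.π i) ξ
  let S : ShortComplex X.Modules := ShortComplex.mk i (cokernel.π i) (cokernel.condition i)
  have hS : S.ShortExact :=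
    { exact := ShortComplex.exact_of_g_is_cokernel _ (cokernelIsCokernel i)
      mono_f := inferInstanceAs (Mono i)
      epi_g := inferInstanceAs (Epi (cokernel.π i)) }
  have hex : ∀ m : G.presheaf.stalk ξ, stalkMap (cokernel.π i) ξ m = 0 →
      ∃ m₁, stalkMap i ξ m₁ = m := (stalk_exact_of_shortExact S hS ξ).2.2
  obtain ⟨ρ, hρ⟩ := exists_retraction_of_killed hkill (stalkMapₗ i ξ) hiinj
  have hρ' : ∀ c : C.presheaf.stalk ξ, ρ (stalkMap i ξ c) = c := hρ
  obtain ⟨H, u, w, hHq, hHf, hHs0, hu, hw⟩ := exists_graph_stalk G C hG ξ ρ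
  have hH : Coh.IsCoh H := ⟨hHq, hHf⟩
  have hHs : CohB1.support H ⊆ closure {ξ} := hHs0.trans (Set.union_subset hGs hCs)
  have hCQ : Coh.IsCoh (C ⊞ cokernel i) := ExtInv74.isCoh_biprod hC hQ
  have hCQs : CohB1.support (C ⊞ cokernel i) ⊆ closure {ξ} :=
    (support_biprod_subset C (cokernel i)).trans (Set.union_subset hCs hQs)
  have hv1 : ∀ a, stalkMap biprod.fst ξ (stalkMap (biprod.lift w (u ≫ cokernel.π i)) ξ a) =
      ρ (stalkMap u ξ a) := by
    intro a
    rw [← stalkMap_comp_apply, biprod.lift_fst, hw]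
  have hv2 : ∀ a, stalkMap biprod.snd ξ (stalkMap (biprod.lift w (u ≫ cokernel.π i)) ξ a) =
      stalkMap (cokernel.π i) ξ (stalkMap u ξ a) := by
    intro a
    rw [← stalkMap_comp_apply, biprod.lift_snd, stalkMap_comp_apply]
  have htot : ∀ t : (C ⊞ cokernel i).presheaf.stalk ξ,
      stalkMap biprod.inl ξ (stalkMap biprod.fst ξ t) +
        stalkMap biprod.inr ξ (stalkMap biprod.snd ξ t) = t := by
    intro t
    rw [← stalkMap_comp_apply, ← stalkMap_comp_apply, ← stalkMap_add_apply, biprod.total,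
      stalkMap_id_apply]
  have hvinj : Function.Injective (stalkMap (biprod.lift w (u ≫ cokernel.π i)) ξ) := by
    intro a b hab
    apply hu.1
    have e1 : ρ (stalkMap u ξ a) = ρ (stalkMap u ξ b) := by rw [← hv1, ← hv1, hab]
    have e2 : stalkMap (cokernel.π i) ξ (stalkMap u ξ a) =
        stalkMap (cokernel.π i) ξ (stalkMap u ξ b) := by rw [← hv2, ← hv2, hab]
    have e3 : stalkMap (cokernel.π i) ξ (stalkMap u ξ a - stalkMap u ξ b) = 0 := by
      rw [map_sub, e2, sub_self]
    obtain ⟨c, hc⟩ := hex _ e3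
    have e4 : ρ (stalkMap u ξ a - stalkMap u ξ b) = 0 := by rw [map_sub, e1, sub_self]
    have e5 : c = 0 := by
      have h5 := hρ' c
      rw [hc, e4] at h5
      exact h5.symm
    rw [e5, map_zero] at hc
    exact sub_eq_zero.1 hc.symm
  have hvsurj : Function.Surjective (stalkMap (biprod.lift w (u ≫ cokernel.π i)) ξ) := by
    intro t
    obtain ⟨g, hg⟩ := hqsurj (stalkMap biprod.snd ξ t)
    obtain ⟨a, ha⟩ := hu.2 (g + stalkMap i ξ (stalkMap biprod.fst ξ t - ρ g))
    refine ⟨a, ?_⟩
    refine (htot _).symm.trans (Eq.trans ?_ (htot t))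
    rw [hv1, hv2, ha]
    have e1 : ρ (g + stalkMap i ξ (stalkMap biprod.fst ξ t - ρ g)) = stalkMap biprod.fst ξ t := by
      rw [map_add, hρ']
      abel
    have e2 : stalkMap (cokernel.π i) ξ (g + stalkMap i ξ (stalkMap biprod.fst ξ t - ρ g)) =
        stalkMap biprod.snd ξ t := by
      rw [map_add, ← stalkMap_comp_apply, cokernel.condition, stalkMap_zero_apply, add_zero, hg]
    rw [e1, e2]
  have hPH : P H := by
    refine (transfer hP h₁ hH hG (hHs.trans hξ) (hGs.trans hξ) u ?_ ?_).2 hPG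
    · exact hstar _ (isCoh_kernel hH hG _) ((support_subset_of_mono (kernel.ι _)).trans hHs)
        (subsingleton_stalk_kernel _ ξ hu.1)
    · exact hstar _ (isCoh_cokernel hH hG _) ((support_subset_of_epi (cokernel.π _)).trans hGs)
        (subsingleton_stalk_cokernel _ ξ hu.2)
  have hPCQ : P (C ⊞ cokernel i) := by
    refine (transfer hP h₁ hH hCQ (hHs.trans hξ) (hCQs.trans hξ)
      (biprod.lift w (u ≫ cokernel.π i)) ?_ ?_).1 hPH
    · exact hstar _ (isCoh_kernel hH hCQ _) ((support_subset_of_mono (kernel.ι _)).trans hHs)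
        (subsingleton_stalk_kernel _ ξ hvinj)
    · exact hstar _ (isCoh_cokernel hH hCQ _) ((support_subset_of_epi (cokernel.π _)).trans hCQs)
        (subsingleton_stalk_cokernel _ ξ hvsurj)
  exact hsum (C ⊞ cokernel i) C biprod.inl biprod.fst biprod.inl_fst hCQ hC hPCQ

/-- **Dévissage**, variant where the witness at `ξ` may use the induction hypothesis. -/
theorem main' (X : Scheme.{u}) [IsNoetherian X] (P : X.Modules → Prop)
    (hP : ∀ M N : X.Modules, Nonempty (M ≅ N) → P M → P N) (Y₀ : Set X) (h₁ : SESHyp P Y₀)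
    (h0 : ∀ M : X.Modules, IsZero M → P M)
    (h₂ : ∀ ξ ∈ Y₀, (∀ N : X.Modules, Coh.IsCoh N → CohB1.support N ⊆ closure {ξ} →
        Subsingleton (N.presheaf.stalk ξ) → P N) →
      ∃ G : X.Modules, Coh.IsCoh G ∧ P G ∧ CohB1.support G ⊆ closure {ξ} ∧ L ξ G = 1)
    (M : X.Modules) (hM : Coh.IsCoh M) (hsupp : CohB1.support M ⊆ Y₀) : P M := by
  suffices key : ∀ Y : Closeds X, ∀ M : X.Modules, Coh.IsCoh M →
      CohB1.support M ⊆ (Y : Set X) → CohB1.support M ⊆ Y₀ → P M from
    key ⊤ M hM (Set.subset_univ _) hsupp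
  intro Y
  induction Y using WellFoundedLT.induction with
  | _ Y IH =>
  intro M hM hMY hMY₀
  haveI : M.IsQuasicoherent := hM.1
  haveI : M.IsFiniteType := hM.2
  have hScl : IsClosed (CohB1.support M) := isClosed_support_of_isFT M hM.2
  by_cases hne : CohB1.support M = (Y : Set X)
  · have hYY₀ : (Y : Set X) ⊆ Y₀ := hne ▸ hMY₀
    by_cases hemp : (Y : Set X) = ∅
    · apply h0
      apply isZero_of_forall_stalk_subsingleton
      intro x
      by_contra hx
      have hx' : x ∈ CohB1.support M := (mem_support_iff M x).2 hx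
      rw [hne, hemp] at hx'
      exact hx'
    · obtain ⟨ξ, hξY, hmax⟩ := Groth.Agent.Lib.Helper20.DevTop.exists_maximal_generization
        (Y : Set X) Y.isClosed (Set.nonempty_iff_ne_empty.2 hemp)
      have hstar : ∀ N : X.Modules, Coh.IsCoh N → CohB1.support N ⊆ (Y : Set X) →
          Subsingleton (N.presheaf.stalk ξ) → P N := by
        intro N hN hNY hNξ
        have hNcl : IsClosed (CohB1.support N) := isClosed_support_of_isFT N hN.2
        refine IH ⟨CohB1.support N, hNcl⟩ ?_ N hN subset_rfl (hNY.trans hYY₀)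
        refine lt_of_le_of_ne (show (⟨CohB1.support N, hNcl⟩ : Closeds X) ≤ Y from hNY) ?_
        intro heq
        have h1 : ξ ∈ CohB1.support N := by
          have h2 : CohB1.support N = (Y : Set X) := congrArg (fun Z : Closeds X => (Z : Set X)) heq
          rw [h2]
          exact hξY
        exact (mem_support_iff N ξ).1 h1 hNξ
      have hclY : closure {ξ} ⊆ (Y : Set X) :=
        closure_minimal (Set.singleton_subset_iff.2 hξY) Y.isClosed
      obtain ⟨G, hG, hPG, hGs, hGl⟩ := h₂ ξ (hYY₀ hξY)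
        (fun N hN hNs hNξ => hstar N hN (hNs.trans hclY) hNξ)
      have hfin : IsFiniteLength (X.presheaf.stalk ξ) (M.presheaf.stalk ξ) := by
        apply Groth.Agent.Lib.Helper20.StalkFinLen.isFiniteLength_stalk_of_maximal
        intro x hx hspec
        refine hmax x (hMY ?_) hspec
        rw [mem_support_iff]
        exact not_subsingleton_iff_nontrivial.2 hx
      obtain ⟨n, hn⟩ : ∃ n : ℕ, L ξ M = n := by
        have h1 : L ξ M ≠ ⊤ := Module.length_ne_top_iff.2 hfin
        exact ⟨_, (ENat.coe_toNat h1).symm⟩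
      exact step hP h₁ Y Y.isClosed hYY₀ ξ hξY hmax hstar G hG hPG hGs hGl n M hM hMY hn
  · refine IH ⟨CohB1.support M, hScl⟩ ?_ M hM subset_rfl hMY₀
    refine lt_of_le_of_ne (show (⟨CohB1.support M, hScl⟩ : Closeds X) ≤ Y from hMY) ?_
    intro h
    exact hne (congrArg (fun Z : Closeds X => (Z : Set X)) h)

theorem support_OZ (ξ : X) : CohB1.support (OZ X ξ) = closure {ξ} :=
  (Groth.Agent.Lib.Helper20.PushO.support_push_structureModule
    (Scheme.IdealSheafData.vanishingIdeal ⟨closure {ξ}, isClosed_closure⟩).subschemeι).trans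
  (Groth.Agent.Lib.Helper21.RedSubscheme.range_subschemeι_vanishingIdeal
    (⟨closure {ξ}, isClosed_closure⟩ : Closeds X))

/-- **Dévissage with direct summands** (EGA III 3.1.3). -/
theorem devissage_summands (X : Scheme.{u}) [IsNoetherian X] (P : X.Modules → Prop)
    (hP : ∀ M N : X.Modules, Nonempty (M ≅ N) → P M → P N)
    (h0 : ∀ M : X.Modules, IsZero M → P M)
    (hex : ∀ S : ShortComplex X.Modules, S.ShortExact → Coh.IsCoh S.X₁ → Coh.IsCoh S.X₂ →
      Coh.IsCoh S.X₃ →
      (P S.X₁ → P S.X₂ → P S.X₃) ∧ (P S.X₁ → P S.X₃ → P S.X₂) ∧ (P S.X₂ → P S.X₃ → P S.X₁))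
    (hsum : ∀ (M N : X.Modules) (i : N ⟶ M) (r : M ⟶ N), i ≫ r = 𝟙 N → Coh.IsCoh M →
      Coh.IsCoh N → P M → P N)
    (X' : Set X) (hX' : IsClosed X')
    (hgen : ∀ ξ ∈ X', ∃ G : X.Modules, Coh.IsCoh G ∧ P G ∧ CohB1.support G ⊆ closure {ξ} ∧
      ClSub.KilledByIdeal
        (Scheme.IdealSheafData.vanishingIdeal ⟨closure {ξ}, isClosed_closure⟩) G ∧
      ξ ∈ CohB1.support G)
    (F : X.Modules) (hF : Coh.IsCoh F) (hsupp : CohB1.support F ⊆ X') : P F := by
  have h₁ : SESHyp P X' := fun S hS h1 h2 h3 _ => hex S hS h1 h2 h3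
  refine main' X P hP X' h₁ h0 ?_ F hF hsupp
  intro ξ hξ hstar
  obtain ⟨G, hG, hPG, hGs, hK, hξG⟩ := hgen ξ hξ
  haveI : G.IsQuasicoherent := hG.1
  haveI : G.IsFiniteType := hG.2
  have hξcl : closure {ξ} ⊆ X' := closure_minimal (Set.singleton_subset_iff.2 hξ) hX'
  have hkill := Groth.Agent.Lib.Helper20.DevKilled.smul_eq_zero_of_killed ξ
    ⟨closure {ξ}, isClosed_closure⟩ subset_rfl G hK
  have hnt : Nontrivial (G.presheaf.stalk ξ) :=
    not_subsingleton_iff_nontrivial.1 ((mem_support_iff G ξ).1 hξG)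
  have hfin : IsFiniteLength (X.presheaf.stalk ξ) (G.presheaf.stalk ξ) := by
    apply Groth.Agent.Lib.Helper20.StalkFinLen.isFiniteLength_stalk_of_maximal
    intro x hx hspec
    have hx' : x ∈ CohB1.support G := by
      rw [mem_support_iff]
      exact not_subsingleton_iff_nontrivial.2 hx
    have h2 : ξ ⤳ x := specializes_iff_mem_closure.2 (hGs hx')
    exact (hspec.antisymm h2).eq
  have hO := isCoh_OZ (X := X) ξ
  have hOs : CohB1.support (OZ X ξ) ⊆ closure {ξ} := (support_OZ ξ).le
  obtain ⟨ψ, hψ⟩ := Groth.Agent.Lib.Helper20.DevAlg.exists_injective_of_length_one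
    (R := X.presheaf.stalk ξ) (A := (OZ X ξ).presheaf.stalk ξ) (B := G.presheaf.stalk ξ)
    (length_OZ ξ) hfin hnt
  obtain ⟨H, u, w, hHq, hHf, hHs0, hu, hw⟩ := exists_graph_stalk (OZ X ξ) G hO ξ ψ
  have hH : Coh.IsCoh H := ⟨hHq, hHf⟩
  have hHs : CohB1.support H ⊆ closure {ξ} := hHs0.trans (Set.union_subset hOs hGs)
  have hwinj : Function.Injective (stalkMap w ξ) := by
    intro a b hab
    apply hu.1
    apply hψ
    rw [← hw, ← hw, hab]
  have hIm : Coh.IsCoh (Abelian.image w) :=
    isCoh_kernel hG (isCoh_cokernel hH hG w) (cokernel.π w)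
  have hIms : CohB1.support (Abelian.image w) ⊆ closure {ξ} :=
    (support_subset_of_mono (Abelian.image.ι w)).trans hGs
  have hPC : P (Abelian.image w) :=
    split_of_killed hP h₁ hsum ξ hξcl hstar G hG hGs hkill hPG (Abelian.image w) hIm
      (Abelian.image.ι w)
  have heinj : Function.Injective (stalkMap (Abelian.factorThruImage w) ξ) := by
    intro a b hab
    apply hwinj
    have h1 : ∀ c, stalkMap w ξ c =
        stalkMap (Abelian.image.ι w) ξ (stalkMap (Abelian.factorThruImage w) ξ c) := by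
      intro c
      rw [← stalkMap_comp_apply, Abelian.image.fac]
    rw [h1, h1, hab]
  have hesurj := stalkMap_surjective_of_epi (Abelian.factorThruImage w) ξ
  have hPH : P H := by
    refine (transfer hP h₁ hH hIm (hHs.trans hξcl) (hIms.trans hξcl)
      (Abelian.factorThruImage w) ?_ ?_).2 hPC
    · exact hstar _ (isCoh_kernel hH hIm _) ((support_subset_of_mono (kernel.ι _)).trans hHs)
        (subsingleton_stalk_kernel _ ξ heinj)
    · exact hstar _ (isCoh_cokernel hH hIm _) ((support_subset_of_epi (cokernel.π _)).trans hIms)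
        (subsingleton_stalk_cokernel _ ξ hesurj)
  have hPO : P (OZ X ξ) := by
    refine (transfer hP h₁ hH hO (hHs.trans hξcl) (hOs.trans hξcl) u ?_ ?_).1 hPH
    · exact hstar _ (isCoh_kernel hH hO _) ((support_subset_of_mono (kernel.ι _)).trans hHs)
        (subsingleton_stalk_kernel _ ξ hu.1)
    · exact hstar _ (isCoh_cokernel hH hO _) ((support_subset_of_epi (cokernel.π _)).trans hOs)
        (subsingleton_stalk_cokernel _ ξ hu.2)
  exact ⟨OZ X ξ, hO, hPO, hOs, length_OZ ξ⟩

end Groth.Agent.Lib.Helper20.DevSummand
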