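import Mathlib.Topology.Sober
import Mathlib.Topology.Irreducible
import Mathlib.Topology.Inseparable

/-!
# helper20: points of a closed subset that are maximal under generization

`exists_maximal_generization`: in a quasi-sober T0 space, every nonempty closed subset `Y` contains a
point `ξ` such that any `x ∈ Y` specializing to `ξ` equals `ξ` (the generic point of an irreducible
component of `Y`).
-/

namespace Groth.Agent.Lib.Helper20.DevTop

open Topology

theorem exists_maximal_generization {X : Type*} [TopologicalSpace X] [QuasiSober X] [T0Space X]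
    (Y : Set X) (hY : IsClosed Y) (hne : Y.Nonempty) :
    ∃ ξ ∈ Y, ∀ x ∈ Y, x ⤳ ξ → x = ξ := by
  obtain ⟨y, hy⟩ := hne
  haveI : QuasiSober ↥Y := (hY.isClosedEmbedding_subtypeVal).quasiSober
  let y' : ↥Y := ⟨y, hy⟩
  let t : Set ↥Y := irreducibleComponent y'
  have htirr : IsIrreducible t := isIrreducible_irreducibleComponent
  have htcl : IsClosed t := isClosed_irreducibleComponent
  let η : ↥Y := htirr.genericPoint
  have hη : closure ({η} : Set ↥Y) = t := htirr.closure_genericPoint htcl
  refine ⟨η.1, η.2, ?_⟩
  intro x hx hspec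
  have hspec' : (⟨x, hx⟩ : ↥Y) ⤳ η := (subtype_specializes_iff _ _).2 hspec
  have hsub : t ⊆ closure ({(⟨x, hx⟩ : ↥Y)} : Set ↥Y) := by
    rw [← hη]
    exact closure_minimal (Set.singleton_subset_iff.2 (specializes_iff_mem_closure.1 hspec'))
      isClosed_closure
  have heq : closure ({(⟨x, hx⟩ : ↥Y)} : Set ↥Y) = t :=
    eq_irreducibleComponent (isIrreducible_singleton.closure.isPreirreducible) hsub
  have h1 : IsGenericPoint (⟨x, hx⟩ : ↥Y) t := heq
  have h2 : IsGenericPoint η t := hη
  have := h1.eq h2
  exact congrArg Subtype.val this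

end Groth.Agent.Lib.Helper20.DevTop
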