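import Groth.Agent.Lib.QCoh.Helper18_PullbackSupport
import Groth.Agent.Lib.QCoh.Helper18_Ass
import Groth.Agent.Lib.QCoh.AffineOpen
import Groth.Agent.Lib.Helper14.FinLenSupp

/-!
# helper20: stalks of coherent modules at maximal points of the support have finite length
-/

universe u
open CategoryTheory CategoryTheory.Limits AlgebraicGeometry Opposite TopologicalSpace

namespace Groth.Agent.Lib.Helper20.StalkFinLen

open Groth.Agent.Lib.QCoh

variable {X : Scheme.{u}}

theorem isFiniteLength_stalk_of_maximal [IsLocallyNoetherian X] (F : X.Modules)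
    [F.IsQuasicoherent] [F.IsFiniteType] (ξ : X)
    (hmax : ∀ x : X, Nontrivial (F.presheaf.stalk x) → x ⤳ ξ → x = ξ) :
    IsFiniteLength (X.presheaf.stalk ξ) (F.presheaf.stalk ξ) := by
  obtain ⟨U, hU0, hξU, -⟩ := Opens.isBasis_iff_nbhd.1 (X.isBasis_affineOpens)
    (show ξ ∈ (⊤ : X.Opens) from trivial)
  have hU : IsAffineOpen U := hU0
  haveI : IsNoetherianRing Γ(X, U) := IsLocallyNoetherian.component_noetherian ⟨U, hU⟩
  letI := stalkModuleOfOpen F U ξ hξU
  letI : Algebra Γ(X, U) (X.presheaf.stalk ξ) :=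
    TopCat.Presheaf.algebra_section_stalk X.presheaf ⟨ξ, hξU⟩
  haveI := hU.isLocalization_stalk ⟨ξ, hξU⟩
  haveI := isScalarTower_stalk F U ξ hξU
  haveI := isLocalizedModule_germ F hU ξ hξU
  haveI : Module.Finite Γ(X, U) Γ(F, U) := finite_Γ_of_isAffineOpen hU F
  haveI : Module.Finite (X.presheaf.stalk ξ) (F.presheaf.stalk ξ) := finite_stalk F ξ
  apply Groth.Agent.Lib.Helper14.FinLenSupp.isFiniteLength_of_support
  intro P hP
  set p := (hU.primeIdealOf ⟨ξ, hξU⟩) with hp
  let Q : PrimeSpectrum Γ(X, U) :=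
    PrimeSpectrum.comap (algebraMap Γ(X, U) (X.presheaf.stalk ξ)) P
  have hQsupp : Q ∈ Module.support Γ(X, U) Γ(F, U) := by
    rw [Module.mem_support_iff_exists_annihilator] at hP ⊢
    obtain ⟨n, hn⟩ := hP
    obtain ⟨⟨m, s⟩, hms⟩ := IsLocalizedModule.surj p.asIdeal.primeCompl (germₗ F U ξ hξU) n
    refine ⟨m, ?_⟩
    intro a ha
    rw [Submodule.mem_annihilator_span_singleton] at ha
    have hms' : s.1 • n = germₗ F U ξ hξU m := hms
    have h1 : (algebraMap Γ(X, U) (X.presheaf.stalk ξ) a *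
        algebraMap Γ(X, U) (X.presheaf.stalk ξ) s.1) • n = 0 := by
      rw [mul_smul, algebraMap_smul, algebraMap_smul, hms', ← map_smul, ha, map_zero]
    have h2 : algebraMap Γ(X, U) (X.presheaf.stalk ξ) a *
        algebraMap Γ(X, U) (X.presheaf.stalk ξ) s.1 ∈ P.asIdeal := hn (by
      rw [Submodule.mem_annihilator_span_singleton]; exact h1)
    have h3 : IsUnit (algebraMap Γ(X, U) (X.presheaf.stalk ξ) s.1) :=
      IsLocalization.map_units _ s
    rcases P.2.mem_or_mem h2 with h4 | h4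
    · exact h4
    · exact absurd (P.asIdeal.eq_top_of_isUnit_mem h4 h3) P.2.ne_top
  have hcomap : (IsLocalRing.maximalIdeal (X.presheaf.stalk ξ)).comap
      (algebraMap Γ(X, U) (X.presheaf.stalk ξ)) = p.asIdeal :=
    IsLocalization.AtPrime.comap_maximalIdeal (X.presheaf.stalk ξ) p.asIdeal
  have hQle : Q ≤ p := by
    intro a ha
    rw [← hcomap]
    exact IsLocalRing.le_maximalIdeal P.2.ne_top ha
  let x : X := hU.fromSpec Q
  have hxU : x ∈ U := by
    have : x ∈ Set.range hU.fromSpec := ⟨Q, rfl⟩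
    rw [hU.range_fromSpec] at this
    exact this
  have hQx : hU.primeIdealOf ⟨x, hxU⟩ = Q := by
    apply hU.fromSpec.isOpenEmbedding.injective
    exact hU.fromSpec_primeIdealOf ⟨x, hxU⟩
  have hspec : x ⤳ ξ := by
    have h1 : Q ⤳ p := (PrimeSpectrum.le_iff_specializes Q p).mp hQle
    have h2 := h1.map hU.fromSpec.continuous
    have h3 : hU.fromSpec p = ξ := hU.fromSpec_primeIdealOf ⟨ξ, hξU⟩
    rw [h3] at h2
    exact h2
  have hnt : Nontrivial (F.presheaf.stalk x) := by
    letI := stalkModuleOfOpen F U x hxU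
    haveI := isLocalizedModule_germ F hU x hxU
    have h1 : hU.primeIdealOf ⟨x, hxU⟩ ∈ Module.support Γ(X, U) Γ(F, U) := hQx ▸ hQsupp
    have h2 := Module.mem_support_iff.mp h1
    exact (IsLocalizedModule.iso (hU.primeIdealOf ⟨x, hxU⟩).asIdeal.primeCompl
      (germₗ F U x hxU)).symm.toEquiv.nontrivial
  have hxξ : x = ξ := hmax x hnt hspec
  have hQp : Q = p := by
    rw [← hQx, hp]
    congr 1
    exact Subtype.ext hxξ
  have hPm : P = IsLocalRing.closedPoint (X.presheaf.stalk ξ) := by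
    apply PrimeSpectrum.localization_comap_injective (X.presheaf.stalk ξ) p.asIdeal.primeCompl
    change Q = _
    rw [hQp]
    apply PrimeSpectrum.ext
    exact hcomap.symm
  rw [hPm]
  exact IsLocalRing.maximalIdeal.isMaximal _

end Groth.Agent.Lib.Helper20.StalkFinLen
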