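import Groth.Agent.Lib.Helper20.DevTop
import Groth.Agent.Lib.Helper20.DevLen
import Groth.Agent.Lib.Helper20.DevAlg
import Groth.Agent.Lib.Helper20.DevGraph
import Groth.Agent.Lib.Helper20.StalkFinLen
import Groth.Agent.Lib.QCoh.Helper18_StalkHomSpread
import Groth.Agent.Lib.QCoh.Helper18_StalkLocal

/-!
# helper20: the dévissage lemma for coherent modules on a Noetherian scheme (EGA III 3.1.2)

`Devissage.main`: let `P` be an isomorphism-invariant property of `O_X`-modules on a Noetherian
scheme `X` and `Y₀ ⊆ X`, such that `P` satisfies two-out-of-three in short exact sequences of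
coherent modules supported in `Y₀`, `P` holds for zero modules, and for every `ξ ∈ Y₀` there is a
coherent `G` with `P G`, `Supp G ⊆ closure {ξ}` and `length G_ξ = 1`.  Then `P` holds for every
coherent module with support in `Y₀`.
-/

universe u
open CategoryTheory CategoryTheory.Limits AlgebraicGeometry Opposite TopologicalSpace

namespace Groth.Agent.Lib.Helper20.Devissage

open Groth.Agent.Lib.QCoh Groth.Agent.Lib.Helper20.DevLen Scheme.Modules

variable {X : Scheme.{u}}

/-- two-out-of-three for short exact sequences of coherent modules supported in `Y₀` -/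
def SESHyp (P : X.Modules → Prop) (Y₀ : Set X) : Prop :=
  ∀ S : ShortComplex X.Modules, S.ShortExact → Coh.IsCoh S.X₁ → Coh.IsCoh S.X₂ → Coh.IsCoh S.X₃ →
    CohB1.support S.X₂ ⊆ Y₀ →
    (P S.X₁ → P S.X₂ → P S.X₃) ∧ (P S.X₁ → P S.X₃ → P S.X₂) ∧ (P S.X₂ → P S.X₃ → P S.X₁)

theorem transfer [IsLocallyNoetherian X] {P : X.Modules → Prop} {Y₀ : Set X}
    (hP : ∀ M N : X.Modules, Nonempty (M ≅ N) → P M → P N) (h₁ : SESHyp P Y₀)
    {A B : X.Modules} (hA : Coh.IsCoh A) (hB : Coh.IsCoh B)
    (hAs : CohB1.support A ⊆ Y₀) (hBs : CohB1.support B ⊆ Y₀) (f : A ⟶ B)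
    (hk : P (kernel f)) (hc : P (cokernel f)) : P A ↔ P B := by
  have hK : Coh.IsCoh (kernel f) := isCoh_kernel hA hB f
  have hC : Coh.IsCoh (cokernel f) := isCoh_cokernel hA hB f
  have hCoim : Coh.IsCoh (Abelian.coimage f) := isCoh_cokernel hK hA (kernel.ι f)
  have hIm : Coh.IsCoh (Abelian.image f) := isCoh_kernel hB hC (cokernel.π f)
  let S1 : ShortComplex X.Modules :=
    ShortComplex.mk (kernel.ι f) (cokernel.π (kernel.ι f)) (cokernel.condition _)
  have hS1 : S1.ShortExact :=
    { exact := ShortComplex.exact_of_g_is_cokernel _ (cokernelIsCokernel _)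
      mono_f := inferInstanceAs (Mono (kernel.ι f))
      epi_g := inferInstanceAs (Epi (cokernel.π (kernel.ι f))) }
  let S2 : ShortComplex X.Modules :=
    ShortComplex.mk (kernel.ι (cokernel.π f)) (cokernel.π f) (kernel.condition _)
  have hS2 : S2.ShortExact :=
    { exact := ShortComplex.exact_of_f_is_kernel _ (kernelIsKernel _)
      mono_f := inferInstanceAs (Mono (kernel.ι (cokernel.π f)))
      epi_g := inferInstanceAs (Epi (cokernel.π f)) }
  obtain ⟨h1a, h1b, h1c⟩ := h₁ S1 hS1 hK hA hCoim hAs
  obtain ⟨h2a, h2b, h2c⟩ := h₁ S2 hS2 hIm hB hC hBs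
  constructor
  · intro hPA
    have h3 : P (Abelian.coimage f) := h1a hk hPA
    have h4 : P (Abelian.image f) := hP _ _ ⟨Abelian.coimageIsoImage f⟩ h3
    exact h2b h4 hc
  · intro hPB
    have h3 : P (Abelian.image f) := h2c hPB hc
    have h4 : P (Abelian.coimage f) := hP _ _ ⟨(Abelian.coimageIsoImage f).symm⟩ h3
    exact h1b hk h4

/-- The inductive step of the dévissage: induction on the length of the stalk at a point `ξ` of `Y`
which is maximal under generization. -/
theorem step [IsNoetherian X] {P : X.Modules → Prop} {Y₀ : Set X}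
    (hP : ∀ M N : X.Modules, Nonempty (M ≅ N) → P M → P N) (h₁ : SESHyp P Y₀)
    (Y : Set X) (hYcl : IsClosed Y) (hYY₀ : Y ⊆ Y₀) (ξ : X) (hξY : ξ ∈ Y)
    (hmax : ∀ x ∈ Y, x ⤳ ξ → x = ξ)
    (hstar : ∀ N : X.Modules, Coh.IsCoh N → CohB1.support N ⊆ Y →
      Subsingleton (N.presheaf.stalk ξ) → P N)
    (G : X.Modules) (hG : Coh.IsCoh G) (hPG : P G) (hGs : CohB1.support G ⊆ closure {ξ})
    (hGl : L ξ G = 1) :
    ∀ (n : ℕ) (M : X.Modules), Coh.IsCoh M → CohB1.support M ⊆ Y → L ξ M = n → P M := by
  have hGY : CohB1.support G ⊆ Y := hGs.trans (closure_minimal (Set.singleton_subset_iff.2 hξY) hYcl)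
  intro n
  induction n with
  | zero =>
    intro M hM hMs hL
    exact hstar M hM hMs (Module.length_eq_zero_iff.1 (by simpa using hL))
  | succ n ih =>
    intro M hM hMs hL
    haveI : M.IsQuasicoherent := hM.1
    haveI : M.IsFiniteType := hM.2
    haveI : G.IsQuasicoherent := hG.1
    haveI : G.IsFiniteType := hG.2
    -- the stalk of `M` at `ξ` has finite length and is nonzero
    have hfin : IsFiniteLength (X.presheaf.stalk ξ) (M.presheaf.stalk ξ) := by
      apply Groth.Agent.Lib.Helper20.StalkFinLen.isFiniteLength_stalk_of_maximal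
      intro x hx hspec
      refine hmax x (hMs ?_) hspec
      rw [mem_support_iff]
      exact not_subsingleton_iff_nontrivial.2 hx
    have hnt : Nontrivial (M.presheaf.stalk ξ) := by
      rw [← not_subsingleton_iff_nontrivial, ← Module.length_eq_zero_iff (R := X.presheaf.stalk ξ)]
      intro h0
      rw [show L ξ M = 0 from h0] at hL
      exact absurd hL (by norm_cast)
    obtain ⟨ψ, hψ⟩ := Groth.Agent.Lib.Helper20.DevAlg.exists_injective_of_length_one
      (R := X.presheaf.stalk ξ) (A := G.presheaf.stalk ξ) (B := M.presheaf.stalk ξ) hGl hfin hnt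
    -- spread out
    obtain ⟨U, hξU, φ, hφ⟩ :=
      StalkHomSpread.exists_hom_restrict_with_stalk_eq X M G hM hG ξ ψ
    have hX : ∀ x : X, ∃ U : X.Opens, x ∈ U ∧ NoetherianSpace (U : Set X) :=
      fun x => ⟨⊤, trivial, inferInstance⟩
    obtain ⟨H, j, hj, hHq, hHf, hiso, hcomm⟩ :=
      Groth.Agent.Lib.Helper20.DevGraph.exists_graph_hom hX G M U φ
    have hH : Coh.IsCoh H := ⟨hHq, hHf⟩
    let u : U := ⟨ξ, hξU⟩
    -- supports
    have hHs : CohB1.support H ⊆ Y := by
      refine (support_subset_of_mono j).trans ((support_biprod_subset G M).trans ?_)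
      exact Set.union_subset hGY hMs
    -- stalk maps at `ξ`
    have ha : Function.Bijective (stalkMap (j ≫ biprod.fst) ξ) := by
      have h1 : Function.Bijective
          (stalkMap ((restrictFunctor U.ι).map (j ≫ biprod.fst)) u) := by
        have hi2 : IsIso ((stalkFunctor U u).map ((restrictFunctor U.ι).map (j ≫ biprod.fst))) :=
          Functor.map_isIso _ _
        exact (ConcreteCategory.isIso_iff_bijective _).1 hi2
      exact (StalkLocal.bijective_stalkMap_restrict_iff U (j ≫ biprod.fst) u).1 h1
    have hφinj : Function.Injective (stalkMap φ u) := by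
      intro a₁ a₂ h12
      have hbijG := StalkLocal.bijective_restrictStalkNatIso_app U u G
      have key : ∀ a : ((restrictFunctor U.ι).obj G).presheaf.stalk u,
          ψ ((restrictStalkNatIso U.ι u).hom.app G a) =
            (restrictStalkNatIso U.ι u).hom.app M (stalkMap φ u a) := by
        intro a
        have h2 := ConcreteCategory.congr_hom hφ ((restrictStalkNatIso U.ι u).hom.app G a)
        rw [ConcreteCategory.comp_apply, ConcreteCategory.comp_apply] at h2
        have h3 : (restrictStalkNatIso U.ι u).inv.app G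
            ((restrictStalkNatIso U.ι u).hom.app G a) = a := by
          rw [← ConcreteCategory.comp_apply, Iso.hom_inv_id_app]
          rfl
        rw [h3] at h2
        exact h2.symm
      apply hbijG.1
      apply hψ
      rw [key, key, h12]
    have hb : Function.Injective (stalkMap (j ≫ biprod.snd) ξ) := by
      have h1 : Function.Injective
          (stalkMap ((restrictFunctor U.ι).map (j ≫ biprod.snd)) u) := by
        rw [hcomm]
        intro a₁ a₂ h12
        rw [stalkMap_comp_apply, stalkMap_comp_apply] at h12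
        have h3 : Function.Bijective
            (stalkMap ((restrictFunctor U.ι).map (j ≫ biprod.fst)) u) := by
          have hi2 : IsIso ((stalkFunctor U u).map ((restrictFunctor U.ι).map (j ≫ biprod.fst))) :=
            Functor.map_isIso _ _
          exact (ConcreteCategory.isIso_iff_bijective _).1 hi2
        exact h3.1 (hφinj h12)
      exact (StalkLocal.injective_stalkMap_restrict_iff U (j ≫ biprod.snd) u).1 h1
    -- `P H`
    have hPH : P H := by
      refine (transfer hP h₁ hH hG (hHs.trans hYY₀) (hGY.trans hYY₀) (j ≫ biprod.fst) ?_ ?_).2 hPG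
      · refine hstar _ (isCoh_kernel hH hG _) ?_ (subsingleton_stalk_kernel _ ξ ha.1)
        exact (support_subset_of_mono (kernel.ι _)).trans hHs
      · refine hstar _ (isCoh_cokernel hH hG _) ?_ (subsingleton_stalk_cokernel _ ξ ha.2)
        exact (support_subset_of_epi (cokernel.π _)).trans hGY
    -- lengths
    have hLH : L ξ H = 1 := (L_of_bijective _ ξ ha).trans hGl
    have hLc : L ξ (cokernel (j ≫ biprod.snd)) = n := by
      have h1 := L_cokernel_of_injective (j ≫ biprod.snd) ξ hb
      rw [hL, hLH] at h1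
      generalize L ξ (cokernel (j ≫ biprod.snd)) = c at h1 ⊢
      induction c using ENat.recTopCoe with
      | top => simp at h1
      | coe m =>
        norm_cast at h1 ⊢
        omega
    refine (transfer hP h₁ hH hM (hHs.trans hYY₀) (hMs.trans hYY₀) (j ≫ biprod.snd) ?_ ?_).1 hPH
    · refine hstar _ (isCoh_kernel hH hM _) ?_ (subsingleton_stalk_kernel _ ξ hb)
      exact (support_subset_of_mono (kernel.ι _)).trans hHs
    · refine ih _ (isCoh_cokernel hH hM _) ?_ hLc
      exact (support_subset_of_epi (cokernel.π _)).trans hMs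

/-- **Dévissage** (EGA III 3.1.2 style). -/
theorem main (X : Scheme.{u}) [IsNoetherian X] (P : X.Modules → Prop)
    (hP : ∀ M N : X.Modules, Nonempty (M ≅ N) → P M → P N) (Y₀ : Set X) (h₁ : SESHyp P Y₀)
    (h0 : ∀ M : X.Modules, IsZero M → P M)
    (h₂ : ∀ ξ ∈ Y₀, ∃ G : X.Modules, Coh.IsCoh G ∧ P G ∧ CohB1.support G ⊆ closure {ξ} ∧
      L ξ G = 1)
    (M : X.Modules) (hM : Coh.IsCoh M) (hsupp : CohB1.support M ⊆ Y₀) : P M := by
  suffices key : ∀ Y : Closeds X, ∀ M : X.Modules, Coh.IsCoh M →
      CohB1.support M ⊆ (Y : Set X) → CohB1.support M ⊆ Y₀ → P M from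
    key ⊤ M hM (Set.subset_univ _) hsupp
  intro Y
  induction Y using WellFoundedLT.induction with
  | _ Y IH =>
  intro M hM hMY hMY₀
  haveI : M.IsQuasicoherent := hM.1
  haveI : M.IsFiniteType := hM.2
  have hScl : IsClosed (CohB1.support M) := isClosed_support_of_isFT M hM.2
  by_cases hne : CohB1.support M = (Y : Set X)
  · have hYY₀ : (Y : Set X) ⊆ Y₀ := hne ▸ hMY₀
    by_cases hemp : (Y : Set X) = ∅
    · apply h0
      apply isZero_of_forall_stalk_subsingleton
      intro x
      by_contra hx
      have hx' : x ∈ CohB1.support M := (mem_support_iff M x).2 hx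
      rw [hne, hemp] at hx'
      exact hx'
    · obtain ⟨ξ, hξY, hmax⟩ := Groth.Agent.Lib.Helper20.DevTop.exists_maximal_generization
        (Y : Set X) Y.isClosed (Set.nonempty_iff_ne_empty.2 hemp)
      obtain ⟨G, hG, hPG, hGs, hGl⟩ := h₂ ξ (hYY₀ hξY)
      have hstar : ∀ N : X.Modules, Coh.IsCoh N → CohB1.support N ⊆ (Y : Set X) →
          Subsingleton (N.presheaf.stalk ξ) → P N := by
        intro N hN hNY hNξ
        have hNcl : IsClosed (CohB1.support N) := isClosed_support_of_isFT N hN.2
        refine IH ⟨CohB1.support N, hNcl⟩ ?_ N hN subset_rfl (hNY.trans hYY₀)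
        refine lt_of_le_of_ne (show (⟨CohB1.support N, hNcl⟩ : Closeds X) ≤ Y from hNY) ?_
        intro heq
        have h1 : ξ ∈ CohB1.support N := by
          have h2 : CohB1.support N = (Y : Set X) := congrArg (fun Z : Closeds X => (Z : Set X)) heq
          rw [h2]
          exact hξY
        exact (mem_support_iff N ξ).1 h1 hNξ
      have hfin : IsFiniteLength (X.presheaf.stalk ξ) (M.presheaf.stalk ξ) := by
        apply Groth.Agent.Lib.Helper20.StalkFinLen.isFiniteLength_stalk_of_maximal
        intro x hx hspec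
        refine hmax x (hMY ?_) hspec
        rw [mem_support_iff]
        exact not_subsingleton_iff_nontrivial.2 hx
      obtain ⟨n, hn⟩ : ∃ n : ℕ, L ξ M = n := by
        have h1 : L ξ M ≠ ⊤ := Module.length_ne_top_iff.2 hfin
        exact ⟨_, (ENat.coe_toNat h1).symm⟩
      exact step hP h₁ Y Y.isClosed hYY₀ ξ hξY hmax hstar G hG hPG hGs hGl n M hM hMY hn
  · refine IH ⟨CohB1.support M, hScl⟩ ?_ M hM subset_rfl hMY₀
    refine lt_of_le_of_ne (show (⟨CohB1.support M, hScl⟩ : Closeds X) ≤ Y from hMY) ?_
    intro h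
    exact hne (congrArg (fun Z : Closeds X => (Z : Set X)) h)

end Groth.Agent.Lib.Helper20.Devissage
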