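import Groth.Prelude.Def_FSch3
import Groth.Agent.Lib.Helper20.IdealComap
import Mathlib.AlgebraicGeometry.Morphisms.Finite
import Mathlib.AlgebraicGeometry.Noetherian

/-!
Tools for formal schemes presented as systems of thickenings (`FSch.Sys`).
-/

universe u

open CategoryTheory CategoryTheory.Limits AlgebraicGeometry

namespace Groth.Agent.Lib.Helper20

open AlgebraicGeometry.Scheme

/-- For a closed immersion `i`, pulling back the pushforward of an ideal sheaf gives it back. -/
theorem comap_map_of_isClosedImmersion {Z X : Scheme.{u}} (i : Z ⟶ X) [IsClosedImmersion i]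
    (K : Z.IdealSheafData) : (K.map i).comap i = K := by
  apply IdealSheafData.ext_of_iSup_eq_top
    (fun V : X.affineOpens => (⟨i ⁻¹ᵁ V.1, V.2.preimage i⟩ : Z.affineOpens))
  · rw [eq_top_iff]
    intro z _
    obtain ⟨_, ⟨V, hV, rfl⟩, hzV, -⟩ :=
      X.isBasis_affineOpens.exists_subset_of_mem_open (Set.mem_univ (i z)) isOpen_univ
    exact TopologicalSpace.Opens.mem_iSup.mpr ⟨⟨V, hV⟩, hzV⟩
  · intro V
    rw [ideal_comap i (K.map i) ⟨i ⁻¹ᵁ V.1, V.2.preimage i⟩ V le_rfl,
      IdealSheafData.ideal_map_of_isAffineHom, Scheme.Hom.appLE_eq_app]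
    exact Ideal.map_comap_of_surjective _ (i.app_surjective V.1 V.2) _

/-- The kernel of the inclusion of closed subschemes `V(J) ⟶ V(I)` is the pullback of `J`. -/
theorem ker_inclusion {X : Scheme.{u}} {I J : X.IdealSheafData} (h : I ≤ J) :
    (IdealSheafData.inclusion h).ker = J.comap I.subschemeι := by
  rw [← comap_map_of_isClosedImmersion I.subschemeι (IdealSheafData.inclusion h).ker,
    IdealSheafData.map_ker, IdealSheafData.inclusion_subschemeι, IdealSheafData.ker_subschemeι]

/-- The inclusion of closed subschemes with the same support is surjective. -/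
theorem inclusion_surjective {X : Scheme.{u}} {I J : X.IdealSheafData} (h : I ≤ J)
    (hs : I.support = J.support) : Function.Surjective (IdealSheafData.inclusion h).base := by
  intro z
  have hz : I.subschemeι z ∈ Set.range J.subschemeι := by
    rw [IdealSheafData.range_subschemeι, ← hs, ← IdealSheafData.range_subschemeι]
    exact ⟨z, rfl⟩
  obtain ⟨w, hw⟩ := hz
  refine ⟨w, ?_⟩
  apply I.subschemeι.isEmbedding.injective
  rw [← hw, ← IdealSheafData.inclusion_subschemeι h]
  rfl

section completion

variable (X : Scheme.{u}) (𝓘 : X.IdealSheafData)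

theorem pow_succ_le_pow_one (n : ℕ) : 𝓘 ^ (n + 1) ≤ 𝓘 ^ (0 + 1) :=
  pow_le_pow_of_le_one bot_le le_top (by omega)

/-- The composite `X_0 ⟶ X_n` of the completion system is the inclusion. -/
theorem completionAlong_toX (n : ℕ) :
    (FSch.completionAlong X 𝓘).toX n = IdealSheafData.inclusion (pow_succ_le_pow_one X 𝓘 n) := by
  induction n with
  | zero =>
    change 𝟙 _ = _
    exact (IdealSheafData.inclusion_id _).symm
  | succ n ih =>
    have h : (FSch.completionAlong X 𝓘).toX (n + 1) =
      (FSch.completionAlong X 𝓘).toX n ≫ (FSch.completionAlong X 𝓘).ι n := rfl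
    rw [h, ih]
    exact IdealSheafData.inclusion_comp _ _

theorem completionAlong_isFormal : (FSch.completionAlong X 𝓘).IsFormal := by
  intro n
  refine ⟨?_, ?_⟩
  · change IsClosedImmersion (IdealSheafData.inclusion _)
    infer_instance
  · change Function.Surjective (IdealSheafData.inclusion (FSch.pow_succ_le X 𝓘 n)).base
    apply inclusion_surjective
    rw [IdealSheafData.support_pow_succ, IdealSheafData.support_pow_succ]

theorem completionAlong_isAdic : (FSch.completionAlong X 𝓘).IsAdic := by
  intro n
  have h1 : ((FSch.completionAlong X 𝓘).toX (n + 1)).ker =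
      (𝓘 ^ (0 + 1)).comap (𝓘 ^ (n + 1 + 1)).subschemeι := by
    rw [completionAlong_toX]
    exact ker_inclusion _
  have h2 : ((FSch.completionAlong X 𝓘).ι n).ker =
      (𝓘 ^ (n + 1)).comap (𝓘 ^ (n + 1 + 1)).subschemeι := ker_inclusion _
  have h3 : (𝓘 ^ (n + 1)).comap (𝓘 ^ (n + 1 + 1)).subschemeι =
      ((𝓘 ^ (0 + 1)).comap (𝓘 ^ (n + 1 + 1)).subschemeι) ^ (n + 1) := by
    rw [← comap_pow, ← pow_mul]
    simp
  exact h2.trans (h3.trans (congrArg (· ^ (n + 1)) h1.symm))

theorem completionAlong_isLocallyNoetherian [IsLocallyNoetherian X] (n : ℕ) :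
    IsLocallyNoetherian ((FSch.completionAlong X 𝓘).X n) := by
  have := LocallyOfFiniteType.isLocallyNoetherian (𝓘 ^ (n + 1)).subschemeι
  exact this

theorem completionAlong_isLocNoethFormal [IsLocallyNoetherian X] :
    (FSch.completionAlong X 𝓘).IsLocNoethFormal :=
  ⟨completionAlong_isFormal X 𝓘, completionAlong_isAdic X 𝓘,
    completionAlong_isLocallyNoetherian X 𝓘⟩

end completion

end Groth.Agent.Lib.Helper20
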