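import Groth.Agent.S3858
import Groth.Prelude.Def_FSch4

universe u

open AlgebraicGeometry CategoryTheory CategoryTheory.Limits

namespace Groth.Agent.Lib.Helper20.GraphAdic

variable {𝔛 𝔜 𝔖 : FSch.Sys.{u}}

/-- If `g` is adic then the first projection of the levelwise fibre product is adic. -/
theorem isAdicHom_pullbackFst (f : 𝔛 ⟶ 𝔖) (g : 𝔜 ⟶ 𝔖) (hg : FSch.IsAdicHom g) :
    FSch.IsAdicHom (FSch.pullbackFst f g) := by
  intro n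
  have big := (IsPullback.of_hasPullback ((f : FSch.Hom 𝔛 𝔖).app n)
    ((g : FSch.Hom 𝔜 𝔖).app n)).flip.paste_horiz (hg n)
  have e1 : (FSch.pullbackSys f g).ι n ≫ pullback.fst ((f : FSch.Hom 𝔛 𝔖).app (n + 1))
      ((g : FSch.Hom 𝔜 𝔖).app (n + 1)) =
      pullback.fst ((f : FSch.Hom 𝔛 𝔖).app n) ((g : FSch.Hom 𝔜 𝔖).app n) ≫ 𝔛.ι n :=
    pullback.lift_fst _ _ _
  have e2 : (FSch.pullbackSys f g).ι n ≫ pullback.snd ((f : FSch.Hom 𝔛 𝔖).app (n + 1))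
      ((g : FSch.Hom 𝔜 𝔖).app (n + 1)) =
      pullback.snd ((f : FSch.Hom 𝔛 𝔖).app n) ((g : FSch.Hom 𝔜 𝔖).app n) ≫ 𝔜.ι n :=
    pullback.lift_snd _ _ _
  rw [← e2, (f : FSch.Hom 𝔛 𝔖).comm n] at big
  exact IsPullback.of_right big e1 (IsPullback.of_hasPullback _ _).flip

/-- A section of an adic morphism is adic. -/
theorem isAdicHom_of_section {𝔓 : FSch.Sys.{u}} (s : 𝔛 ⟶ 𝔓) (g : 𝔓 ⟶ 𝔛) (hsg : s ≫ g = 𝟙 𝔛)
    (hg : FSch.IsAdicHom g) : FSch.IsAdicHom s := by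
  intro n
  have h1 : (s : FSch.Hom 𝔛 𝔓).app n ≫ (g : FSch.Hom 𝔓 𝔛).app n = 𝟙 _ := by
    rw [← FSch.comp_app, hsg]; rfl
  have h2 : (s : FSch.Hom 𝔛 𝔓).app (n + 1) ≫ (g : FSch.Hom 𝔓 𝔛).app (n + 1) = 𝟙 _ := by
    rw [← FSch.comp_app, hsg]; rfl
  have big : IsPullback (𝔛.ι n) ((s : FSch.Hom 𝔛 𝔓).app n ≫ (g : FSch.Hom 𝔓 𝔛).app n)
      ((s : FSch.Hom 𝔛 𝔓).app (n + 1) ≫ (g : FSch.Hom 𝔓 𝔛).app (n + 1)) (𝔛.ι n) := by
    rw [h1, h2]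
    exact IsPullback.of_vert_isIso ⟨by simp⟩
  exact IsPullback.of_bot big ((s : FSch.Hom 𝔛 𝔓).comm n).symm (hg n)

/-- If `f ≫ q` is adic and the transition maps of `𝔜` are monomorphisms, then `f` is adic. -/
theorem isAdicHom_of_comp (f : 𝔛 ⟶ 𝔜) (q : 𝔜 ⟶ 𝔖) (hp : FSch.IsAdicHom (f ≫ q))
    (hmono : ∀ n, Mono (𝔜.ι n)) : FSch.IsAdicHom f := by
  intro n
  have hpn := hp n
  have := hmono n
  refine ⟨⟨(f : FSch.Hom 𝔛 𝔜).comm n |>.symm⟩, ⟨PullbackCone.IsLimit.mk _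
    (fun c => hpn.lift c.fst (c.snd ≫ (q : FSch.Hom 𝔜 𝔖).app n) ?_) (fun c => ?_) (fun c => ?_)
    (fun c m h1 h2 => ?_)⟩⟩
  · rw [FSch.comp_app, ← Category.assoc, c.condition, Category.assoc, Category.assoc,
      (q : FSch.Hom 𝔜 𝔖).comm n]
  · exact hpn.lift_fst _ _ _
  · rw [← cancel_mono (𝔜.ι n), Category.assoc, (f : FSch.Hom 𝔛 𝔜).comm n, ← Category.assoc,
      hpn.lift_fst]
    exact c.condition
  · apply hpn.hom_ext
    · rw [hpn.lift_fst]; exact h1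
    · rw [hpn.lift_snd, FSch.comp_app, ← Category.assoc, h2]


theorem graph_comp_pullbackFst (f : 𝔛 ⟶ 𝔜) (p : 𝔛 ⟶ 𝔖) (q : 𝔜 ⟶ 𝔖) (w : f ≫ q = p) :
    FSch.graph f p q w ≫ FSch.pullbackFst p q = 𝟙 𝔛 := by
  apply FSch.Hom.ext
  funext n
  exact pullback.lift_fst _ _ _

theorem graph_comp_pullbackSnd (f : 𝔛 ⟶ 𝔜) (p : 𝔛 ⟶ 𝔖) (q : 𝔜 ⟶ 𝔖) (w : f ≫ q = p) :
    FSch.graph f p q w ≫ FSch.pullbackSnd p q = f := by
  apply FSch.Hom.ext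
  funext n
  exact pullback.lift_snd _ _ _

theorem isAdicHom_graph (h𝔜 : 𝔜.IsFormal) (f : 𝔛 ⟶ 𝔜) (p : 𝔛 ⟶ 𝔖) (q : 𝔜 ⟶ 𝔖) (w : f ≫ q = p)
    (hpq : FSch.IsAdicHom p ∨ FSch.IsAdicHom q) : FSch.IsAdicHom (FSch.graph f p q w) := by
  rcases hpq with hp | hq
  · -- `p` adic: `f` is adic, `pullbackSnd` is adic
    have hmono : ∀ n, Mono (𝔜.ι n) := fun n => by
      have := (h𝔜 n).1
      infer_instance
    have hf : FSch.IsAdicHom f := isAdicHom_of_comp f q (w ▸ hp) hmono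
    have hsnd : FSch.IsAdicHom (FSch.pullbackSnd p q) :=
      Groth.Agent.S3858.isAdicHom_pullbackSnd p q hp
    intro n
    have hfn := hf n
    have e1 : (f : FSch.Hom 𝔛 𝔜).app n = (FSch.graph f p q w : FSch.Hom _ _).app n ≫
        (FSch.pullbackSnd p q : FSch.Hom _ _).app n := by
      rw [← FSch.comp_app, graph_comp_pullbackSnd]
    have e2 : (f : FSch.Hom 𝔛 𝔜).app (n + 1) = (FSch.graph f p q w : FSch.Hom _ _).app (n + 1) ≫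
        (FSch.pullbackSnd p q : FSch.Hom _ _).app (n + 1) := by
      rw [← FSch.comp_app, graph_comp_pullbackSnd]
    rw [e1, e2] at hfn
    exact IsPullback.of_bot hfn ((FSch.graph f p q w : FSch.Hom _ _).comm n).symm (hsnd n)
  · exact isAdicHom_of_section _ _ (graph_comp_pullbackFst f p q w)
      (isAdicHom_pullbackFst p q hq)

theorem isClosedImmersion_graph_zero (f : 𝔛 ⟶ 𝔜) (p : 𝔛 ⟶ 𝔖) (q : 𝔜 ⟶ 𝔖) (w : f ≫ q = p)
    (hq : IsSeparated ((q : FSch.Hom 𝔜 𝔖).app 0)) :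
    IsClosedImmersion ((FSch.graph f p q w : FSch.Hom _ _).app 0) := by
  have h1 : (FSch.graph f p q w : FSch.Hom _ _).app 0 ≫
      (FSch.pullbackFst p q : FSch.Hom _ _).app 0 = 𝟙 _ := by
    rw [← FSch.comp_app, graph_comp_pullbackFst]; rfl
  have h2 : IsClosedImmersion ((FSch.graph f p q w : FSch.Hom _ _).app 0 ≫
      (FSch.pullbackFst p q : FSch.Hom _ _).app 0) := by
    rw [h1]; infer_instance
  have h3 : IsSeparated ((FSch.pullbackFst p q : FSch.Hom _ _).app 0) :=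
    MorphismProperty.pullback_fst (P := @IsSeparated) _ _ hq
  exact @IsClosedImmersion.of_comp _ _ _ _ _ h2 h3

end Groth.Agent.Lib.Helper20.GraphAdic
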