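import Mathlib

/-!
# helper20: irreducible components of a subset of a locally Noetherian space are locally finite
-/

open TopologicalSpace Topology Set

namespace Groth.Agent.Lib.Helper20.IrrCompLocFin

/-- If `V` is an open subset of `Y` which is a Noetherian space, only finitely many irreducible
components of `Y` meet `V`. -/
theorem finite_irreducibleComponents_meeting {Y : Type*} [TopologicalSpace Y] (V : Set Y)
    (hV : IsOpen V) [NoetherianSpace V] :
    {Z : irreducibleComponents Y | ((Z : Set Y) ∩ V).Nonempty}.Finite := by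
  have hemb : IsOpenEmbedding (Subtype.val : V → Y) := hV.isOpenEmbedding_subtypeVal
  have hfin : (irreducibleComponents V).Finite := NoetherianSpace.finite_irreducibleComponents
  let Φ : {Z : irreducibleComponents Y | ((Z : Set Y) ∩ V).Nonempty} → irreducibleComponents V :=
    fun Z => ⟨Subtype.val ⁻¹' (Z.1 : Set Y), preimage_mem_irreducibleComponents Z.1.2 hemb (by
      rw [Subtype.range_coe]; exact Z.2)⟩
  have hΦ : Function.Injective Φ := by
    intro Z Z' h
    have h1 : (Subtype.val : V → Y) ⁻¹' (Z.1 : Set Y) = Subtype.val ⁻¹' (Z'.1 : Set Y) :=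
      congrArg Subtype.val h
    have hZ : closure ((Subtype.val : V → Y) '' (Subtype.val ⁻¹' (Z.1 : Set Y))) = Z.1 := by
      apply closure_image_preimage_of_isPreirreducible _ hemb.isOpenMap _ _ Z.1.2.1.2
        (isClosed_of_mem_irreducibleComponents _ Z.1.2)
      obtain ⟨y, hyZ, hyV⟩ := Z.2
      exact ⟨⟨y, hyV⟩, hyZ⟩
    have hZ' : closure ((Subtype.val : V → Y) '' (Subtype.val ⁻¹' (Z'.1 : Set Y))) = Z'.1 := by
      apply closure_image_preimage_of_isPreirreducible _ hemb.isOpenMap _ _ Z'.1.2.1.2
        (isClosed_of_mem_irreducibleComponents _ Z'.1.2)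
      obtain ⟨y, hyZ, hyV⟩ := Z'.2
      exact ⟨⟨y, hyV⟩, hyZ⟩
    apply Subtype.ext
    apply Subtype.ext
    rw [← hZ, ← hZ', h1]
  haveI : Finite (irreducibleComponents V) := hfin.to_subtype
  have : Finite {Z : irreducibleComponents Y | ((Z : Set Y) ∩ V).Nonempty} :=
    Finite.of_injective Φ hΦ
  exact Set.toFinite _

/-- In a space in which every point has a Noetherian open neighbourhood, the irreducible components
of any subset form a locally finite family. -/
theorem locallyFinite_irreducibleComponents_subset {X : Type*} [TopologicalSpace X]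
    (hX : ∀ x : X, ∃ U : Set X, IsOpen U ∧ x ∈ U ∧ NoetherianSpace U) (S : Set X) :
    LocallyFinite (fun Z : irreducibleComponents S => ((↑) '' (Z : Set S) : Set X)) := by
  intro x
  obtain ⟨U, hUo, hxU, hUN⟩ := hX x
  refine ⟨U, hUo.mem_nhds hxU, ?_⟩
  let V : Set S := Subtype.val ⁻¹' U
  have hVo : IsOpen V := hUo.preimage continuous_subtype_val
  let g : V → U := fun v => ⟨v.1.1, v.2⟩
  have hg : IsInducing g := by
    have h1 : IsInducing ((Subtype.val : U → X) ∘ g) := by
      have : (Subtype.val : U → X) ∘ g = (Subtype.val : S → X) ∘ (Subtype.val : V → S) := rfl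
      rw [this]
      exact IsInducing.subtypeVal.comp IsInducing.subtypeVal
    exact (IsInducing.subtypeVal.of_comp_iff).mp h1
  haveI : NoetherianSpace V := hg.noetherianSpace
  refine (finite_irreducibleComponents_meeting V hVo).subset ?_
  rintro Z ⟨y, ⟨s, hsZ, rfl⟩, hyU⟩
  exact ⟨s, hsZ, hyU⟩

end Groth.Agent.Lib.Helper20.IrrCompLocFin
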