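import Groth.Agent.Lib.Helper20.Devissage
import Groth.Agent.Lib.Helper20.AssMono
import Groth.Agent.Lib.Helper99.K0Res
import Groth.Prelude.Def_ChowK
import Mathlib.Topology.KrullDimension

/-!
# helper20: dévissage in the Grothendieck group of coherent modules

`clSub_mem_of_points`: a subgroup `B` of `K₀(Coh X)` containing the classes `[O_{Z(ξ)}]` for all
`ξ ∈ Y₀` contains the classes of all coherent modules supported in `Y₀`.
-/

universe u
open CategoryTheory CategoryTheory.Limits AlgebraicGeometry Opposite TopologicalSpace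

namespace Groth.Agent.Lib.Helper20.K0Dev

open Groth.Agent.Lib.QCoh Groth.Agent.Lib.Helper20.DevLen

variable {X : Scheme.{u}}

/-- the coherent class -/
abbrev CohP (X : Scheme.{u}) : ObjectProperty X.Modules := fun M : X.Modules => Coh.IsCoh M

lemma clSub_ses (S : ShortComplex X.Modules) (hS : S.ShortExact) (h₁ : Coh.IsCoh S.X₁)
    (h₂ : Coh.IsCoh S.X₂) (h₃ : Coh.IsCoh S.X₃) :
    KZero.clSub (CohP X) S.X₂ = KZero.clSub (CohP X) S.X₁ + KZero.clSub (CohP X) S.X₃ :=
  Groth.Agent.Lib.Helper99.K0Res.clSub_ses (CohP X) S hS h₁ h₂ h₃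

lemma clSub_iso {M N : X.Modules} (e : M ≅ N) (hM : Coh.IsCoh M) :
    KZero.clSub (CohP X) M = KZero.clSub (CohP X) N := by
  have hN : Coh.IsCoh N := isCoh_of_iso e hM
  -- `0 → M → N → coker → 0` and `0 → coker → coker → coker → 0`... use two sequences
  let S : ShortComplex X.Modules := ShortComplex.mk e.hom (cokernel.π e.hom) (cokernel.condition _)
  have hS : S.ShortExact :=
    { exact := ShortComplex.exact_of_g_is_cokernel _ (cokernelIsCokernel _)
      mono_f := inferInstanceAs (Mono e.hom)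
      epi_g := inferInstanceAs (Epi (cokernel.π e.hom)) }
  have hC : Coh.IsCoh (cokernel e.hom) := isCoh_cokernel hM hN e.hom
  have hZ : IsZero (cokernel e.hom) := isZero_cokernel_of_epi e.hom
  let S0 : ShortComplex X.Modules :=
    ShortComplex.mk (0 : cokernel e.hom ⟶ cokernel e.hom) (0 : cokernel e.hom ⟶ cokernel e.hom)
      zero_comp
  have hS0 : S0.ShortExact :=
    { exact := ShortComplex.exact_of_isZero_X₂ _ hZ
      mono_f := ⟨fun _ _ _ => hZ.eq_of_tgt _ _⟩
      epi_g := ⟨fun _ _ _ => hZ.eq_of_src _ _⟩ }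
  have h0 := clSub_ses S0 hS0 hC hC hC
  have h0' : KZero.clSub (CohP X) (cokernel e.hom) = 0 := by
    have : KZero.clSub (CohP X) (cokernel e.hom) =
      KZero.clSub (CohP X) (cokernel e.hom) + KZero.clSub (CohP X) (cokernel e.hom) := h0
    exact left_eq_add.1 this
  have h1 := clSub_ses S hS hM hN hC
  rw [h0', add_zero] at h1
  exact h1.symm

lemma clSub_isZero {M : X.Modules} (hM : IsZero M) (hMc : Coh.IsCoh M) :
    KZero.clSub (CohP X) M = 0 := by
  let S0 : ShortComplex X.Modules := ShortComplex.mk (0 : M ⟶ M) (0 : M ⟶ M) zero_comp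
  have hS0 : S0.ShortExact :=
    { exact := ShortComplex.exact_of_isZero_X₂ _ hM
      mono_f := ⟨fun _ _ _ => hM.eq_of_tgt _ _⟩
      epi_g := ⟨fun _ _ _ => hM.eq_of_src _ _⟩ }
  have h0 : KZero.clSub (CohP X) M = KZero.clSub (CohP X) M + KZero.clSub (CohP X) M :=
    clSub_ses S0 hS0 hMc hMc hMc
  exact left_eq_add.1 h0

lemma closureStructureSheaf_eq (ξ : X) :
    Cyc.closureStructureSheaf ξ = Groth.Agent.Lib.Helper20.AssMono.OZ X ξ := rfl

theorem clSub_mem_of_points [IsNoetherian X] (B : AddSubgroup (KZero.K0sub (CohP X)))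
    (Y₀ : Set X)
    (hB : ∀ ξ ∈ Y₀, KZero.clSub (CohP X) (Cyc.closureStructureSheaf ξ) ∈ B)
    (M : X.Modules) (hM : Coh.IsCoh M) (hMs : CohB1.support M ⊆ Y₀) :
    KZero.clSub (CohP X) M ∈ B := by
  refine Groth.Agent.Lib.Helper20.Devissage.main X
    (fun M => Coh.IsCoh M → KZero.clSub (CohP X) M ∈ B) ?_ Y₀ ?_ ?_ ?_ M hM hMs hM
  · rintro M N ⟨e⟩ hM hN
    have hMc : Coh.IsCoh M := isCoh_of_iso e.symm hN
    rw [← clSub_iso e hMc]
    exact hM hMc
  · intro S hS h1 h2 h3 _
    have h := clSub_ses S hS h1 h2 h3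
    refine ⟨fun ha hb _ => ?_, fun ha hc _ => ?_, fun hb hc _ => ?_⟩
    · have : KZero.clSub (CohP X) S.X₃ = KZero.clSub (CohP X) S.X₂ - KZero.clSub (CohP X) S.X₁ := by
        rw [h]; abel
      rw [this]
      exact B.sub_mem (hb h2) (ha h1)
    · rw [h]
      exact B.add_mem (ha h1) (hc h3)
    · have : KZero.clSub (CohP X) S.X₁ = KZero.clSub (CohP X) S.X₂ - KZero.clSub (CohP X) S.X₃ := by
        rw [h]; abel
      rw [this]
      exact B.sub_mem (hb h2) (hc h3)
  · intro M hM hMc
    rw [clSub_isZero hM hMc]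
    exact B.zero_mem
  · intro ξ hξ
    refine ⟨Cyc.closureStructureSheaf ξ, Groth.Agent.Lib.Helper20.AssMono.isCoh_OZ ξ,
      fun _ => hB ξ hξ, ?_, Groth.Agent.Lib.Helper20.AssMono.length_OZ ξ⟩
    have h1 := Groth.Agent.Lib.Helper20.PushO.support_push_structureModule
      (Scheme.IdealSheafData.vanishingIdeal ⟨closure {ξ}, isClosed_closure⟩).subschemeι
    have h2 := Groth.Agent.Lib.Helper21.RedSubscheme.range_subschemeι_vanishingIdeal
      (⟨closure {ξ}, isClosed_closure⟩ : Closeds X)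
    rw [closureStructureSheaf_eq]
    exact (h1.trans h2).le

theorem support_closureStructureSheaf (ξ : X) :
    CohB1.support (Cyc.closureStructureSheaf ξ) = closure {ξ} := by
  have h1 := Groth.Agent.Lib.Helper20.PushO.support_push_structureModule
    (Scheme.IdealSheafData.vanishingIdeal ⟨closure {ξ}, isClosed_closure⟩).subschemeι
  have h2 := Groth.Agent.Lib.Helper21.RedSubscheme.range_subschemeι_vanishingIdeal
    (⟨closure {ξ}, isClosed_closure⟩ : Closeds X)
  rw [closureStructureSheaf_eq]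
  exact h1.trans h2

theorem isCoh_closureStructureSheaf (ξ : X) : Coh.IsCoh (Cyc.closureStructureSheaf ξ) :=
  Groth.Agent.Lib.Helper20.AssMono.isCoh_OZ ξ

end Groth.Agent.Lib.Helper20.K0Dev
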