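import Groth.Agent.Lib.Helper20.K0Dev

/-!
# helper20: dévissage in `K₀` of coherent modules supported in a closed subset
-/

universe u
open CategoryTheory CategoryTheory.Limits AlgebraicGeometry Opposite TopologicalSpace

namespace Groth.Agent.Lib.Helper20.K0Dev

open Groth.Agent.Lib.QCoh Groth.Agent.Lib.Helper20.DevLen

variable {X : Scheme.{u}}

/-- coherent modules supported in `Y'` -/
abbrev CohIn (X : Scheme.{u}) (Y' : Set X) : ObjectProperty X.Modules :=
  fun G : X.Modules => Coh.IsCoh G ∧ CohB1.support G ⊆ Y'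

variable (Y' : Set X)

lemma clSubIn_ses (S : ShortComplex X.Modules) (hS : S.ShortExact) (h₁ : CohIn X Y' S.X₁)
    (h₂ : CohIn X Y' S.X₂) (h₃ : CohIn X Y' S.X₃) :
    KZero.clSub (CohIn X Y') S.X₂ = KZero.clSub (CohIn X Y') S.X₁ + KZero.clSub (CohIn X Y') S.X₃ :=
  Groth.Agent.Lib.Helper99.K0Res.clSub_ses (CohIn X Y') S hS h₁ h₂ h₃

lemma clSubIn_isZero {M : X.Modules} (hM : IsZero M) (hMc : CohIn X Y' M) :
    KZero.clSub (CohIn X Y') M = 0 := by
  let S0 : ShortComplex X.Modules := ShortComplex.mk (0 : M ⟶ M) (0 : M ⟶ M) zero_comp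
  have hS0 : S0.ShortExact :=
    { exact := ShortComplex.exact_of_isZero_X₂ _ hM
      mono_f := ⟨fun _ _ _ => hM.eq_of_tgt _ _⟩
      epi_g := ⟨fun _ _ _ => hM.eq_of_src _ _⟩ }
  have h0 : KZero.clSub (CohIn X Y') M =
      KZero.clSub (CohIn X Y') M + KZero.clSub (CohIn X Y') M :=
    clSubIn_ses Y' S0 hS0 hMc hMc hMc
  exact left_eq_add.1 h0

lemma clSubIn_iso {M N : X.Modules} (e : M ≅ N) (hM : CohIn X Y' M) :
    KZero.clSub (CohIn X Y') M = KZero.clSub (CohIn X Y') N := by
  have hN : CohIn X Y' N := ⟨isCoh_of_iso e hM.1, by rw [← support_eq_of_iso e]; exact hM.2⟩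
  let S : ShortComplex X.Modules := ShortComplex.mk e.hom (cokernel.π e.hom) (cokernel.condition _)
  have hS : S.ShortExact :=
    { exact := ShortComplex.exact_of_g_is_cokernel _ (cokernelIsCokernel _)
      mono_f := inferInstanceAs (Mono e.hom)
      epi_g := inferInstanceAs (Epi (cokernel.π e.hom)) }
  have hC : CohIn X Y' (cokernel e.hom) :=
    ⟨isCoh_cokernel hM.1 hN.1 e.hom, (support_subset_of_epi (cokernel.π e.hom)).trans hN.2⟩
  have hZ : IsZero (cokernel e.hom) := isZero_cokernel_of_epi e.hom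
  have h1 := clSubIn_ses Y' S hS hM hN hC
  rw [clSubIn_isZero Y' hZ hC, add_zero] at h1
  exact h1.symm

theorem clSubIn_mem_of_points [IsNoetherian X] (B : AddSubgroup (KZero.K0sub (CohIn X Y')))
    (hB : ∀ ξ ∈ Y', ∃ G : X.Modules, CohIn X Y' G ∧ KZero.clSub (CohIn X Y') G ∈ B ∧
      CohB1.support G ⊆ closure {ξ} ∧ L ξ G = 1)
    (M : X.Modules) (hM : CohIn X Y' M) : KZero.clSub (CohIn X Y') M ∈ B := by
  refine Groth.Agent.Lib.Helper20.Devissage.main X
    (fun M => CohIn X Y' M → KZero.clSub (CohIn X Y') M ∈ B) ?_ Y' ?_ ?_ ?_ M hM.1 hM.2 hM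
  · rintro M N ⟨e⟩ hM hN
    have hMc : CohIn X Y' M :=
      ⟨isCoh_of_iso e.symm hN.1, by rw [support_eq_of_iso e]; exact hN.2⟩
    rw [← clSubIn_iso Y' e hMc]
    exact hM hMc
  · intro S hS h1 h2 h3 hsupp
    have hs1 : CohIn X Y' S.X₁ :=
      ⟨h1, by
        haveI := hS.mono_f
        exact (support_subset_of_mono S.f).trans hsupp⟩
    have hs2 : CohIn X Y' S.X₂ := ⟨h2, hsupp⟩
    have hs3 : CohIn X Y' S.X₃ :=
      ⟨h3, by
        haveI := hS.epi_g
        exact (support_subset_of_epi S.g).trans hsupp⟩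
    have h := clSubIn_ses Y' S hS hs1 hs2 hs3
    refine ⟨fun ha hb _ => ?_, fun ha hc _ => ?_, fun hb hc _ => ?_⟩
    · have : KZero.clSub (CohIn X Y') S.X₃ =
          KZero.clSub (CohIn X Y') S.X₂ - KZero.clSub (CohIn X Y') S.X₁ := by
        rw [h]; abel
      rw [this]
      exact B.sub_mem (hb hs2) (ha hs1)
    · rw [h]
      exact B.add_mem (ha hs1) (hc hs3)
    · have : KZero.clSub (CohIn X Y') S.X₁ =
          KZero.clSub (CohIn X Y') S.X₂ - KZero.clSub (CohIn X Y') S.X₃ := by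
        rw [h]; abel
      rw [this]
      exact B.sub_mem (hb hs2) (hc hs3)
  · intro M hM hMc
    rw [clSubIn_isZero Y' hM hMc]
    exact B.zero_mem
  · intro ξ hξ
    obtain ⟨G, hG, hGB, hGs, hGl⟩ := hB ξ hξ
    exact ⟨G, hG.1, fun _ => hGB, hGs, hGl⟩

/-- every element of `K₀` is in a subgroup containing all classes -/
theorem eq_top_of_forall_clSub_mem {C : Type*} [Category C] [Abelian C] (P : ObjectProperty C)
    (B : AddSubgroup (KZero.K0sub P)) (h : ∀ G : C, P G → KZero.clSub P G ∈ B) : B = ⊤ := by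
  rw [eq_top_iff]
  intro x _
  clear ‹x ∈ (⊤ : AddSubgroup (KZero.K0sub P))›
  induction x using QuotientAddGroup.induction_on with
  | H z =>
    induction z using FreeAbelianGroup.induction_on with
    | zero => exact B.zero_mem
    | of g =>
      have := h g.1 g.2
      unfold KZero.clSub at this
      rw [dif_pos g.2] at this
      exact this
    | neg g hg => 
      rw [QuotientAddGroup.mk_neg]
      exact B.neg_mem hg
    | add a b ha hb =>
      rw [QuotientAddGroup.mk_add]
      exact B.add_mem ha hb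

end Groth.Agent.Lib.Helper20.K0Dev
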