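import Groth.Agent.Lib.Helper20.K0Dev
import Groth.Agent.Lib.Helper20.DevDim
import Mathlib.Algebra.BigOperators.Finprod

/-!
# helper20: the class of a coherent module modulo lower-dimensional supports
-/

universe u
open CategoryTheory CategoryTheory.Limits AlgebraicGeometry Opposite TopologicalSpace

namespace Groth.Agent.Lib.Helper20.K0Dev

open Groth.Agent.Lib.QCoh Groth.Agent.Lib.Helper20.DevLen

variable {X : Scheme.{u}} (n : ℕ)
  [DecidablePred fun x : X => topologicalKrullDim ↥(closure ({x} : Set X)) = (n : WithBot ℕ∞)]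

/-- the term at `x` -/
noncomputable def tt (M : X.Modules) (x : X) : KZero.K0sub (CohP X) :=
  if topologicalKrullDim ↥(closure ({x} : Set X)) = (n : WithBot ℕ∞) then
    (L x M).toNat • KZero.clSub (CohP X) (Cyc.closureStructureSheaf x) else 0

/-- the defect -/
noncomputable def DD (M : X.Modules) : KZero.K0sub (CohP X) :=
  KZero.clSub (CohP X) M - finsum (tt n M)

lemma tt_iso {M N : X.Modules} (e : M ≅ N) : tt n M = tt n N := by
  funext x
  unfold tt
  rw [L_iso e x]

lemma tt_isZero {M : X.Modules} (hM : IsZero M) : tt n M = 0 := by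
  funext x
  unfold tt
  have h1 : L x M = 0 := by
    haveI := stalk_subsingleton_of_isZero hM x
    exact Module.length_eq_zero_iff.2 inferInstance
  rw [h1]
  simp

lemma mem_support_of_tt_ne_zero {M : X.Modules} {x : X} (h : tt n M x ≠ 0) :
    x ∈ CohB1.support M ∧ topologicalKrullDim ↥(closure ({x} : Set X)) = (n : WithBot ℕ∞) := by
  unfold tt at h
  by_cases hd : topologicalKrullDim ↥(closure ({x} : Set X)) = (n : WithBot ℕ∞)
  · refine ⟨?_, hd⟩
    rw [if_pos hd] at h
    rw [mem_support_iff]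
    intro hsub
    apply h
    have h1 : L x M = 0 := Module.length_eq_zero_iff.2 hsub
    rw [h1]
    simp
  · rw [if_neg hd] at h
    exact absurd rfl h

omit [DecidablePred fun x : X => topologicalKrullDim ↥(closure ({x} : Set X)) = (n : WithBot ℕ∞)] in
/-- a point of `Y₀` (of dimension `≤ n`) whose closure has dimension `n` is a maximal point -/
lemma maximal_of_dim (Y₀ : Set X) (hY₀ : IsClosed Y₀)
    (hdim : topologicalKrullDim ↥Y₀ ≤ (n : WithBot ℕ∞)) (x : X)
    (hx : topologicalKrullDim ↥(closure ({x} : Set X)) = (n : WithBot ℕ∞)) :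
    ∀ x' ∈ Y₀, x' ⤳ x → x' = x := by
  intro x' hx' hspec
  by_contra hne
  have hsub : closure ({x} : Set X) ⊆ closure ({x'} : Set X) :=
    closure_minimal (Set.singleton_subset_iff.2 (specializes_iff_mem_closure.1 hspec))
      isClosed_closure
  have hneq : closure ({x} : Set X) ≠ closure ({x'} : Set X) := by
    intro heq
    have h1 : IsGenericPoint x (closure ({x'} : Set X)) := heq
    exact hne (h1.eq isGenericPoint_closure).symm
  have h1 := Groth.Agent.Lib.Helper20.DevDim.topologicalKrullDim_add_one_le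
    (isClosed_closure (s := ({x} : Set X))) isIrreducible_singleton.closure
    isIrreducible_singleton.closure hsub hneq
  have hsub' : closure ({x'} : Set X) ⊆ Y₀ :=
    closure_minimal (Set.singleton_subset_iff.2 hx') hY₀
  have h2 : topologicalKrullDim ↥(closure ({x'} : Set X)) ≤ (n : WithBot ℕ∞) :=
    ((Topology.IsEmbedding.inclusion hsub').isInducing.topologicalKrullDim_le).trans hdim
  rw [hx] at h1
  have h3 : ((n : ℕ) : WithBot ℕ∞) + 1 ≤ (n : WithBot ℕ∞) := h1.trans h2
  have h4 : ((n + 1 : ℕ) : WithBot ℕ∞) ≤ ((n : ℕ) : WithBot ℕ∞) := by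
    push_cast
    exact h3
  have h5 : n + 1 ≤ n := by exact_mod_cast h4
  omega

lemma finite_support_tt [IsNoetherian X] (Y₀ : Set X) (hY₀ : IsClosed Y₀)
    (hdim : topologicalKrullDim ↥Y₀ ≤ (n : WithBot ℕ∞)) (M : X.Modules)
    (hMs : CohB1.support M ⊆ Y₀) : (Function.support (tt n M)).Finite := by
  refine (Groth.Agent.Lib.Helper20.DevDim.finite_maximal_points Y₀ hY₀).subset ?_
  intro x hx
  obtain ⟨hxs, hxd⟩ := mem_support_of_tt_ne_zero n hx
  exact ⟨hMs hxs, maximal_of_dim n Y₀ hY₀ hdim x hxd⟩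

lemma tt_ses [IsNoetherian X] (Y₀ : Set X) (hY₀ : IsClosed Y₀)
    (hdim : topologicalKrullDim ↥Y₀ ≤ (n : WithBot ℕ∞)) (T : ShortComplex X.Modules)
    (hT : T.ShortExact) (h₂ : Coh.IsCoh T.X₂) (hs : CohB1.support T.X₂ ⊆ Y₀) :
    tt n T.X₂ = tt n T.X₁ + tt n T.X₃ := by
  haveI : T.X₂.IsQuasicoherent := h₂.1
  haveI : T.X₂.IsFiniteType := h₂.2
  funext x
  simp only [Pi.add_apply]
  unfold tt
  by_cases hd : topologicalKrullDim ↥(closure ({x} : Set X)) = (n : WithBot ℕ∞)
  · rw [if_pos hd, if_pos hd, if_pos hd, ← add_smul]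
    congr 1
    obtain ⟨hinj, hsurj, hex⟩ := stalk_exact_of_shortExact T hT x
    have hzero : ∀ m, stalkMap T.g x (stalkMap T.f x m) = 0 := by
      intro m
      rw [← stalkMap_comp_apply, T.zero, stalkMap_zero_apply]
    have hexact : Function.Exact (stalkMapₗ T.f x) (stalkMapₗ T.g x) := by
      intro m
      constructor
      · intro hm
        obtain ⟨m₁, hm₁⟩ := hex m hm
        exact ⟨m₁, hm₁⟩
      · rintro ⟨m₁, rfl⟩
        exact hzero m₁
    have hlen : L x T.X₂ = L x T.X₁ + L x T.X₃ :=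
      Module.length_eq_add_of_exact (stalkMapₗ T.f x) (stalkMapₗ T.g x) hinj hsurj hexact
    have hfin : L x T.X₂ ≠ ⊤ := by
      rw [Module.length_ne_top_iff]
      apply Groth.Agent.Lib.Helper20.StalkFinLen.isFiniteLength_stalk_of_maximal
      intro x' hx' hspec
      refine maximal_of_dim n Y₀ hY₀ hdim x hd x' (hs ?_) hspec
      rw [mem_support_iff]
      exact not_subsingleton_iff_nontrivial.2 hx'
    rw [hlen] at hfin
    have hf1 : L x T.X₁ ≠ ⊤ := fun h => by
      rw [h, top_add] at hfin; exact hfin rfl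
    have hf3 : L x T.X₃ ≠ ⊤ := fun h => by
      rw [h, add_top] at hfin; exact hfin rfl
    rw [hlen, ENat.toNat_add hf1 hf3]
  · rw [if_neg hd, if_neg hd, if_neg hd, add_zero]

lemma DD_ses [IsNoetherian X] (Y₀ : Set X) (hY₀ : IsClosed Y₀)
    (hdim : topologicalKrullDim ↥Y₀ ≤ (n : WithBot ℕ∞)) (T : ShortComplex X.Modules)
    (hT : T.ShortExact) (h₁ : Coh.IsCoh T.X₁) (h₂ : Coh.IsCoh T.X₂) (h₃ : Coh.IsCoh T.X₃)
    (hs : CohB1.support T.X₂ ⊆ Y₀) : DD n T.X₂ = DD n T.X₁ + DD n T.X₃ := by
  have hs1 : CohB1.support T.X₁ ⊆ Y₀ := by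
    haveI := hT.mono_f
    exact (support_subset_of_mono T.f).trans hs
  have hs3 : CohB1.support T.X₃ ⊆ Y₀ := by
    haveI := hT.epi_g
    exact (support_subset_of_epi T.g).trans hs
  have hsum : finsum (tt n T.X₂) = finsum (tt n T.X₁) + finsum (tt n T.X₃) := by
    rw [tt_ses n Y₀ hY₀ hdim T hT h₂ hs]
    exact finsum_add_distrib (finite_support_tt n Y₀ hY₀ hdim T.X₁ hs1)
      (finite_support_tt n Y₀ hY₀ hdim T.X₃ hs3)
  unfold DD
  rw [clSub_ses T hT h₁ h₂ h₃, hsum]
  abel

lemma DD_closureStructureSheaf [IsNoetherian X] (Y₀ : Set X) (hY₀ : IsClosed Y₀)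
    (hdim : topologicalKrullDim ↥Y₀ ≤ (n : WithBot ℕ∞)) (ξ : X) (hξ : ξ ∈ Y₀) :
    DD n (Cyc.closureStructureSheaf ξ) ∈
      AddSubgroup.closure {c : KZero.K0sub (CohP X) |
        ∃ G : X.Modules, Coh.IsCoh G ∧
          topologicalKrullDim ↥(CohB1.support G) < (n : WithBot ℕ∞) ∧
          c = KZero.clSub (CohP X) G} := by
  have hsub' : closure ({ξ} : Set X) ⊆ Y₀ :=
    closure_minimal (Set.singleton_subset_iff.2 hξ) hY₀
  have hle : topologicalKrullDim ↥(closure ({ξ} : Set X)) ≤ (n : WithBot ℕ∞) :=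
    ((Topology.IsEmbedding.inclusion hsub').isInducing.topologicalKrullDim_le).trans hdim
  by_cases hd : topologicalKrullDim ↥(closure ({ξ} : Set X)) = (n : WithBot ℕ∞)
  · -- single term
    have hsingle : finsum (tt n (Cyc.closureStructureSheaf ξ)) =
        tt n (Cyc.closureStructureSheaf ξ) ξ := by
      apply finsum_eq_single
      intro x hxne
      by_contra hne0
      obtain ⟨hxs, hxd⟩ := mem_support_of_tt_ne_zero n hne0
      rw [support_closureStructureSheaf] at hxs
      have hmax := maximal_of_dim n (closure ({ξ} : Set X)) isClosed_closure hle x hxd ξ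
        (subset_closure (Set.mem_singleton ξ)) (specializes_iff_mem_closure.2 hxs)
      exact hxne hmax.symm
    have hone : tt n (Cyc.closureStructureSheaf ξ) ξ =
        KZero.clSub (CohP X) (Cyc.closureStructureSheaf ξ) := by
      unfold tt
      rw [if_pos hd]
      have h1 : L ξ (Cyc.closureStructureSheaf ξ) = 1 :=
        Groth.Agent.Lib.Helper20.AssMono.length_OZ ξ
      rw [h1]
      simp
    unfold DD
    rw [hsingle, hone, sub_self]
    exact AddSubgroup.zero_mem _
  · have hlt : topologicalKrullDim ↥(closure ({ξ} : Set X)) < (n : WithBot ℕ∞) :=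
      lt_of_le_of_ne hle hd
    have hzero : finsum (tt n (Cyc.closureStructureSheaf ξ)) = 0 := by
      apply finsum_eq_zero_of_forall_eq_zero
      intro x
      by_contra hne0
      obtain ⟨hxs, hxd⟩ := mem_support_of_tt_ne_zero n hne0
      rw [support_closureStructureSheaf] at hxs
      have hsubx : closure ({x} : Set X) ⊆ closure ({ξ} : Set X) :=
        closure_minimal (Set.singleton_subset_iff.2 hxs) isClosed_closure
      have h2 : topologicalKrullDim ↥(closure ({x} : Set X)) ≤
          topologicalKrullDim ↥(closure ({ξ} : Set X)) :=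
        (Topology.IsEmbedding.inclusion hsubx).isInducing.topologicalKrullDim_le
      rw [hxd] at h2
      exact absurd hlt (not_lt.2 h2)
    unfold DD
    rw [hzero, sub_zero]
    refine AddSubgroup.subset_closure ⟨Cyc.closureStructureSheaf ξ,
      isCoh_closureStructureSheaf ξ, ?_, rfl⟩
    rw [support_closureStructureSheaf]
    exact hlt

theorem DD_mem [IsNoetherian X] (F : X.Modules) (hF : Coh.IsCoh F)
    (hsupp : topologicalKrullDim ↥(CohB1.support F) ≤ (n : WithBot ℕ∞)) :
    DD n F ∈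
      AddSubgroup.closure {c : KZero.K0sub (CohP X) |
        ∃ G : X.Modules, Coh.IsCoh G ∧
          topologicalKrullDim ↥(CohB1.support G) < (n : WithBot ℕ∞) ∧
          c = KZero.clSub (CohP X) G} := by
  haveI : F.IsQuasicoherent := hF.1
  haveI : F.IsFiniteType := hF.2
  have hY₀ : IsClosed (CohB1.support F) := isClosed_support_of_isFT F hF.2
  set B := AddSubgroup.closure {c : KZero.K0sub (CohP X) |
        ∃ G : X.Modules, Coh.IsCoh G ∧
          topologicalKrullDim ↥(CohB1.support G) < (n : WithBot ℕ∞) ∧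
          c = KZero.clSub (CohP X) G} with hB
  refine Groth.Agent.Lib.Helper20.Devissage.main X
    (fun M => Coh.IsCoh M → DD n M ∈ B) ?_ (CohB1.support F) ?_ ?_ ?_ F hF subset_rfl hF
  · rintro M N ⟨e⟩ hM hN
    have hMc : Coh.IsCoh M := isCoh_of_iso e.symm hN
    have h1 : DD n N = DD n M := by
      unfold DD
      rw [← clSub_iso e hMc, tt_iso n e]
    rw [h1]
    exact hM hMc
  · intro S hS h1 h2 h3 hs
    have h := DD_ses n (CohB1.support F) hY₀ hsupp S hS h1 h2 h3 hs
    refine ⟨fun ha hb _ => ?_, fun ha hc _ => ?_, fun hb hc _ => ?_⟩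
    · have : DD n S.X₃ = DD n S.X₂ - DD n S.X₁ := by rw [h]; abel
      rw [this]
      exact B.sub_mem (hb h2) (ha h1)
    · rw [h]
      exact B.add_mem (ha h1) (hc h3)
    · have : DD n S.X₁ = DD n S.X₂ - DD n S.X₃ := by rw [h]; abel
      rw [this]
      exact B.sub_mem (hb h2) (hc h3)
  · intro M hM hMc
    have h1 : DD n M = 0 := by
      unfold DD
      rw [clSub_isZero hM hMc, tt_isZero n hM]
      have : finsum (0 : X → KZero.K0sub (CohP X)) = 0 := finsum_zero
      rw [this, sub_zero]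
    rw [h1]
    exact B.zero_mem
  · intro ξ hξ
    refine ⟨Cyc.closureStructureSheaf ξ, isCoh_closureStructureSheaf ξ,
      fun _ => DD_closureStructureSheaf n (CohB1.support F) hY₀ hsupp ξ hξ,
      (support_closureStructureSheaf ξ).le, Groth.Agent.Lib.Helper20.AssMono.length_OZ ξ⟩

end Groth.Agent.Lib.Helper20.K0Dev
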