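import Groth.Agent.Lib.Helper20.K0Dev2
import Groth.Agent.Lib.Helper20.DevDim
import Mathlib.AlgebraicGeometry.Stalk
import Mathlib.RingTheory.KrullDimension.Zero
import Groth.Prelude.Def_SGA6

/-!
# helper20: the rank homomorphism on `K₀(Coh X)` and the first step of the coniveau filtration
-/

universe u
open CategoryTheory CategoryTheory.Limits AlgebraicGeometry Opposite TopologicalSpace

namespace Groth.Agent.Lib.Helper20.K0Rank

open Groth.Agent.Lib.QCoh Groth.Agent.Lib.Helper20.DevLen Groth.Agent.Lib.Helper20.K0Dev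

variable {X : Scheme.{u}}

/-- a point with zero-dimensional local ring has no proper generization -/
theorem eq_of_specializes_of_dim_zero (x : X) (h : ringKrullDim (X.presheaf.stalk x) = 0)
    (x' : X) (hs : x' ⤳ x) : x' = x := by
  have h0 : Ring.KrullDimLE 0 (X.presheaf.stalk x) :=
    ringKrullDimZero_iff_ringKrullDim_eq_zero.2 h
  have hmem : x' ∈ Set.range (X.fromSpecStalk x) := by
    rw [Scheme.range_fromSpecStalk]
    exact hs
  obtain ⟨p, rfl⟩ := hmem
  have hp : p.asIdeal.IsMaximal := Ring.krullDimLE_zero_iff.1 h0 p.asIdeal p.isPrime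
  have hp' : p = IsLocalRing.closedPoint (X.presheaf.stalk x) := by
    apply PrimeSpectrum.ext
    exact IsLocalRing.eq_maximalIdeal hp
  rw [hp']
  exact Scheme.fromSpecStalk_closedPoint

/-- the index set: points with zero-dimensional local ring -/
abbrev I0 (X : Scheme.{u}) : Type u := {x : X // ringKrullDim (X.presheaf.stalk x) = 0}

theorem finite_I0 [IsNoetherian X] : Finite (I0 X) := by
  have hfin := Groth.Agent.Lib.Helper20.DevDim.finite_maximal_points (Set.univ : Set X)
    isClosed_univ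
  have hsub : {x : X | ringKrullDim (X.presheaf.stalk x) = 0} ⊆
      {x | x ∈ (Set.univ : Set X) ∧ ∀ x' ∈ (Set.univ : Set X), x' ⤳ x → x' = x} :=
    fun x hx => ⟨trivial, fun x' _ hs => eq_of_specializes_of_dim_zero x hx x' hs⟩
  exact (hfin.subset hsub).to_subtype

/-- the lengths at the points of `I0` -/
noncomputable def lenFun (F : X.Modules) : I0 X → ℤ :=
  fun x => ((L x.1 F).toNat : ℤ)

theorem lenFun_ses [IsLocallyNoetherian X] (T : ShortComplex X.Modules) (hT : T.ShortExact)
    (h₂ : Coh.IsCoh T.X₂) : lenFun T.X₂ = lenFun T.X₁ + lenFun T.X₃ := by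
  haveI : T.X₂.IsQuasicoherent := h₂.1
  haveI : T.X₂.IsFiniteType := h₂.2
  funext x
  simp only [lenFun, Pi.add_apply]
  obtain ⟨hinj, hsurj, hex⟩ := stalk_exact_of_shortExact T hT x.1
  have hzero : ∀ m, stalkMap T.g x.1 (stalkMap T.f x.1 m) = 0 := by
    intro m
    rw [← stalkMap_comp_apply, T.zero, stalkMap_zero_apply]
  have hexact : Function.Exact (stalkMapₗ T.f x.1) (stalkMapₗ T.g x.1) := by
    intro m
    constructor
    · intro hm
      obtain ⟨m₁, hm₁⟩ := hex m hm
      exact ⟨m₁, hm₁⟩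
    · rintro ⟨m₁, rfl⟩
      exact hzero m₁
  have hlen : L x.1 T.X₂ = L x.1 T.X₁ + L x.1 T.X₃ :=
    Module.length_eq_add_of_exact (stalkMapₗ T.f x.1) (stalkMapₗ T.g x.1) hinj hsurj hexact
  have hfin : L x.1 T.X₂ ≠ ⊤ := by
    rw [Module.length_ne_top_iff]
    apply Groth.Agent.Lib.Helper20.StalkFinLen.isFiniteLength_stalk_of_maximal
    intro x' _ hspec
    exact eq_of_specializes_of_dim_zero x.1 x.2 x' hspec
  rw [hlen] at hfin
  have hf1 : L x.1 T.X₁ ≠ ⊤ := fun h => by
    rw [h, top_add] at hfin; exact hfin rfl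
  have hf3 : L x.1 T.X₃ ≠ ⊤ := fun h => by
    rw [h, add_top] at hfin; exact hfin rfl
  rw [hlen, ENat.toNat_add hf1 hf3]
  push_cast
  rfl

/-- existence of the rank homomorphism -/
theorem exists_rk [IsLocallyNoetherian X] :
    ∃ rk : KZero.K0sub (CohP X) →+ (I0 X → ℤ),
      ∀ F : X.Modules, Coh.IsCoh F → rk (KZero.clSub (CohP X) F) = lenFun F := by
  let f : Subtype (CohP X) → (I0 X → ℤ) := fun F => lenFun F.1
  let g : FreeAbelianGroup (Subtype (CohP X)) →+ (I0 X → ℤ) := FreeAbelianGroup.lift f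
  have hker : KZero.relSub (CohP X) ≤ g.ker := by
    unfold KZero.relSub
    rw [AddSubgroup.closure_le]
    rintro z ⟨S, h₁, h₂, h₃, hS, rfl⟩
    rw [SetLike.mem_coe, AddMonoidHom.mem_ker, map_sub, map_sub]
    simp only [g, FreeAbelianGroup.lift_apply_of, f]
    rw [lenFun_ses S hS h₂]
    abel
  refine ⟨QuotientAddGroup.lift (KZero.relSub (CohP X)) g hker, ?_⟩
  intro F hF
  unfold KZero.clSub
  rw [dif_pos hF]
  simp only [QuotientAddGroup.lift_mk, g, FreeAbelianGroup.lift_apply_of, f]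

end Groth.Agent.Lib.Helper20.K0Rank
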