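import Groth.Agent.Lib.Helper20.K0Rank

/-!
# helper20: surjectivity and kernel of the rank homomorphism on `K₀(Coh X)`
-/

universe u
open CategoryTheory CategoryTheory.Limits AlgebraicGeometry Opposite TopologicalSpace

namespace Groth.Agent.Lib.Helper20.K0Rank

open Groth.Agent.Lib.QCoh Groth.Agent.Lib.Helper20.DevLen Groth.Agent.Lib.Helper20.K0Dev

variable {X : Scheme.{u}}

/-- the first step of the coniveau filtration -/
noncomputable def Filt1 (X : Scheme.{u}) : AddSubgroup (KZero.K0sub (CohP X)) :=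
  AddSubgroup.closure {c : KZero.K0sub (CohP X) | ∃ F : X.Modules, Coh.IsCoh F ∧
    (∀ x ∈ CohB1.support F, (1 : WithBot ℕ∞) ≤ ringKrullDim (X.presheaf.stalk x)) ∧
    c = KZero.clSub (CohP X) F}

open Classical in
lemma lenFun_OZ_of_mem (η : I0 X) :
    lenFun (Cyc.closureStructureSheaf η.1) = Pi.single η (1 : ℤ) := by
  funext η'
  unfold lenFun
  by_cases h : η' = η
  · subst h
    rw [Pi.single_eq_same]
    have h1 : L η'.1 (Cyc.closureStructureSheaf η'.1) = 1 :=
      Groth.Agent.Lib.Helper20.AssMono.length_OZ η'.1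
    rw [h1]
    rfl
  · rw [Pi.single_eq_of_ne h]
    have hnot : η'.1 ∉ CohB1.support (Cyc.closureStructureSheaf η.1) := by
      rw [support_closureStructureSheaf]
      intro hmem
      have hs : η.1 ⤳ η'.1 := specializes_iff_mem_closure.2 hmem
      exact h (Subtype.ext (eq_of_specializes_of_dim_zero η'.1 η'.2 η.1 hs).symm)
    have hsub : Subsingleton ((Cyc.closureStructureSheaf η.1).presheaf.stalk η'.1) :=
      (notMem_support_iff _ _).1 hnot
    have h1 : L η'.1 (Cyc.closureStructureSheaf η.1) = 0 := Module.length_eq_zero_iff.2 hsub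
    rw [h1]
    rfl

lemma lenFun_OZ_of_notMem (ξ : X) (hξ : ringKrullDim (X.presheaf.stalk ξ) ≠ 0) :
    lenFun (Cyc.closureStructureSheaf ξ) = 0 := by
  funext η
  unfold lenFun
  have hnot : η.1 ∉ CohB1.support (Cyc.closureStructureSheaf ξ) := by
    rw [support_closureStructureSheaf]
    intro hmem
    have hs : ξ ⤳ η.1 := specializes_iff_mem_closure.2 hmem
    have := eq_of_specializes_of_dim_zero η.1 η.2 ξ hs
    rw [this] at hξ
    exact hξ η.2
  have hsub : Subsingleton ((Cyc.closureStructureSheaf ξ).presheaf.stalk η.1) :=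
    (notMem_support_iff _ _).1 hnot
  have h1 : L η.1 (Cyc.closureStructureSheaf ξ) = 0 := Module.length_eq_zero_iff.2 hsub
  rw [h1]
  rfl

lemma dim_eq_zero_of_not_one_le (x : X)
    (h : ¬ (1 : WithBot ℕ∞) ≤ ringKrullDim (X.presheaf.stalk x)) :
    ringKrullDim (X.presheaf.stalk x) = 0 := by
  have h0 : (0 : WithBot ℕ∞) ≤ ringKrullDim (X.presheaf.stalk x) :=
    ringKrullDim_nonneg_of_nontrivial
  generalize ringKrullDim (X.presheaf.stalk x) = d at h h0
  induction d using WithBot.recBotCoe with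
  | bot => exact absurd h0 (by simp)
  | coe e =>
    rw [not_le] at h
    have h1 : e < 1 := by exact_mod_cast h
    have h2 : e = 0 := ENat.lt_one_iff_eq_zero.1 h1
    rw [h2]
    rfl

lemma clSub_OZ_mem_Filt1 (ξ : X) (hξ : ringKrullDim (X.presheaf.stalk ξ) ≠ 0) :
    KZero.clSub (CohP X) (Cyc.closureStructureSheaf ξ) ∈ Filt1 X := by
  refine AddSubgroup.subset_closure ⟨_, isCoh_closureStructureSheaf ξ, ?_, rfl⟩
  intro x hx
  rw [support_closureStructureSheaf] at hx
  by_contra hcon
  have hx0 := dim_eq_zero_of_not_one_le x hcon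
  have hs : ξ ⤳ x := specializes_iff_mem_closure.2 hx
  have := eq_of_specializes_of_dim_zero x hx0 ξ hs
  rw [this] at hξ
  exact hξ hx0

theorem rk_props [IsNoetherian X] (rk : KZero.K0sub (CohP X) →+ (I0 X → ℤ))
    (hrk : ∀ F : X.Modules, Coh.IsCoh F → rk (KZero.clSub (CohP X) F) = lenFun F) :
    Function.Surjective rk ∧ rk.ker = Filt1 X := by
  classical
  haveI : Finite (I0 X) := finite_I0
  letI : Fintype (I0 X) := Fintype.ofFinite _
  -- the splitting homomorphism
  let ψ : (I0 X → ℤ) →+ KZero.K0sub (CohP X) :=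
    ∑ η : I0 X, ((smulAddHom ℤ (KZero.K0sub (CohP X))).flip
      (KZero.clSub (CohP X) (Cyc.closureStructureSheaf η.1))).comp
      (Pi.evalAddMonoidHom (fun _ : I0 X => ℤ) η)
  have hψ : ∀ c : I0 X → ℤ, ψ c =
      ∑ η : I0 X, c η • KZero.clSub (CohP X) (Cyc.closureStructureSheaf η.1) := by
    intro c
    simp only [ψ, AddMonoidHom.finset_sum_apply, AddMonoidHom.comp_apply,
      Pi.evalAddMonoidHom_apply, AddMonoidHom.flip_apply, smulAddHom_apply]
  have hrkψ : ∀ c : I0 X → ℤ, rk (ψ c) = c := by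
    intro c
    rw [hψ, map_sum]
    have h1 : ∀ η : I0 X, rk (c η • KZero.clSub (CohP X) (Cyc.closureStructureSheaf η.1)) =
        Pi.single η (c η) := by
      intro η
      rw [map_zsmul, hrk _ (isCoh_closureStructureSheaf η.1), lenFun_OZ_of_mem]
      funext η'
      by_cases h : η' = η
      · subst h
        simp
      · simp [Pi.single_eq_of_ne h]
    rw [Finset.sum_congr rfl (fun η _ => h1 η)]
    exact Finset.univ_sum_single c
  refine ⟨fun c => ⟨ψ c, hrkψ c⟩, ?_⟩
  apply le_antisymm
  · -- kernel ⊆ Filt1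
    let Φ : KZero.K0sub (CohP X) →+ KZero.K0sub (CohP X) :=
      AddMonoidHom.id _ - ψ.comp rk
    have htop : (Filt1 X).comap Φ = ⊤ := by
      apply eq_top_of_forall_clSub_mem
      intro G hG
      refine clSub_mem_of_points _ Set.univ ?_ G hG (Set.subset_univ _)
      intro ξ _
      rw [AddSubgroup.mem_comap]
      show KZero.clSub (CohP X) (Cyc.closureStructureSheaf ξ) -
        ψ (rk (KZero.clSub (CohP X) (Cyc.closureStructureSheaf ξ))) ∈ Filt1 X
      rw [hrk _ (isCoh_closureStructureSheaf ξ)]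
      by_cases hξ : ringKrullDim (X.presheaf.stalk ξ) = 0
      · have h1 := lenFun_OZ_of_mem (⟨ξ, hξ⟩ : I0 X)
        rw [show lenFun (Cyc.closureStructureSheaf ξ) = Pi.single (⟨ξ, hξ⟩ : I0 X) (1 : ℤ) from h1,
          hψ]
        have h2 : ∑ η : I0 X, (Pi.single (⟨ξ, hξ⟩ : I0 X) (1 : ℤ) : I0 X → ℤ) η •
            KZero.clSub (CohP X) (Cyc.closureStructureSheaf η.1) =
            KZero.clSub (CohP X) (Cyc.closureStructureSheaf ξ) := by
          rw [Finset.sum_eq_single (⟨ξ, hξ⟩ : I0 X)]
          · simp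
          · intro η _ hne
            rw [Pi.single_eq_of_ne hne, zero_smul]
          · intro h
            exact absurd (Finset.mem_univ _) h
        rw [h2, sub_self]
        exact (Filt1 X).zero_mem
      · rw [lenFun_OZ_of_notMem ξ hξ, map_zero, sub_zero]
        exact clSub_OZ_mem_Filt1 ξ hξ
    intro z hz
    have hz' : rk z = 0 := hz
    have h1 : z ∈ (Filt1 X).comap Φ := by
      rw [htop]
      exact AddSubgroup.mem_top z
    rw [AddSubgroup.mem_comap] at h1
    have h2 : Φ z = z := by
      show z - ψ (rk z) = z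
      rw [hz', map_zero, sub_zero]
    rw [h2] at h1
    exact h1
  · -- Filt1 ⊆ kernel
    unfold Filt1
    rw [AddSubgroup.closure_le]
    rintro c ⟨F, hF, hFs, rfl⟩
    rw [SetLike.mem_coe, AddMonoidHom.mem_ker, hrk F hF]
    funext η
    unfold lenFun
    have hnot : η.1 ∉ CohB1.support F := by
      intro hmem
      have := hFs η.1 hmem
      rw [η.2] at this
      exact absurd this (by norm_num)
    have hsub : Subsingleton (F.presheaf.stalk η.1) := (notMem_support_iff _ _).1 hnot
    have h1 : L η.1 F = 0 := Module.length_eq_zero_iff.2 hsub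
    rw [h1]
    rfl

end Groth.Agent.Lib.Helper20.K0Rank
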