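import Mathlib

/-!
# Surjectivity modulo the square of a nilpotent ideal (helper20)

`surjective_of_surjective_mod_sq`: if `φ : B →+* A`, `J` is a nilpotent ideal of `A` and every
element of `A` is congruent to an element of the image of `φ` modulo `J ^ 2`, then `φ` is surjective.
-/

namespace Groth.Agent.Lib.Helper20.NilSurj

variable {A B : Type*} [CommRing A] [CommRing B] (φ : B →+* A) (J : Ideal A)

theorem step (h : ∀ a : A, ∃ b : B, a - φ b ∈ J ^ 2) :
    ∀ k : ℕ, ∀ x ∈ J ^ (k + 1), ∃ b : B, x - φ b ∈ J ^ (k + 2) := by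
  intro k
  induction k with
  | zero =>
    intro x _
    exact h x
  | succ k ih =>
    intro x hx
    rw [pow_succ] at hx
    refine Submodule.mul_induction_on hx ?_ ?_
    · intro m hm n hn
      obtain ⟨b, hb⟩ := ih m hm
      obtain ⟨c, hc⟩ := h n
      refine ⟨b * c, ?_⟩
      have hφb : φ b ∈ J ^ (k + 1) := by
        have : φ b = m - (m - φ b) := by ring
        rw [this]
        exact (J ^ (k + 1)).sub_mem hm (Ideal.pow_le_pow_right (by omega) hb)
      have hφc : φ c ∈ J := by
        have : φ c = n - (n - φ c) := by ring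
        rw [this]
        have hn' : n ∈ J := by simpa using hn
        exact J.sub_mem hn' (Ideal.pow_le_self (by norm_num) hc)
      have e : m * n - φ (b * c) = φ b * (n - φ c) + (m - φ b) * φ c + (m - φ b) * (n - φ c) := by
        rw [map_mul]; ring
      rw [e]
      have h1 : φ b * (n - φ c) ∈ J ^ (k + 1 + 2) := by
        have := Ideal.mul_mem_mul hφb hc
        rwa [← pow_add] at this
      have h2 : (m - φ b) * φ c ∈ J ^ (k + 1 + 2) := by
        have := Ideal.mul_mem_mul hb hφc
        rwa [← pow_succ] at this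
      have h3 : (m - φ b) * (n - φ c) ∈ J ^ (k + 1 + 2) := by
        have := Ideal.mul_mem_mul hb hc
        rw [← pow_add] at this
        exact Ideal.pow_le_pow_right (by omega) this
      exact (J ^ (k + 1 + 2)).add_mem ((J ^ (k + 1 + 2)).add_mem h1 h2) h3
    · intro x y ⟨b, hb⟩ ⟨c, hc⟩
      refine ⟨b + c, ?_⟩
      have e : x + y - φ (b + c) = (x - φ b) + (y - φ c) := by rw [map_add]; ring
      rw [e]
      exact (J ^ (k + 1 + 2)).add_mem hb hc

theorem approx (h : ∀ a : A, ∃ b : B, a - φ b ∈ J ^ 2) :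
    ∀ k : ℕ, ∀ a : A, ∃ b : B, a - φ b ∈ J ^ (k + 1) := by
  intro k
  induction k with
  | zero =>
    intro a
    obtain ⟨b, hb⟩ := h a
    exact ⟨b, Ideal.pow_le_pow_right (by omega) hb⟩
  | succ k ih =>
    intro a
    obtain ⟨b, hb⟩ := ih a
    obtain ⟨c, hc⟩ := step φ J h k _ hb
    refine ⟨b + c, ?_⟩
    have e : a - φ (b + c) = a - φ b - φ c := by rw [map_add]; ring
    rw [e]
    exact hc

theorem surjective_of_surjective_mod_sq (hJ : IsNilpotent J)
    (h : ∀ a : A, ∃ b : B, a - φ b ∈ J ^ 2) : Function.Surjective φ := by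
  obtain ⟨n, hn⟩ := hJ
  intro a
  obtain ⟨b, hb⟩ := approx φ J h n a
  refine ⟨b, ?_⟩
  have h0 : J ^ (n + 1) = ⊥ := by
    rw [pow_succ, hn]; simp
  rw [h0, Ideal.mem_bot, sub_eq_zero] at hb
  exact hb.symm

end Groth.Agent.Lib.Helper20.NilSurj
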