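import Groth.Agent.Lib.Helper20.NoetherInt

open Polynomial MvPolynomial Ideal Nat RingHom List

namespace Groth.Agent.Lib.Helper20

variable {k : Type*} [Field k]

open NN in
/-- Noether normalization for quotients of polynomial rings, with integer-coefficient
parameters. -/
theorem exists_intCoeff_integral_inj (n : ℕ) (I : Ideal (MvPolynomial (Fin n) k))
    (hi : I ≠ ⊤) : ∃ s ≤ n, ∃ y : Fin s → MvPolynomial (Fin n) k,
    (∀ i, IntCoeff (y i)) ∧
    Function.Injective ((Quotient.mkₐ k I).comp (MvPolynomial.aeval y)) ∧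
    ((Quotient.mkₐ k I).comp (MvPolynomial.aeval y)).IsIntegral := by
  induction n with
  | zero =>
    have hid : (MvPolynomial.aeval (Fin.elim0 : Fin 0 → MvPolynomial (Fin 0) k)) = AlgHom.id k _ := by
      apply MvPolynomial.algHom_ext
      intro i
      exact i.elim0
    refine ⟨0, le_rfl, Fin.elim0, fun i ↦ i.elim0, ?_, ?_⟩
    · rw [hid, AlgHom.comp_id]
      intro a b hab
      rw [Quotient.mkₐ_eq_mk, Ideal.Quotient.eq] at hab
      by_contra ne
      have eq := eq_C_of_isEmpty (a - b)
      have ne : coeff 0 (a - b) ≠ 0 := fun h ↦ h ▸ eq ▸ sub_ne_zero_of_ne ne <| map_zero _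
      obtain ⟨c, _, eqr⟩ := isUnit_iff_exists.mp ne.isUnit
      have one : c • (a - b) = 1 := by
        rw [MvPolynomial.smul_eq_C_mul, eq, ← map_mul, eqr, MvPolynomial.C_1]
      exact hi ((eq_top_iff_one I).mpr (one ▸ I.smul_of_tower_mem c hab))
    · rw [hid, AlgHom.comp_id]
      exact isIntegral_of_surjective _ (Quotient.mkₐ_surjective k I)
  | succ d hd =>
    by_cases eqi : I = 0
    · have bij : Function.Bijective (Quotient.mkₐ k I) :=
        (Quotient.mk_bijective_iff_eq_bot I).mpr eqi
      have hid : (MvPolynomial.aeval (X : Fin (d + 1) → MvPolynomial (Fin (d + 1)) k)) = AlgHom.id k _ := by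
        apply MvPolynomial.algHom_ext
        intro i
        simp
      refine ⟨d + 1, le_rfl, X, fun i ↦ intCoeff_X i, ?_, ?_⟩
      · rw [hid, AlgHom.comp_id]; exact bij.1
      · rw [hid, AlgHom.comp_id]; exact isIntegral_of_surjective _ bij.2
    · obtain ⟨f, fi, fne⟩ := Submodule.exists_mem_ne_zero_of_ne_bot eqi
      set ϕ := kerLiftAlg <| hom2 f I
      have := Quotient.nontrivial_iff.mpr hi
      obtain ⟨s, _, y', hy', injg, intg⟩ := hd (ker <| hom2 f I) (ker_ne_top <| hom2 f I)
      have comp : (kerLiftAlg (hom2 f I)).comp (Quotient.mkₐ k <| ker <| hom2 f I) = (hom2 f I) :=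
        AlgHom.ext fun a ↦ by
          simp only [AlgHom.coe_comp, Quotient.mkₐ_eq_mk, Function.comp_apply, kerLiftAlg_mk]
      have key : (Quotient.mkₐ k I).comp (MvPolynomial.aeval fun i ↦ sigma f (y' i)) =
          ϕ.comp ((Quotient.mkₐ k (ker <| hom2 f I)).comp (MvPolynomial.aeval y')) := by
        rw [← AlgHom.comp_assoc, comp, hom2_eq, AlgHom.comp_assoc]
        congr 1
        apply MvPolynomial.algHom_ext
        intro i
        simp
      refine ⟨s, by lia, fun i ↦ sigma f (y' i), fun i ↦ intCoeff_sigma f _ (hy' i), ?_, ?_⟩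
      · rw [key, AlgHom.coe_comp]
        exact (kerLiftAlg_injective _).comp injg
      · rw [key]
        exact intg.trans _ _ <| (comp ▸ hom2_isIntegral f I fne fi).tower_top _ _

end Groth.Agent.Lib.Helper20
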