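import Groth.Agent.Lib.Helper20.PnSmooth

/-!
# Affine schemes of finite type embed into projective space (helper20)

* `exists_immersion_projSpaceOver`: an affine scheme `U` with a morphism `b : U ⟶ Y` locally of finite
  type which lands in an affine open of `Y` admits an immersion into some `ℙⁿ_Y` over `Y`.
-/

set_option autoImplicit false
universe u

open CategoryTheory CategoryTheory.Limits AlgebraicGeometry

namespace Groth.Agent.Lib.Helper20.PnImm

open Groth.Agent.Lib.Proj

theorem exists_immersion_projSpaceOver {U Y : Scheme.{u}} [IsAffine U] (b : U ⟶ Y)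
    [LocallyOfFiniteType b] (V : Y.Opens) (hV : IsAffineOpen V) (hbV : Set.range b ⊆ V) :
    ∃ (n : ℕ) (g : U ⟶ CohB1.ProjSpaceOver n Y), IsImmersion g ∧
      g ≫ CohB1.ProjSpaceOver.toBase n Y = b := by
  haveI : IsAffine (V : Scheme.{u}) := hV
  let b' : U ⟶ V := IsOpenImmersion.lift V.ι b (by simpa using hbV)
  have hb' : b' ≫ V.ι = b := IsOpenImmersion.lift_fac _ _ _
  haveI : LocallyOfFiniteType (b' ≫ V.ι) := by rw [hb']; infer_instance
  haveI : LocallyOfFiniteType b' := locallyOfFiniteType_of_comp b' V.ι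
  have hft : RingHom.FiniteType b'.appTop.hom :=
    (HasRingHomProperty.iff_of_isAffine (P := @LocallyOfFiniteType)).mp inferInstance
  algebraize [b'.appTop.hom]
  obtain ⟨n, π, hπ⟩ := Algebra.FiniteType.iff_quotient_mvPolynomial''.mp hft
  let e : Fin n ≃ {j : Fin (n + 1) // j ≠ 0} := finSuccAboveEquiv 0
  let ψ : MvPolynomial {j : Fin (n + 1) // j ≠ 0} (ULift.{u} ℤ) →+* Γ(U, ⊤) :=
    MvPolynomial.eval₂Hom ((Int.castRingHom Γ(U, ⊤)).comp ULift.ringEquiv.toRingHom)
      (fun j => π (MvPolynomial.X (e.symm j)))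
  let a₀ : U ⟶ Spec (CommRingCat.of (MvPolynomial {j : Fin (n + 1) // j ≠ 0} (ULift.{u} ℤ))) :=
    U.toSpecΓ ≫ Spec.map (CommRingCat.ofHom ψ)
  let qV : (V : Scheme.{u}) ⟶ Spec (CommRingCat.of (ULift.{u} ℤ)) :=
    V.ι ≫ specULiftZIsTerminal.from Y
  let sC := Spec.map (CommRingCat.ofHom
    (MvPolynomial.C : ULift.{u} ℤ →+* MvPolynomial {j : Fin (n + 1) // j ≠ 0} (ULift.{u} ℤ)))
  let c : U ⟶ pullback sC qV := pullback.lift a₀ b' (specULiftZIsTerminal.hom_ext _ _)
  let o : pullback sC qV ⟶
      pullback (CohB1.ProjSpace.toSpec n (ULift.{u} ℤ)) (specULiftZIsTerminal.from Y) :=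
    pullback.map _ _ _ _ (chart n (ULift.{u} ℤ) 0) V.ι (𝟙 _)
      (by rw [Category.comp_id, chart_toSpec]) (by rw [Category.comp_id])
  haveI : IsOpenImmersion o := by
    dsimp only [o]; infer_instance
  -- `c` is a closed immersion
  have hfst : c ≫ pullback.fst sC qV = a₀ := pullback.lift_fst _ _ _
  have hsnd : c ≫ pullback.snd sC qV = b' := pullback.lift_snd _ _ _
  have hX : ∀ k : Fin n, π (MvPolynomial.X k) ∈ c.appTop.hom.range := by
    intro k
    refine ⟨(pullback.fst sC qV).appTop.hom ((Scheme.ΓSpecIso _).inv.hom (MvPolynomial.X (e k))), ?_⟩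
    have h1 : (pullback.fst sC qV).appTop ≫ c.appTop = a₀.appTop := by
      rw [← Scheme.Hom.comp_appTop, hfst]
    have h2 : a₀.appTop = (Scheme.ΓSpecIso _).hom ≫ CommRingCat.ofHom ψ := by
      dsimp only [a₀]
      rw [Scheme.Hom.comp_appTop, Scheme.toSpecΓ_appTop, Scheme.ΓSpecIso_naturality]
    have h3 := congr($(h1).hom ((Scheme.ΓSpecIso _).inv.hom (MvPolynomial.X (e k))))
    rw [h2] at h3
    simp only [CommRingCat.hom_comp, RingHom.comp_apply] at h3
    rw [h3]
    have h4 : (Scheme.ΓSpecIso (CommRingCat.of (MvPolynomial {j : Fin (n + 1) // j ≠ 0}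
        (ULift.{u} ℤ)))).hom.hom ((Scheme.ΓSpecIso _).inv.hom (MvPolynomial.X (e k))) =
        MvPolynomial.X (e k) := by
      rw [← CommRingCat.comp_apply, Iso.inv_hom_id]
      rfl
    rw [h4]
    simp only [ψ, CommRingCat.hom_ofHom, MvPolynomial.coe_eval₂Hom, MvPolynomial.eval₂_X,
      Equiv.symm_apply_apply]
  have hsurj : Function.Surjective c.appTop := by
    intro x
    obtain ⟨p, rfl⟩ := hπ x
    change π p ∈ c.appTop.hom.range
    induction p using MvPolynomial.induction_on with
    | C r =>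
      refine ⟨(pullback.snd sC qV).appTop.hom r, ?_⟩
      have h1 : (pullback.snd sC qV).appTop ≫ c.appTop = b'.appTop := by
        rw [← Scheme.Hom.comp_appTop, hsnd]
      have h3 := congr($(h1).hom r)
      simp only [CommRingCat.hom_comp, RingHom.comp_apply] at h3
      rw [h3]
      exact (π.commutes r).symm
    | add p q hp hq =>
      rw [map_add]
      exact add_mem hp hq
    | mul_X p k hp =>
      rw [map_mul]
      exact mul_mem hp (hX k)
  haveI : IsClosedImmersion c := IsClosedImmersion.of_surjective_of_isAffine c hsurj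
  have himm : IsImmersion (c ≫ o) := inferInstance
  refine ⟨n, c ≫ o, himm, ?_⟩
  change (c ≫ o) ≫ pullback.snd _ _ = b
  rw [Category.assoc, pullback.lift_snd, ← Category.assoc, hsnd, hb']

end Groth.Agent.Lib.Helper20.PnImm
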