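import Groth.Agent.Lib.Proj.Helper56_Charts
import Groth.Agent.S9705
import Mathlib.AlgebraicGeometry.Morphisms.Smooth

/-!
# Projective space is smooth (helper20)

* `smooth_toSpec`: `ℙⁿ_R ⟶ Spec R` is smooth.
* `smooth_toBase`, `isProper_toBase`: `ℙⁿ_S ⟶ S` is smooth and proper.
-/

set_option autoImplicit false
universe u

open CategoryTheory CategoryTheory.Limits AlgebraicGeometry

namespace Groth.Agent.Lib.Helper20.PnSmooth

open Groth.Agent.Lib.Proj

theorem smooth_Spec_map_C (σ : Type) [Finite σ] (R : Type u) [CommRing R] :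
    Smooth (Spec.map (CommRingCat.ofHom (MvPolynomial.C : R →+* MvPolynomial σ R))) := by
  rw [HasRingHomProperty.Spec_iff (P := @Smooth)]
  have : (CommRingCat.ofHom (MvPolynomial.C : R →+* MvPolynomial σ R)).hom =
      algebraMap R (MvPolynomial σ R) := rfl
  rw [this, RingHom.smooth_algebraMap]
  exact ⟨inferInstance, inferInstance⟩

theorem smooth_toSpec (n : ℕ) (R : Type u) [CommRing R] :
    Smooth (CohB1.ProjSpace.toSpec n R) := by
  rw [IsZariskiLocalAtSource.iff_of_openCover (P := @Smooth) (openCover n R)]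
  intro i
  change Smooth (chart n R i ≫ CohB1.ProjSpace.toSpec n R)
  rw [chart_toSpec]
  exact smooth_Spec_map_C {j : Fin (n + 1) // j ≠ i} R

theorem smooth_toBase (n : ℕ) (S : Scheme.{u}) : Smooth (CohB1.ProjSpaceOver.toBase n S) := by
  have := smooth_toSpec n (ULift.{u} ℤ)
  unfold CohB1.ProjSpaceOver.toBase
  exact MorphismProperty.pullback_snd (P := @Smooth) _ _ this

theorem isProper_toBase (n : ℕ) (S : Scheme.{u}) : IsProper (CohB1.ProjSpaceOver.toBase n S) :=
  Groth.Agent.S9705.isProper_toBase n S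

end Groth.Agent.Lib.Helper20.PnSmooth
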