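import Groth.Agent.Lib.Helper20.PushStalk
import Groth.Agent.Lib.Helper20.DevPoint
import Groth.Agent.Lib.Helper20.DevLen
import Groth.Agent.Lib.QCoh.Helper50_FinitePush
import Groth.Agent.Lib.QCoh.Helper74_IsoLocus

/-!
# helper20: the coherent module `i_* O_Z` for a closed immersion `i : Z ⟶ X`
-/

universe u
open CategoryTheory CategoryTheory.Limits AlgebraicGeometry Opposite TopologicalSpace

namespace Groth.Agent.Lib.Helper20.PushO

open Groth.Agent.Lib.QCoh Groth.Agent.Lib.Helper20.DevLen Groth.Agent.Lib.Helper20.PushStalk

variable {Z X : Scheme.{u}}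

theorem isCoh_push_structureModule (i : Z ⟶ X) [IsClosedImmersion i] :
    Coh.IsCoh ((Scheme.Modules.pushforward i).obj (Coh.structureModule Z)) := by
  have hOZ := IsoLocus74.isCoh_structureModule Z
  haveI : (Coh.structureModule Z).IsQuasicoherent := hOZ.1
  haveI : (Coh.structureModule Z).IsFiniteType := hOZ.2
  exact ⟨isQuasicoherent_pushforward_of_isAffineHom i _, isFiniteType_pushforward_of_isFinite i _⟩

theorem support_push_structureModule (i : Z ⟶ X) [IsClosedImmersion i] :
    CohB1.support ((Scheme.Modules.pushforward i).obj (Coh.structureModule Z)) = Set.range i := by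
  apply Set.Subset.antisymm
  · intro x hx
    by_contra hxn
    exact hx (subsingleton_stalk_push_of_notMem_range i i.isClosedEmbedding.isClosed_range _ x hxn)
  · rintro _ ⟨z, rfl⟩
    rw [mem_support_iff]
    intro hsub
    have hbij := pushStalk_bijective i i.isEmbedding.isInducing (Coh.structureModule Z) z
    have h1 : Subsingleton ((Coh.structureModule Z).presheaf.stalk z) :=
      hbij.2.subsingleton
    have h2 : Subsingleton (Z.presheaf.stalk z) :=
      (RefHull74.oxEquiv z).surjective.subsingleton
    exact not_subsingleton _ h2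

theorem exists_coh_length_one (X : Scheme.{u}) (ξ : X) :
    ∃ O' : X.Modules, Coh.IsCoh O' ∧ CohB1.support O' = closure {ξ} ∧ L ξ O' = 1 := by
  obtain ⟨Z, i, hci, hint, hr, hgp⟩ :=
    Groth.Agent.Lib.Helper20.DevPoint.exists_integral_closedImmersion X ξ
  refine ⟨(Scheme.Modules.pushforward i).obj (Coh.structureModule Z),
    isCoh_push_structureModule i, ?_, ?_⟩
  · rw [support_push_structureModule, hr]
  · have h1 := length_stalk_push_structureModule i (genericPoint Z)
    have h2 : Module.length (Z.presheaf.stalk (genericPoint Z))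
        (Z.presheaf.stalk (genericPoint Z)) = 1 :=
      Groth.Agent.Lib.Helper20.DevPoint.length_self_field Z.functionField
    rw [h2] at h1
    have transport : ∀ ξ'' : X, ξ'' = ξ → ∀ G : X.Modules,
        Module.length (X.presheaf.stalk ξ'') (G.presheaf.stalk ξ'') = 1 →
        Module.length (X.presheaf.stalk ξ) (G.presheaf.stalk ξ) = 1 := by
      rintro _ rfl G h
      exact h
    exact transport _ hgp _ h1

theorem exists_coh_support_eq (X : Scheme.{u}) (W : Closeds X) :
    ∃ F : X.Modules, Coh.IsCoh F ∧ CohB1.support F = (W : Set X) := by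
  refine ⟨(Scheme.Modules.pushforward (Scheme.IdealSheafData.vanishingIdeal W).subschemeι).obj
    (Coh.structureModule _), isCoh_push_structureModule _, ?_⟩
  rw [support_push_structureModule]
  exact Groth.Agent.Lib.Helper21.RedSubscheme.range_subschemeι_vanishingIdeal W

end Groth.Agent.Lib.Helper20.PushO
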