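import Groth.Agent.Lib.QCoh.Helper18_StalkLinear
import Groth.Agent.Lib.QCoh.Helper74_RefHullRefl

/-!
# helper20: stalks of the direct image along a closed immersion (or any inducing morphism)

* `pushStalk i M z : (i_* M)_{i z} ⟶ M_z` (Mathlib's `stalkPushforward`), `pushStalk_germ`,
  `pushStalk_smul` (semilinear over `i.stalkMap z`), `pushStalk_bijective` for `i` inducing.
* `subsingleton_stalk_push_of_notMem_range`: `(i_* M)_x = 0` for `x` outside the closed range of `i`.
* `length_stalk_push_structureModule`: for a closed immersion `i`,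
  `length_{O_{X,i z}} (i_* O_Z)_{i z} = length_{O_{Z,z}} O_{Z,z}`.
-/

universe u
open CategoryTheory CategoryTheory.Limits AlgebraicGeometry Opposite TopologicalSpace

namespace Groth.Agent.Lib.Helper20.PushStalk

open Groth.Agent.Lib.QCoh

variable {Z X : Scheme.{u}}

/-- The canonical map `(i_* M)_{i z} ⟶ M_z`. -/
noncomputable def pushStalk (i : Z ⟶ X) (M : Z.Modules) (z : Z) :
    ((Scheme.Modules.pushforward i).obj M).presheaf.stalk (i z) ⟶ M.presheaf.stalk z :=
  TopCat.Presheaf.stalkPushforward Ab i.base M.presheaf z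

lemma pushStalk_germ (i : Z ⟶ X) (M : Z.Modules) (z : Z) (W : X.Opens) (hx : i z ∈ W)
    (s : Γ((Scheme.Modules.pushforward i).obj M, W)) :
    pushStalk i M z (((Scheme.Modules.pushforward i).obj M).presheaf.germ W (i z) hx s) =
      M.presheaf.germ (i ⁻¹ᵁ W) z hx (show Γ(M, i ⁻¹ᵁ W) from s) :=
  congr($(TopCat.Presheaf.stalkPushforward_germ Ab i.base M.presheaf W z hx) s)

lemma pushStalk_smul (i : Z ⟶ X) (M : Z.Modules) (z : Z) (r : X.presheaf.stalk (i z))
    (m : ((Scheme.Modules.pushforward i).obj M).presheaf.stalk (i z)) :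
    pushStalk i M z (r • m) = (i.stalkMap z r) • pushStalk i M z m := by
  obtain ⟨W, hx, a, s, rfl, rfl⟩ := exists_germ_eq_pair ((Scheme.Modules.pushforward i).obj M)
    (i z) r m
  rw [← germ_smul, pushStalk_germ, pushStalk_germ, Scheme.Hom.germ_stalkMap_apply, ← germ_smul]
  rfl

lemma pushStalk_bijective (i : Z ⟶ X) (hi : Topology.IsInducing i) (M : Z.Modules) (z : Z) :
    Function.Bijective (pushStalk i M z) := by
  have : IsIso (pushStalk i M z) :=
    TopCat.Presheaf.stalkPushforward.stalkPushforward_iso_of_isInducing Ab (f := i.base) hi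
      M.presheaf z
  exact (ConcreteCategory.isIso_iff_bijective _).mp this

lemma subsingleton_stalk_push_of_notMem_range (i : Z ⟶ X) (hi : IsClosed (Set.range i))
    (M : Z.Modules) (x : X) (hx : x ∉ Set.range i) :
    Subsingleton (((Scheme.Modules.pushforward i).obj M).presheaf.stalk x) := by
  let U : X.Opens := ⟨(Set.range i)ᶜ, hi.isOpen_compl⟩
  have hxU : x ∈ U := hx
  refine ⟨fun a b => ?_⟩
  obtain ⟨W₁, hx₁, s, rfl⟩ := ((Scheme.Modules.pushforward i).obj M).presheaf.exists_germ_eq a
  obtain ⟨W₂, hx₂, t, rfl⟩ := ((Scheme.Modules.pushforward i).obj M).presheaf.exists_germ_eq b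
  have hxW : x ∈ W₁ ⊓ W₂ ⊓ U := ⟨⟨hx₁, hx₂⟩, hxU⟩
  have e1 := TopCat.Presheaf.germ_res_apply ((Scheme.Modules.pushforward i).obj M).presheaf
    (homOfLE ((inf_le_left.trans inf_le_left) : W₁ ⊓ W₂ ⊓ U ≤ W₁)) x hxW s
  have e2 := TopCat.Presheaf.germ_res_apply ((Scheme.Modules.pushforward i).obj M).presheaf
    (homOfLE ((inf_le_left.trans inf_le_right) : W₁ ⊓ W₂ ⊓ U ≤ W₂)) x hxW t
  rw [← e1, ← e2]
  congr 1
  -- sections over an open whose preimage is empty
  have hempty : i ⁻¹ᵁ (W₁ ⊓ W₂ ⊓ U) = ⊥ := by
    ext y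
    simp only [Scheme.Hom.mem_preimage, Opens.coe_bot, Set.mem_empty_iff_false, iff_false,
      SetLike.mem_coe]
    rintro ⟨-, hyU⟩
    exact hyU ⟨y, rfl⟩
  have hsub : Subsingleton Γ(M, i ⁻¹ᵁ (W₁ ⊓ W₂ ⊓ U)) := by
    rw [hempty]
    have hterm : IsTerminal (M.presheaf.obj (op ⊥)) :=
      TopCat.Sheaf.isTerminalOfEmpty ⟨M.presheaf, M.isSheaf⟩
    exact AddCommGrpCat.subsingleton_of_isZero
      (IsZero.of_iso (isZero_zero _) (hterm.uniqueUpToIso (isZero_zero Ab).isTerminal))
  exact hsub.elim _ _

/-- For a closed immersion `i : Z ⟶ X`, the stalk of `i_* O_Z` at `i z` has the same length over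
`O_{X, i z}` as `O_{Z,z}` over itself. -/
theorem length_stalk_push_structureModule (i : Z ⟶ X) [IsClosedImmersion i] (z : Z) :
    Module.length (X.presheaf.stalk (i z))
        (((Scheme.Modules.pushforward i).obj (Coh.structureModule Z)).presheaf.stalk (i z)) =
      Module.length (Z.presheaf.stalk z) (Z.presheaf.stalk z) := by
  letI : Algebra (X.presheaf.stalk (i z)) (Z.presheaf.stalk z) := (i.stalkMap z).hom.toAlgebra
  have hsurj : Function.Surjective (algebraMap (X.presheaf.stalk (i z)) (Z.presheaf.stalk z)) :=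
    i.stalkMap_surjective z
  rw [← Module.length_eq_of_surjective (S := X.presheaf.stalk (i z)) (R := Z.presheaf.stalk z)
    (M := Z.presheaf.stalk z) hsurj]
  have hbij := pushStalk_bijective i i.isEmbedding.isInducing (Coh.structureModule Z) z
  let e0 : ((Scheme.Modules.pushforward i).obj (Coh.structureModule Z)).presheaf.stalk (i z) ≃+
      (Coh.structureModule Z).presheaf.stalk z :=
    AddEquiv.ofBijective (pushStalk i (Coh.structureModule Z) z).hom hbij
  let e : ((Scheme.Modules.pushforward i).obj (Coh.structureModule Z)).presheaf.stalk (i z)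
      ≃ₗ[X.presheaf.stalk (i z)] Z.presheaf.stalk z :=
    { toFun := fun m => RefHull74.oxEquiv z (pushStalk i (Coh.structureModule Z) z m)
      map_add' := fun a b => by rw [map_add, map_add]
      map_smul' := fun r m => by
        rw [pushStalk_smul, map_smul]
        rfl
      invFun := fun y => e0.symm ((RefHull74.oxEquiv z).symm y)
      left_inv := fun m => by
        beta_reduce
        rw [LinearEquiv.symm_apply_apply]
        exact e0.symm_apply_apply m
      right_inv := fun y => by
        have : pushStalk i (Coh.structureModule Z) z (e0.symm ((RefHull74.oxEquiv z).symm y)) =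
            (RefHull74.oxEquiv z).symm y := e0.apply_symm_apply _
        beta_reduce
        rw [this, LinearEquiv.apply_symm_apply] }
  exact e.length_eq

end Groth.Agent.Lib.Helper20.PushStalk
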