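import Groth.Prelude.Def_CAlgX
import Groth.Agent.Lib.Helper83.CompleteNoeth
import Mathlib.RingTheory.Regular.RegularSequence
import Mathlib.RingTheory.MvPolynomial.Homogeneous
import Mathlib.Algebra.MvPolynomial.Equiv

/-!
A (weakly) regular sequence in a ring is quasi-regular (Matsumura, Thm 16.2 (i)).
-/

universe u

open MvPolynomial

namespace Groth.Agent.Lib.Helper20.QR

variable {A : Type u} [CommRing A]

/-- Key lemma: if `g` is quasi-regular and `a` is a nonzerodivisor modulo `I = (g)`, then `a` is
a nonzerodivisor modulo every power of `I`. -/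
theorem mem_pow_of_mul_mem_pow {n : ℕ} (g : Fin n → A) (hg : CAlgX.IsQuasiRegular g) (a : A)
    (ha : ∀ x, a * x ∈ Ideal.span (Set.range g) → x ∈ Ideal.span (Set.range g)) (ν : ℕ) :
    ∀ x, a * x ∈ Ideal.span (Set.range g) ^ ν → x ∈ Ideal.span (Set.range g) ^ ν := by
  induction ν with
  | zero => intro x _; simp
  | succ ν ih =>
    intro x hx
    have hx' : x ∈ Ideal.span (Set.range g) ^ ν :=
      ih x (Ideal.pow_le_pow_right (Nat.le_succ ν) hx)
    obtain ⟨F, hF, rfl⟩ := (Ideal.mem_span_pow_iff_exists_isHomogeneous g x).mp hx'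
    have h1 : (C a * F).IsHomogeneous ν := by
      have := (isHomogeneous_C (Fin n) a).mul hF
      simpa using this
    have h2 : eval g (C a * F) ∈ Ideal.span (Set.range g) ^ (ν + 1) := by
      simpa using hx
    have h3 := hg ν (C a * F) h1 h2
    have h4 : ∀ d, coeff d F ∈ Ideal.span (Set.range g) := by
      intro d
      have := h3 d
      rw [coeff_C_mul] at this
      exact ha _ this
    exact Groth.Agent.Lib.Helper83.eval_mem_pow_succ_of_coeff_mem (Ideal.span (Set.range g)) g
      (fun i => Ideal.subset_span (Set.mem_range_self i)) F hF h4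

theorem pow_succ_le_sup (I' : Ideal A) (a : A) (m : ℕ) :
    (I' ⊔ Ideal.span {a}) ^ (m + 1) ≤
      I' ^ (m + 1) ⊔ Ideal.span {a} * (I' ⊔ Ideal.span {a}) ^ m := by
  induction m with
  | zero => simp
  | succ m ih =>
    set I := I' ⊔ Ideal.span {a} with hI
    calc I ^ (m + 1 + 1) = I ^ (m + 1) * I := pow_succ _ _
      _ ≤ (I' ^ (m + 1) ⊔ Ideal.span {a} * I ^ m) * I := Ideal.mul_mono_left ih
      _ = I' ^ (m + 1) * I ⊔ Ideal.span {a} * I ^ m * I := Ideal.sup_mul _ _ _
      _ ≤ I' ^ (m + 1 + 1) ⊔ Ideal.span {a} * I ^ (m + 1) := by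
        apply sup_le
        · rw [hI, Ideal.mul_sup]
          apply sup_le
          · rw [← pow_succ]; exact le_sup_left
          · refine le_trans ?_ le_sup_right
            rw [mul_comm]
            exact Ideal.mul_mono_right (Ideal.pow_right_mono le_sup_left _)
        · refine le_trans ?_ le_sup_right
          rw [mul_assoc, ← pow_succ]

end Groth.Agent.Lib.Helper20.QR
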