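import Groth.Agent.Lib.Helper20.QuasiReg

universe u

open MvPolynomial

namespace Groth.Agent.Lib.Helper20.QR

variable {A : Type u} [CommRing A]

section step

variable {n : ℕ} (g' : Fin n → A) (hg' : CAlgX.IsQuasiRegular g') (a : A)
  (ha : ∀ x, a * x ∈ Ideal.span (Set.range g') → x ∈ Ideal.span (Set.range g'))

include hg' ha in
theorem core (ν : ℕ) (P0 : MvPolynomial (Fin n) A) (hP0 : P0.IsHomogeneous ν) (y : A)
    (hT : eval g' P0 + a * y ∈ (Ideal.span (Set.range g') ⊔ Ideal.span {a}) ^ (ν + 1)) :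
    y ∈ (Ideal.span (Set.range g') ⊔ Ideal.span {a}) ^ ν ∧
      ∀ d, coeff d P0 ∈ Ideal.span (Set.range g') ⊔ Ideal.span {a} := by
  set I' := Ideal.span (Set.range g') with hI'
  have hT' := pow_succ_le_sup I' a ν hT
  obtain ⟨u, hu, z, hz, huz⟩ := Submodule.mem_sup.mp hT'
  obtain ⟨v, hv, rfl⟩ := Ideal.mem_span_singleton_mul.mp hz
  have hx0 : eval g' P0 ∈ I' ^ ν :=
    Groth.Agent.Lib.Helper83.eval_mem_pow_of_isHomogeneous I' g'
      (fun i => Ideal.subset_span (Set.mem_range_self i)) P0 hP0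
  have h1 : a * (y - v) ∈ I' ^ ν := by
    have : a * (y - v) = u - eval g' P0 := by
      have := huz
      linear_combination -this
    rw [this]
    exact (I' ^ ν).sub_mem (Ideal.pow_le_pow_right (Nat.le_succ ν) hu) hx0
  have hw : y - v ∈ I' ^ ν := mem_pow_of_mul_mem_pow g' hg' a ha ν _ h1
  have hle : I' ^ ν ≤ (I' ⊔ Ideal.span {a}) ^ ν := Ideal.pow_right_mono le_sup_left ν
  refine ⟨?_, ?_⟩
  · have : y = (y - v) + v := by ring
    rw [this]
    exact Ideal.add_mem _ (hle hw) hv
  · obtain ⟨h, hh, hhw⟩ := (Ideal.mem_span_pow_iff_exists_isHomogeneous g' (y - v)).mp hw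
    have h2 : (P0 + C a * h).IsHomogeneous ν := by
      have := (isHomogeneous_C (Fin n) a).mul hh
      exact hP0.add (by simpa using this)
    have h3 : eval g' (P0 + C a * h) ∈ I' ^ (ν + 1) := by
      have : eval g' (P0 + C a * h) = u := by
        simp only [map_add, map_mul, eval_C, hhw]
        linear_combination -huz
      rw [this]; exact hu
    have h4 := hg' ν _ h2 h3
    intro d
    have h5 := h4 d
    rw [coeff_add, coeff_C_mul] at h5
    have : coeff d P0 = (coeff d P0 + a * coeff d h) - a * coeff d h := by ring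
    rw [this]
    refine Ideal.sub_mem _ (Ideal.mem_sup_left h5) (Ideal.mem_sup_right ?_)
    exact Ideal.mul_mem_right _ _ (Ideal.subset_span rfl)

include hg' ha in
theorem main_step (ν : ℕ) : ∀ (P : ℕ → MvPolynomial (Fin n) A),
    (∀ j ≤ ν, (P j).IsHomogeneous (ν - j)) →
    (∑ j ∈ Finset.range (ν + 1), a ^ j * eval g' (P j)) ∈
      (Ideal.span (Set.range g') ⊔ Ideal.span {a}) ^ (ν + 1) →
    ∀ j ≤ ν, ∀ d, coeff d (P j) ∈ Ideal.span (Set.range g') ⊔ Ideal.span {a} := by
  induction ν with
  | zero =>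
    intro P hP hsum j hj d
    obtain rfl : j = 0 := by omega
    have h0 := hP 0 le_rfl
    have : eval g' (P 0) + a * 0 ∈ (Ideal.span (Set.range g') ⊔ Ideal.span {a}) ^ (0 + 1) := by
      rw [Finset.sum_range_one, pow_zero, one_mul] at hsum
      rw [mul_zero, add_zero]
      exact hsum
    exact (core g' hg' a ha 0 (P 0) h0 0 this).2 d
  | succ ν ih =>
    intro P hP hsum j hj d
    have h0 : (P 0).IsHomogeneous (ν + 1) := hP 0 (Nat.zero_le _)
    rw [Finset.sum_range_succ'] at hsum
    have hy : (∑ k ∈ Finset.range (ν + 1), a ^ (k + 1) * eval g' (P (k + 1))) =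
        a * ∑ k ∈ Finset.range (ν + 1), a ^ k * eval g' (P (k + 1)) := by
      rw [Finset.mul_sum]
      refine Finset.sum_congr rfl fun k _ => ?_
      rw [pow_succ]
      ring
    have hsum' : eval g' (P 0) + a * ∑ k ∈ Finset.range (ν + 1), a ^ k * eval g' (P (k + 1)) ∈
        (Ideal.span (Set.range g') ⊔ Ideal.span {a}) ^ (ν + 1 + 1) := by
      rw [hy, pow_zero, one_mul] at hsum
      rw [add_comm (eval g' (P 0))]
      exact hsum
    obtain ⟨hy1, hc0⟩ := core g' hg' a ha (ν + 1) (P 0) h0 _ hsum'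
    rcases Nat.eq_zero_or_pos j with rfl | hjpos
    · exact hc0 d
    · obtain ⟨j', rfl⟩ : ∃ j', j = j' + 1 := ⟨j - 1, by omega⟩
      refine ih (fun k => P (k + 1)) (fun k hk => ?_) hy1 j' (by omega) d
      have := hP (k + 1) (by omega)
      rwa [Nat.succ_sub_succ] at this

end step

theorem span_range_cons {n : ℕ} (a : A) (g' : Fin n → A) :
    Ideal.span (Set.range (Fin.cons a g' : Fin (n + 1) → A)) =
      Ideal.span (Set.range g') ⊔ Ideal.span {a} := by
  rw [Fin.range_cons, Ideal.span_insert, sup_comm]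

/-- Inductive step: adding in front an element which is a nonzerodivisor modulo a quasi-regular
sequence gives a quasi-regular sequence. -/
theorem isQuasiRegular_cons {n : ℕ} (g' : Fin n → A) (hg' : CAlgX.IsQuasiRegular g') (a : A)
    (ha : ∀ x, a * x ∈ Ideal.span (Set.range g') → x ∈ Ideal.span (Set.range g')) :
    CAlgX.IsQuasiRegular (Fin.cons a g' : Fin (n + 1) → A) := by
  intro ν P hP hev d
  rw [span_range_cons] at hev ⊢
  by_cases hd : coeff d P = 0
  · rw [hd]; exact Ideal.zero_mem _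
  have hdeg : (finSuccEquiv A n P).natDegree < ν + 1 := by
    have := natDegree_finSuccEquiv P
    have h2 := degreeOf_le_totalDegree P 0
    have h3 := hP.totalDegree_le
    omega
  have hdeg' : (Polynomial.map (eval g') (finSuccEquiv A n P)).natDegree < ν + 1 :=
    lt_of_le_of_lt Polynomial.natDegree_map_le hdeg
  have hsum : eval (Fin.cons a g' : Fin (n + 1) → A) P =
      ∑ j ∈ Finset.range (ν + 1), a ^ j * eval g' ((finSuccEquiv A n P).coeff j) := by
    rw [eval_eq_eval_mv_eval', Polynomial.eval_eq_sum_range' hdeg']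
    refine Finset.sum_congr rfl fun j _ => ?_
    rw [Polynomial.coeff_map, mul_comm]
  rw [hsum] at hev
  have hhom : ∀ j ≤ ν, ((finSuccEquiv A n P).coeff j).IsHomogeneous (ν - j) := fun j hj =>
    hP.finSuccEquiv_coeff_isHomogeneous j (ν - j) (by omega)
  have key := main_step g' hg' a ha ν (fun j => (finSuccEquiv A n P).coeff j) hhom hev
  have hd0 : d 0 ≤ ν := by
    have h1 : d ∈ P.support := mem_support_iff.mpr hd
    have h2 := monomial_le_degreeOf 0 h1
    have h3 := degreeOf_le_totalDegree P 0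
    have h4 := hP.totalDegree_le
    omega
  have := key (d 0) hd0 (Finsupp.tail d)
  rw [finSuccEquiv_coeff_coeff, Finsupp.cons_tail] at this
  exact this

end Groth.Agent.Lib.Helper20.QR
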