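import Groth.Agent.Lib.Helper20.QuasiReg2

universe u

open MvPolynomial

namespace Groth.Agent.Lib.Helper20.QR

variable {A : Type u} [CommRing A]

theorem isQuasiRegular_zero (f : Fin 0 → A) : CAlgX.IsQuasiRegular f := by
  intro n P _ hev d
  have hr : Set.range f = ∅ := Set.range_eq_empty f
  rw [hr, Ideal.span_empty] at hev ⊢
  rw [MvPolynomial.eq_C_of_isEmpty P] at hev ⊢
  rw [eval_C, Ideal.bot_pow (Nat.succ_ne_zero n), Ideal.mem_bot] at hev
  rw [hev]
  simp

theorem isQuasiRegular_comp_equiv {c : ℕ} (g : Fin c → A) (hg : CAlgX.IsQuasiRegular g)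
    (σ : Fin c ≃ Fin c) : CAlgX.IsQuasiRegular (g ∘ σ) := by
  intro n P hP hev d
  have hr : Set.range (g ∘ σ) = Set.range g := σ.surjective.range_comp g
  rw [hr] at hev ⊢
  have h1 : (rename σ P).IsHomogeneous n := hP.rename_isHomogeneous
  have h2 : eval g (rename σ P) = eval (g ∘ σ) P := eval_rename _ _ _
  have h3 := hg n (rename σ P) h1 (by rw [h2]; exact hev) (Finsupp.mapDomain σ d)
  rwa [coeff_rename_mapDomain σ σ.injective] at h3

theorem snoc_eq_cons_comp {n : ℕ} (f : Fin (n + 1) → A) :
    f = (Fin.cons (f (Fin.last n)) (Fin.init f) : Fin (n + 1) → A) ∘ finRotate (n + 1) := by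
  funext i
  refine Fin.lastCases ?_ (fun j => ?_) i
  · simp
  · simp only [Function.comp_apply]
    rw [finRotate_apply, Fin.coeSucc_eq_succ, Fin.cons_succ]
    rfl

theorem isQuasiRegular_of_isWeaklyRegular : ∀ (c : ℕ) (f : Fin c → A),
    RingTheory.Sequence.IsWeaklyRegular A (List.ofFn f) → CAlgX.IsQuasiRegular f := by
  intro c
  induction c with
  | zero => intro f _; exact isQuasiRegular_zero f
  | succ n ih =>
    intro f hf
    rw [List.ofFn_succ', List.concat_eq_append,
      RingTheory.Sequence.isWeaklyRegular_append_iff,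
      RingTheory.Sequence.isWeaklyRegular_singleton_iff,
      isSMulRegular_quotient_iff_mem_of_smul_mem] at hf
    obtain ⟨h1, h2⟩ := hf
    have hI : (Ideal.ofList (List.ofFn fun i => f (Fin.castSucc i)) • ⊤ : Submodule A A) =
        Ideal.span (Set.range (Fin.init f)) := by
      rw [smul_eq_mul, Ideal.mul_top]
      unfold Ideal.ofList
      congr 1
      ext x
      simp [List.mem_ofFn, Fin.init]
    rw [hI] at h2
    have hq : CAlgX.IsQuasiRegular (Fin.init f) := ih (Fin.init f) h1
    have := isQuasiRegular_cons (Fin.init f) hq (f (Fin.last n)) (fun x hx => h2 x hx)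
    have h3 := isQuasiRegular_comp_equiv _ this (finRotate (n + 1))
    rw [← snoc_eq_cons_comp] at h3
    exact h3

end Groth.Agent.Lib.Helper20.QR
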