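import Groth.Agent.Lib.Helper20.Devissage
import Groth.Agent.Lib.Helper20.PushO
import Groth.Agent.Lib.Helper20.DevAlg2
import Groth.Agent.Lib.QCoh.Helper18_PullbackSupport

/-!
# helper20: Serre classes of coherent modules on a Noetherian scheme are determined by supports

* `IsSerre P`: for short exact sequences of coherent modules, the middle term has `P` iff both outer
  terms do.
* `serre_gen`: if `P` is a Serre class, `P F` and `Supp E ⊆ Supp F` (`E`, `F` coherent), then `P E`.
-/

universe u
open CategoryTheory CategoryTheory.Limits AlgebraicGeometry Opposite TopologicalSpace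

namespace Groth.Agent.Lib.Helper20.SerreGen

open Groth.Agent.Lib.QCoh Groth.Agent.Lib.Helper20.DevLen Scheme.Modules

variable {X : Scheme.{u}}

/-- Serre class on coherent modules. -/
def IsSerre (P : ObjectProperty X.Modules) : Prop :=
  ∀ S : ShortComplex X.Modules, S.ShortExact → Coh.IsCoh S.X₁ → Coh.IsCoh S.X₂ → Coh.IsCoh S.X₃ →
    (P S.X₂ ↔ P S.X₁ ∧ P S.X₃)

variable {P : ObjectProperty X.Modules}

theorem of_mono (hP : IsSerre P) {A B : X.Modules} (f : A ⟶ B) [hf : Mono f] (hA : Coh.IsCoh A)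
    (hB : Coh.IsCoh B) (h : P B) : P A := by
  let S : ShortComplex X.Modules := ShortComplex.mk f (cokernel.π f) (cokernel.condition f)
  have hS : S.ShortExact :=
    { exact := ShortComplex.exact_of_g_is_cokernel _ (cokernelIsCokernel f)
      mono_f := hf
      epi_g := inferInstanceAs (Epi (cokernel.π f)) }
  exact ((hP S hS hA hB (isCoh_cokernel hA hB f)).1 h).1

theorem of_epi [IsLocallyNoetherian X] (hP : IsSerre P) {A B : X.Modules} (f : A ⟶ B) [hf : Epi f]
    (hA : Coh.IsCoh A) (hB : Coh.IsCoh B) (h : P A) : P B := by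
  let S : ShortComplex X.Modules := ShortComplex.mk (kernel.ι f) f (kernel.condition f)
  have hS : S.ShortExact :=
    { exact := ShortComplex.exact_of_f_is_kernel _ (kernelIsKernel f)
      mono_f := inferInstanceAs (Mono (kernel.ι f))
      epi_g := hf }
  exact ((hP S hS (isCoh_kernel hA hB f) hA hB).1 h).2

theorem of_iso (hP : IsSerre P) {A B : X.Modules} (e : A ≅ B) (hA : Coh.IsCoh A)
    (hB : Coh.IsCoh B) (h : P A) : P B :=
  of_mono hP e.inv hB hA h

lemma stalk_exact_cokernel {A B : X.Modules} (f : A ⟶ B) (x : X) (m : B.presheaf.stalk x)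
    (hm : stalkMap (cokernel.π f) x m = 0) : ∃ k, stalkMap f x k = m := by
  let S : ShortComplex X.Modules := ShortComplex.mk f (cokernel.π f) (cokernel.condition f)
  have hS : S.Exact := ShortComplex.exact_of_g_is_cokernel _ (cokernelIsCokernel f)
  have hE := hS.map (stalkFunctor X x)
  rw [ShortComplex.ab_exact_iff] at hE
  exact hE m hm

/-- For a coherent `F` and a point `ξ` of its support there is a coherent subquotient `G` of `F`
supported in `closure {ξ}` whose stalk at `ξ` has length one. -/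
theorem exists_subquotient [IsNoetherian X] (F : X.Modules) (hF : Coh.IsCoh F) (ξ : X)
    (hξ : ξ ∈ CohB1.support F) :
    ∃ (G Hbar : X.Modules) (m : Hbar ⟶ F) (q : Hbar ⟶ G), Mono m ∧ Epi q ∧ Coh.IsCoh Hbar ∧
      Coh.IsCoh G ∧ CohB1.support G ⊆ closure {ξ} ∧ L ξ G = 1 := by
  obtain ⟨O', hO', hO's, hO'l⟩ := Groth.Agent.Lib.Helper20.PushO.exists_coh_length_one X ξ
  haveI : F.IsQuasicoherent := hF.1
  haveI : F.IsFiniteType := hF.2
  haveI : O'.IsQuasicoherent := hO'.1
  haveI : O'.IsFiniteType := hO'.2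
  haveI : Module.Finite (X.presheaf.stalk ξ) (F.presheaf.stalk ξ) := finite_stalk F ξ
  have hnt : Nontrivial (F.presheaf.stalk ξ) :=
    not_subsingleton_iff_nontrivial.1 ((mem_support_iff F ξ).1 hξ)
  obtain ⟨ψ, hψ⟩ := Groth.Agent.Lib.Helper20.DevAlg.exists_surjective_of_length_one
    (R := X.presheaf.stalk ξ) (A := F.presheaf.stalk ξ) (B := O'.presheaf.stalk ξ) hnt hO'l
  obtain ⟨U, hξU, φ, hφ⟩ :=
    StalkHomSpread.exists_hom_restrict_with_stalk_eq X O' F hO' hF ξ ψ
  have hX : ∀ x : X, ∃ U : X.Opens, x ∈ U ∧ NoetherianSpace (U : Set X) :=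
    fun x => ⟨⊤, trivial, inferInstance⟩
  obtain ⟨H, j, hj, hHq, hHf, hiso, hcomm⟩ :=
    Groth.Agent.Lib.Helper20.DevGraph.exists_graph_hom hX F O' U φ
  have hH : Coh.IsCoh H := ⟨hHq, hHf⟩
  let u : U := ⟨ξ, hξU⟩
  -- stalk maps at `ξ`
  have ha : Function.Bijective (stalkMap (j ≫ biprod.fst) ξ) := by
    have h1 : Function.Bijective
        (stalkMap ((restrictFunctor U.ι).map (j ≫ biprod.fst)) u) := by
      have hi2 : IsIso ((stalkFunctor U u).map ((restrictFunctor U.ι).map (j ≫ biprod.fst))) :=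
        Functor.map_isIso _ _
      exact (ConcreteCategory.isIso_iff_bijective _).1 hi2
    exact (StalkLocal.bijective_stalkMap_restrict_iff U (j ≫ biprod.fst) u).1 h1
  have hφsurj : Function.Surjective (stalkMap φ u) := by
    intro y
    have hbijG := StalkLocal.bijective_restrictStalkNatIso_app U u F
    have hbijO := StalkLocal.bijective_restrictStalkNatIso_app U u O'
    have key : ∀ a : ((restrictFunctor U.ι).obj F).presheaf.stalk u,
        ψ ((restrictStalkNatIso U.ι u).hom.app F a) =
          (restrictStalkNatIso U.ι u).hom.app O' (stalkMap φ u a) := by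
      intro a
      have h2 := ConcreteCategory.congr_hom hφ ((restrictStalkNatIso U.ι u).hom.app F a)
      rw [ConcreteCategory.comp_apply, ConcreteCategory.comp_apply] at h2
      have h3 : (restrictStalkNatIso U.ι u).inv.app F
          ((restrictStalkNatIso U.ι u).hom.app F a) = a := by
        rw [← ConcreteCategory.comp_apply, Iso.hom_inv_id_app]
        rfl
      rw [h3] at h2
      exact h2.symm
    obtain ⟨x, hx⟩ := hψ ((restrictStalkNatIso U.ι u).hom.app O' y)
    obtain ⟨a, rfl⟩ := hbijG.2 x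
    refine ⟨a, hbijO.1 ?_⟩
    rw [← key, hx]
  have hb : Function.Surjective (stalkMap (j ≫ biprod.snd) ξ) := by
    have h1 : Function.Surjective
        (stalkMap ((restrictFunctor U.ι).map (j ≫ biprod.snd)) u) := by
      rw [hcomm]
      intro y
      obtain ⟨x, hx⟩ := hφsurj y
      have h3 : Function.Bijective
          (stalkMap ((restrictFunctor U.ι).map (j ≫ biprod.fst)) u) := by
        have hi2 : IsIso ((stalkFunctor U u).map ((restrictFunctor U.ι).map (j ≫ biprod.fst))) :=
          Functor.map_isIso _ _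
        exact (ConcreteCategory.isIso_iff_bijective _).1 hi2
      obtain ⟨w, hw⟩ := h3.2 x
      refine ⟨w, ?_⟩
      rw [stalkMap_comp_apply, hw, hx]
    exact (StalkLocal.surjective_stalkMap_restrict_iff U (j ≫ biprod.snd) u).1 h1
  -- the construction
  generalize hadef : j ≫ biprod.fst = a at ha
  generalize hbdef : j ≫ biprod.snd = b at hb
  have hKa : Subsingleton ((kernel a).presheaf.stalk ξ) := subsingleton_stalk_kernel a ξ ha.1
  have hKcoh : Coh.IsCoh (kernel a) := isCoh_kernel hH hF a
  let c : kernel a ⟶ O' := kernel.ι a ≫ b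
  have hO'' : Coh.IsCoh (cokernel c) := isCoh_cokernel hKcoh hO' c
  have hp : Function.Bijective (stalkMap (cokernel.π c) ξ) := by
    refine ⟨?_, stalkMap_surjective_of_epi _ ξ⟩
    intro x y hxy
    have h0 : stalkMap (cokernel.π c) ξ (x - y) = 0 := by rw [map_sub, hxy, sub_self]
    obtain ⟨k, hk⟩ := stalk_exact_cokernel c ξ _ h0
    have h1 : x - y = 0 := by rw [← hk, Subsingleton.elim k 0, map_zero]
    exact sub_eq_zero.1 h1
  have hHbar : Coh.IsCoh (Abelian.coimage a) := isCoh_cokernel hKcoh hH (kernel.ι a)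
  have hbp : kernel.ι a ≫ (b ≫ cokernel.π c) = 0 := by
    rw [← Category.assoc]
    exact cokernel.condition c
  let bbar : Abelian.coimage a ⟶ cokernel c := cokernel.desc (kernel.ι a) (b ≫ cokernel.π c) hbp
  have hbbar : Abelian.coimage.π a ≫ bbar = b ≫ cokernel.π c := cokernel.π_desc _ _ _
  have hbbars : Function.Surjective (stalkMap bbar ξ) := by
    intro y
    obtain ⟨o, ho⟩ := hp.2 y
    obtain ⟨h, hh⟩ := hb o
    refine ⟨stalkMap (Abelian.coimage.π a) ξ h, ?_⟩
    rw [← stalkMap_comp_apply, hbbar, stalkMap_comp_apply, hh, ho]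
  have hG : Coh.IsCoh (Abelian.image bbar) :=
    isCoh_kernel hO'' (isCoh_cokernel hHbar hO'' bbar) (cokernel.π bbar)
  have hιs : Function.Bijective (stalkMap (Abelian.image.ι bbar) ξ) := by
    refine ⟨stalkMap_injective_of_mono _ ξ, ?_⟩
    intro y
    obtain ⟨x, hx⟩ := hbbars y
    refine ⟨stalkMap (Abelian.factorThruImage bbar) ξ x, ?_⟩
    rw [← stalkMap_comp_apply, Abelian.image.fac, hx]
  refine ⟨Abelian.image bbar, Abelian.coimage a, Abelian.factorThruCoimage a,
    Abelian.factorThruImage bbar, inferInstance, inferInstance, hHbar, hG, ?_, ?_⟩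
  · refine (support_subset_of_mono (Abelian.image.ι bbar)).trans ?_
    refine (support_subset_of_epi (cokernel.π c)).trans ?_
    rw [hO's]
  · rw [L_of_bijective _ ξ hιs, ← L_of_bijective _ ξ hp, hO'l]

/-- **Serre classes are determined by supports.** -/
theorem serre_gen [IsNoetherian X] (P : ObjectProperty X.Modules) (hP : IsSerre P)
    (F : X.Modules) (hF : Coh.IsCoh F) (hPF : P F) (E : X.Modules) (hE : Coh.IsCoh E)
    (hsupp : CohB1.support E ⊆ CohB1.support F) : P E := by
  refine Groth.Agent.Lib.Helper20.Devissage.main X (fun M => Coh.IsCoh M → P M) ?_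
    (CohB1.support F) ?_ ?_ ?_ E hE hsupp hE
  · rintro M N ⟨e⟩ hM hN
    have hMc : Coh.IsCoh M := isCoh_of_iso e.symm hN
    exact of_iso hP e hMc hN (hM hMc)
  · intro S hS h1 h2 h3 _
    have h := hP S hS h1 h2 h3
    exact ⟨fun _ hb _ => (h.1 (hb h2)).2, fun ha hc _ => h.2 ⟨ha h1, hc h3⟩,
      fun hb _ _ => (h.1 (hb h2)).1⟩
  · intro M hM hMc
    haveI : Mono (0 : M ⟶ F) := hM.mono _
    exact of_mono hP (0 : M ⟶ F) hMc hF hPF
  · intro ξ hξ
    obtain ⟨G, Hbar, m, q, hm, hq, hHbar, hG, hGs, hGl⟩ := exists_subquotient F hF ξ hξ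
    exact ⟨G, hG, fun _ => of_epi hP q hHbar hG (of_mono hP m hHbar hF hPF), hGs, hGl⟩

end Groth.Agent.Lib.Helper20.SerreGen
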