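import Groth.Agent.Lib.Helper20.SerreGen

/-!
# helper20: a Serre class containing, for each point of `Y₀`, a coherent module supported in the
closure of the point with stalk of length one, contains all coherent modules supported in `Y₀`
-/

universe u
open CategoryTheory CategoryTheory.Limits AlgebraicGeometry Opposite TopologicalSpace

namespace Groth.Agent.Lib.Helper20.SerreGen

open Groth.Agent.Lib.QCoh Groth.Agent.Lib.Helper20.DevLen Scheme.Modules

variable {X : Scheme.{u}}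

theorem serre_of_points [IsNoetherian X] (Q : ObjectProperty X.Modules) (hQ : IsSerre Q)
    (Y₀ : Set X) (hne : ∃ F : X.Modules, Coh.IsCoh F ∧ Q F)
    (h₂ : ∀ ξ ∈ Y₀, ∃ G : X.Modules, Coh.IsCoh G ∧ Q G ∧ CohB1.support G ⊆ closure {ξ} ∧
      L ξ G = 1)
    (M : X.Modules) (hM : Coh.IsCoh M) (hMs : CohB1.support M ⊆ Y₀) : Q M := by
  obtain ⟨F, hF, hQF⟩ := hne
  refine Groth.Agent.Lib.Helper20.Devissage.main X (fun M => Coh.IsCoh M → Q M) ?_
    Y₀ ?_ ?_ ?_ M hM hMs hM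
  · rintro M N ⟨e⟩ hM hN
    have hMc : Coh.IsCoh M := isCoh_of_iso e.symm hN
    exact of_iso hQ e hMc hN (hM hMc)
  · intro S hS h1 h2 h3 _
    have h := hQ S hS h1 h2 h3
    exact ⟨fun _ hb _ => (h.1 (hb h2)).2, fun ha hc _ => h.2 ⟨ha h1, hc h3⟩,
      fun hb _ _ => (h.1 (hb h2)).1⟩
  · intro M hM hMc
    haveI : Mono (0 : M ⟶ F) := hM.mono _
    exact of_mono hQ (0 : M ⟶ F) hMc hF hQF
  · intro ξ hξ
    obtain ⟨G, hG, hQG, hGs, hGl⟩ := h₂ ξ hξ
    exact ⟨G, hG, fun _ => hQG, hGs, hGl⟩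

end Groth.Agent.Lib.Helper20.SerreGen
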