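import Groth.Agent.Lib.Helper20.ThickAffine

/-!
# Corollaries of "a nilpotent thickening of an affine scheme is affine" (helper20)

* `isAffine_of_ker_ideal_pow`, `isAffine_of_ker_pow_eq_bot`: ideal-sheaf forms.
* `isAffineOpen_of_preimage`: an open `U' ⊆ X'` is affine as soon as `t ⁻¹ᵁ U'` is.
* `isAffineHom_of_square`: for a commutative square of thickenings, `f` affine implies `f'` affine.
-/

universe u

open CategoryTheory CategoryTheory.Limits AlgebraicGeometry Opposite TopologicalSpace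

namespace Groth.Agent.Lib.Helper20.ThickAffine

variable {X X' : Scheme.{u}} (t : X ⟶ X') [IsClosedImmersion t]

theorem isAffine_of_ker_ideal_pow (ht : Function.Surjective t) [IsAffine X] (n : ℕ)
    (hn : ∀ U : X'.affineOpens, t.ker.ideal U ^ n = ⊥) : IsAffine X' :=
  isAffine_of_thickening t ht n (fun U => by rw [← Scheme.Hom.ker_apply]; exact hn U)

theorem isAffine_of_ker_pow_eq_bot (ht : Function.Surjective t) [IsAffine X] (n : ℕ)
    (hn : t.ker ^ n = ⊥) : IsAffine X' :=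
  isAffine_of_ker_ideal_pow t ht n (fun U => by
    have h1 : t.ker.ideal U ^ n = (t.ker ^ n).ideal U := rfl
    rw [h1, hn]; rfl)

theorem isAffineOpen_of_preimage (ht : Function.Surjective t) (n : ℕ)
    (hn : ∀ U : X'.affineOpens, t.ker.ideal U ^ n = ⊥) (U' : X'.Opens)
    (h : IsAffineOpen (t ⁻¹ᵁ U')) : IsAffineOpen U' := by
  have : IsAffine (t ⁻¹ᵁ U').toScheme := h
  have hsurj : Function.Surjective (t ∣_ U') := by
    rintro ⟨y, hy⟩
    obtain ⟨x, rfl⟩ := ht y
    exact ⟨⟨x, hy⟩, Subtype.ext (morphismRestrict_base_coe t U' ⟨x, hy⟩)⟩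
  exact isAffine_of_ker_ideal_pow (t ∣_ U') hsurj n (fun V => by
    rw [Scheme.ker_morphismRestrict_ideal]; exact hn _)

theorem isAffineHom_of_square {S S' : Scheme.{u}} (ht : Function.Surjective t) (n : ℕ)
    (hn : ∀ U : X'.affineOpens, t.ker.ideal U ^ n = ⊥) (iS : S ⟶ S') [IsAffineHom iS]
    (f : X ⟶ S) (f' : X' ⟶ S') (w : t ≫ f' = f ≫ iS) [IsAffineHom f] : IsAffineHom f' := by
  constructor
  intro V hV
  apply isAffineOpen_of_preimage t ht n hn
  have h1 : t ⁻¹ᵁ (f' ⁻¹ᵁ V) = f ⁻¹ᵁ (iS ⁻¹ᵁ V) := by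
    rw [← Scheme.Hom.comp_preimage, ← Scheme.Hom.comp_preimage, w]
  rw [h1]
  exact (hV.preimage iS).preimage f

/-- On a quasi-compact scheme, a locally nilpotent ideal sheaf is nilpotent. -/
theorem exists_pow_eq_bot_of_isNilpotent {Y : Scheme.{u}} [CompactSpace Y] (J : Y.IdealSheafData)
    (h : ∀ U : Y.affineOpens, IsNilpotent (J.ideal U)) : ∃ n : ℕ, J ^ n = ⊥ := by
  classical
  obtain ⟨s, hs⟩ := isCompact_univ.elim_finite_subcover
    (fun U : Y.affineOpens => ((U.1 : Y.Opens) : Set Y)) (fun U => U.1.isOpen) (by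
      intro x _
      obtain ⟨_, ⟨U, hU, rfl⟩, hxU, -⟩ :=
        Y.isBasis_affineOpens.exists_subset_of_mem_open (Set.mem_univ x) isOpen_univ
      exact Set.mem_iUnion.2 ⟨⟨U, hU⟩, hxU⟩)
  choose n hn using h
  refine ⟨s.sup n, le_bot_iff.1 ?_⟩
  refine Scheme.IdealSheafData.le_of_iSup_eq_top (fun i : s => i.1) ?_ fun i => ?_
  · rw [eq_top_iff]
    intro x _
    have hx := hs (Set.mem_univ x)
    simp only [Set.mem_iUnion] at hx
    obtain ⟨U, hUs, hxU⟩ := hx
    exact Opens.mem_iSup.2 ⟨⟨U, hUs⟩, hxU⟩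
  · have h1 : (J ^ s.sup n).ideal i.1 = J.ideal i.1 ^ s.sup n := rfl
    rw [h1]
    have h2 : J.ideal i.1 ^ s.sup n ≤ J.ideal i.1 ^ n i.1 :=
      Ideal.pow_le_pow_right (Finset.le_sup i.2)
    rw [hn i.1] at h2
    exact h2.trans bot_le

theorem isAffine_of_isNilpotent (ht : Function.Surjective t) [IsAffine X]
    (h : ∀ U : X'.affineOpens, IsNilpotent (t.ker.ideal U)) : IsAffine X' := by
  have : CompactSpace X' := ht.compactSpace t.continuous
  obtain ⟨n, hn⟩ := exists_pow_eq_bot_of_isNilpotent t.ker h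
  exact isAffine_of_ker_pow_eq_bot t ht n hn

end Groth.Agent.Lib.Helper20.ThickAffine
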