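import Groth.Agent.Lib.Helper20.AdicHom
import Groth.Agent.Lib.Helper83.CompleteNoeth

/-!
Levels of an adic system of thickenings over a locally Noetherian `X_0` are locally Noetherian.
-/

universe u

open CategoryTheory CategoryTheory.Limits AlgebraicGeometry

namespace Groth.Agent.Lib.Helper20

open AlgebraicGeometry.Scheme

/-- A ring is adically complete with respect to a nilpotent ideal. -/
theorem isAdicComplete_of_pow_eq_bot {A : Type*} [CommRing A] (J : Ideal A) (m : ℕ)
    (h : J ^ m = ⊥) : IsAdicComplete J A where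
  haus' x hx := by
    have := hx m
    rwa [h, Submodule.bot_smul, SModEq.bot] at this
  prec' f hf := by
    refine ⟨f m, fun k => ?_⟩
    by_cases hk : k ≤ m
    · exact hf hk
    · have hk' : m ≤ k := by omega
      have h1 := hf hk'
      rw [h, Submodule.bot_smul, SModEq.bot] at h1
      rw [h1]

/-- A ring with a nilpotent ideal `J` such that `A ⧸ J ^ 2` is Noetherian is Noetherian. -/
theorem isNoetherianRing_of_pow_eq_bot_of_quotient_sq {A : Type*} [CommRing A] (J : Ideal A)
    (m : ℕ) (h : J ^ m = ⊥) [IsNoetherianRing (A ⧸ J ^ 2)] : IsNoetherianRing A := by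
  have := isAdicComplete_of_pow_eq_bot J m h
  exact Groth.Agent.Lib.Helper83.isNoetherianRing_of_isAdicComplete_of_quotient_sq J

/-- A ring with a nilpotent finitely generated ideal `J` such that `A ⧸ J` is Noetherian is
Noetherian. -/
theorem isNoetherianRing_of_pow_eq_bot_of_fg {A : Type*} [CommRing A] (J : Ideal A)
    (m : ℕ) (h : J ^ m = ⊥) (hJ : J.FG) [IsNoetherianRing (A ⧸ J)] : IsNoetherianRing A := by
  have := isAdicComplete_of_pow_eq_bot J m h
  exact Groth.Agent.Lib.Helper83.isNoetherianRing_of_isAdicComplete J hJ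

/-- Pulling back the kernel of a closed immersion along itself gives zero. -/
theorem ker_comap_self {Z X : Scheme.{u}} (i : Z ⟶ X) [IsClosedImmersion i] :
    i.ker.comap i = ⊥ := by
  rw [← IdealSheafData.map_bot, comap_map_of_isClosedImmersion]

section

variable (𝔛 : FSch.Sys.{u}) (hF : 𝔛.IsFormal) (hA : 𝔛.IsAdic)

include hF in
theorem ker_toX_succ_comap (n : ℕ) :
    (𝔛.toX (n + 1)).ker.comap (𝔛.ι n) = (𝔛.toX n).ker := by
  have := (hF n).1
  change (𝔛.toX n ≫ 𝔛.ι n).ker.comap (𝔛.ι n) = _
  rw [← IdealSheafData.map_ker, comap_map_of_isClosedImmersion]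

include hF hA in
/-- In an adic system of thickenings, the `(n+1)`-st power of the ideal of `X_0` in `X_n` is
zero. -/
theorem ker_toX_pow_eq_bot (n : ℕ) : (𝔛.toX n).ker ^ (n + 1) = ⊥ := by
  have := (hF n).1
  rw [← ker_toX_succ_comap 𝔛 hF n, ← comap_pow, ← hA n, ker_comap_self]

include hF hA in
/-- Levels of an adic system of thickenings with `X_0` locally Noetherian and first ideal of
finite type are locally Noetherian. -/
theorem isLocallyNoetherian_level [IsLocallyNoetherian (𝔛.X 0)]
    (hft : FSch.IdealFT (𝔛.ι 0).ker) (n : ℕ) : IsLocallyNoetherian (𝔛.X n) := by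
  induction n with
  | zero => infer_instance
  | succ n ih =>
    have hci := (hF n).1
    refine ⟨fun U => ?_⟩
    set J : Ideal Γ(𝔛.X (n + 1), U.1) := (𝔛.toX (n + 1)).ker.ideal U with hJ
    have hJpow : J ^ (n + 2) = ⊥ := by
      have := congrArg (fun K => IdealSheafData.ideal K U) (ker_toX_pow_eq_bot 𝔛 hF hA (n + 1))
      simpa using this
    have hsurj : Function.Surjective ((𝔛.ι n).app U.1).hom := (𝔛.ι n).app_surjective U.1 U.2
    have hker : RingHom.ker ((𝔛.ι n).app U.1).hom = J ^ (n + 1) := by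
      rw [← Scheme.Hom.ker_apply, hA n]
      simp [hJ]
    have hC : IsNoetherianRing Γ(𝔛.X n, (𝔛.ι n) ⁻¹ᵁ U.1) :=
      IsLocallyNoetherian.component_noetherian ⟨_, U.2.preimage (𝔛.ι n)⟩
    have hq : IsNoetherianRing (Γ(𝔛.X (n + 1), U.1) ⧸ J ^ (n + 1)) :=
      isNoetherianRing_of_ringEquiv _
        ((RingHom.quotientKerEquivOfSurjective hsurj).symm.trans (Ideal.quotEquivOfEq hker))
    rcases Nat.eq_zero_or_pos n with rfl | hn
    · -- level 1
      have hfg : J.FG := by
        have h1 := hft U
        have h2 : (𝔛.ι 0).ker = (𝔛.toX (0 + 1)).ker := by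
          change _ = (𝟙 _ ≫ 𝔛.ι 0).ker
          rw [Category.id_comp]
        rw [h2] at h1
        exact h1
      have hq' : IsNoetherianRing (Γ(𝔛.X (0 + 1), U.1) ⧸ J) :=
        isNoetherianRing_of_ringEquiv _ (Ideal.quotEquivOfEq (pow_one J))
      exact isNoetherianRing_of_pow_eq_bot_of_fg J 2 hJpow hfg
    · have hle : J ^ (n + 1) ≤ J ^ 2 := Ideal.pow_le_pow_right (by omega)
      have : IsNoetherianRing (Γ(𝔛.X (n + 1), U.1) ⧸ J ^ 2) :=
        isNoetherianRing_of_surjective _ _ (Ideal.Quotient.factor hle)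
          (Ideal.Quotient.factor_surjective hle)
      exact isNoetherianRing_of_pow_eq_bot_of_quotient_sq J (n + 2) hJpow

end

end Groth.Agent.Lib.Helper20
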