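import Groth.Agent.Lib.Helper7.ThickBridge
import Groth.Agent.Lib.Helper20.ThickAffine2
import Groth.Agent.Lib.Helper20.ThickNoeth

/-!
# Lifting affine / finite / closed immersion along finite-order thickenings of the base (helper20)

For a cartesian square `iX ≫ f' = f ≫ iS` with `iS` a surjective closed immersion with nilpotent
kernel: `f` affine ⇒ `f'` affine, `f` finite ⇒ `f'` finite, `f` closed immersion ⇒ `f'` closed
immersion.  Applications to adic morphisms of systems of thickenings.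
-/

set_option autoImplicit false
universe u

open CategoryTheory CategoryTheory.Limits AlgebraicGeometry

namespace Groth.Agent.Lib.Helper20.ThickLift

open Groth.Agent.Lib.Helper7.ThickRing Groth.Agent.Lib.Helper7.ThickBridge

section pushout

variable {A' B' A B : CommRingCat.{u}} {φ' : A' ⟶ B'} {π : A' ⟶ A} {ψ : B' ⟶ B} {φ : A ⟶ B}

/-- Surjectivity lifts along a nilpotent thickening of the base. -/
theorem surjective_of_isPushout (h : IsPushout φ' π ψ φ)
    (hπ : Function.Surjective π.hom) (hnil : IsNilpotent (RingHom.ker π.hom))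
    (hφ : Function.Surjective φ.hom) : Function.Surjective φ'.hom := by
  obtain ⟨hψ, hkerψ⟩ := surjective_and_ker_of_isPushout h hπ
  have hw : ∀ x, ψ.hom (φ'.hom x) = φ.hom (π.hom x) := fun x => by
    have := congr($(h.w).hom x)
    simpa using this
  algebraize [φ'.hom]
  have hsup : LinearMap.range (Algebra.linearMap A' B') ⊔
      (RingHom.ker π.hom) • (⊤ : Submodule A' B') = ⊤ := by
    rw [eq_top_iff]
    intro b _
    obtain ⟨a, ha⟩ := hφ (ψ.hom b)
    obtain ⟨a', rfl⟩ := hπ a
    have hmem : b - φ'.hom a' ∈ RingHom.ker ψ.hom := by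
      rw [RingHom.mem_ker, map_sub, hw, ha, sub_self]
    rw [hkerψ] at hmem
    have hmem' : b - φ'.hom a' ∈ (RingHom.ker π.hom) • (⊤ : Submodule A' B') := by
      have := Ideal.smul_top_eq_map (R := A') (S := B') (RingHom.ker π.hom)
      rw [this]
      exact hmem
    have : b = φ'.hom a' + (b - φ'.hom a') := by ring
    rw [this]
    exact Submodule.add_mem_sup ⟨a', rfl⟩ hmem'
  have htop := eq_top_of_sup_smul_top_eq_top_of_isNilpotent _ _ hnil hsup
  intro b
  have hb : b ∈ LinearMap.range (Algebra.linearMap A' B') := by rw [htop]; trivial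
  obtain ⟨a, ha⟩ := hb
  exact ⟨a, ha⟩

/-- Finiteness lifts along a nilpotent thickening of the base. -/
theorem finite_of_isPushout (h : IsPushout φ' π ψ φ)
    (hπ : Function.Surjective π.hom) (hnil : IsNilpotent (RingHom.ker π.hom))
    (hφ : φ.hom.Finite) : φ'.hom.Finite := by
  classical
  obtain ⟨hψ, hkerψ⟩ := surjective_and_ker_of_isPushout h hπ
  have hw : ∀ x, ψ.hom (φ'.hom x) = φ.hom (π.hom x) := fun x => by
    have := congr($(h.w).hom x)
    simpa using this
  algebraize [φ'.hom, φ.hom]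
  obtain ⟨s, hs⟩ := (inferInstance : Module.Finite A B).fg_top
  choose t ht using fun b : B => hψ b
  let s' : Finset B' := s.image t
  let N : Submodule A' B' := Submodule.span A' (s' : Set B')
  suffices hN : N = ⊤ by
    show Module.Finite A' B'
    exact ⟨⟨s', hN⟩⟩
  have himg : ∀ b : B, ∃ c ∈ N, ψ.hom c = b := by
    intro b
    have hb : b ∈ Submodule.span A (s : Set B) := by rw [hs]; trivial
    induction hb using Submodule.span_induction with
    | mem x hx =>
      refine ⟨t x, Submodule.subset_span ?_, ht x⟩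
      exact Finset.mem_coe.mpr (Finset.mem_image_of_mem t hx)
    | zero => exact ⟨0, N.zero_mem, map_zero _⟩
    | add x y _ _ hx hy =>
      obtain ⟨c, hc, rfl⟩ := hx
      obtain ⟨c', hc', rfl⟩ := hy
      exact ⟨c + c', N.add_mem hc hc', map_add _ _ _⟩
    | smul r x _ hx =>
      obtain ⟨c, hc, rfl⟩ := hx
      obtain ⟨r', rfl⟩ := hπ r
      refine ⟨r' • c, N.smul_mem r' hc, ?_⟩
      rw [Algebra.smul_def, map_mul, Algebra.smul_def]
      congr 1
      exact hw r'
  have hsup : N ⊔ (RingHom.ker π.hom) • (⊤ : Submodule A' B') = ⊤ := by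
    rw [eq_top_iff]
    intro b _
    obtain ⟨c, hc, hcb⟩ := himg (ψ.hom b)
    have hmem : b - c ∈ RingHom.ker ψ.hom := by
      rw [RingHom.mem_ker, map_sub, hcb, sub_self]
    rw [hkerψ] at hmem
    have hmem' : b - c ∈ (RingHom.ker π.hom) • (⊤ : Submodule A' B') := by
      have := Ideal.smul_top_eq_map (R := A') (S := B') (RingHom.ker π.hom)
      rw [this]
      exact hmem
    have : b = c + (b - c) := by ring
    rw [this]
    exact Submodule.add_mem_sup hc hmem'
  exact eq_top_of_sup_smul_top_eq_top_of_isNilpotent _ _ hnil hsup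

end pushout

section scheme

variable {X X' S S' : Scheme.{u}} {iX : X ⟶ X'} {iS : S ⟶ S'} {f : X ⟶ S} {f' : X' ⟶ S'}

theorem presheaf_map_bijective_of_eq {Y : Scheme.{u}} {U V : Y.Opens} (h : U = V) (e : U ≤ V) :
    Function.Bijective (Y.presheaf.map (homOfLE e).op) := by
  subst h
  have h1 : homOfLE e = 𝟙 U := rfl
  have h2 : IsIso (Y.presheaf.map (homOfLE e).op) := by
    rw [h1, op_id, Y.presheaf.map_id]; infer_instance
  exact ConcreteCategory.bijective_of_isIso _

theorem preimage_eq_of_isPullback (hc : IsPullback iX f f' iS) (V' : S'.Opens) :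
    iX ⁻¹ᵁ (f' ⁻¹ᵁ V') = f ⁻¹ᵁ (iS ⁻¹ᵁ V') := by
  rw [← Scheme.Hom.comp_preimage, ← Scheme.Hom.comp_preimage, hc.w]

/-- Affineness lifts along a finite order thickening of the base. -/
theorem isAffineHom_of_isPullback (hc : IsPullback iX f f' iS) [IsClosedImmersion iS]
    (hsurj : Function.Surjective iS) (hnil : IsNilpotent iS.ker) [IsAffineHom f] :
    IsAffineHom f' := by
  have hiX : IsClosedImmersion iX := MorphismProperty.of_isPullback hc.flip ‹_›
  have hsX : Function.Surjective iX :=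
    (Groth.Agent.Lib.Helper20.closedImmersion_surjective_of_isPullback hc ⟨‹_›, hsurj⟩).2
  obtain ⟨n, hn⟩ := isNilpotent_ker_of_isPullback hc hnil
  exact ThickAffine.isAffineHom_of_square iX hsX n (fun U => by
      have h1 : iX.ker.ideal U ^ n = (iX.ker ^ n).ideal U := rfl
      rw [h1, hn]; rfl) iS f f' hc.w

/-- Finiteness lifts along a finite order thickening of the base. -/
theorem isFinite_of_isPullback (hc : IsPullback iX f f' iS) [IsClosedImmersion iS]
    (hsurj : Function.Surjective iS) (hnil : IsNilpotent iS.ker) [IsFinite f] :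
    IsFinite f' := by
  have := isAffineHom_of_isPullback hc hsurj hnil
  rw [isFinite_iff]
  refine ⟨‹_›, fun V' hV' => ?_⟩
  have hU' : IsAffineOpen (f' ⁻¹ᵁ V') := hV'.preimage f'
  have hpo := isPushout_appLE hc V' hV' (f' ⁻¹ᵁ V') hU' le_rfl
  rw [← Scheme.Hom.app_eq_appLE] at hpo
  refine finite_of_isPushout hpo (iS.app_surjective V' hV')
    (isNilpotent_ker_app iS hnil V' hV') ?_
  rw [Scheme.Hom.appLE, CommRingCat.hom_comp]
  refine RingHom.Finite.comp ?_ (f.finite_app _ (hV'.preimage iS))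
  exact RingHom.Finite.of_surjective _
    (presheaf_map_bijective_of_eq (preimage_eq_of_isPullback hc V') _).2

/-- Being a closed immersion lifts along a finite order thickening of the base. -/
theorem isClosedImmersion_of_isPullback (hc : IsPullback iX f f' iS) [IsClosedImmersion iS]
    (hsurj : Function.Surjective iS) (hnil : IsNilpotent iS.ker) [IsClosedImmersion f] :
    IsClosedImmersion f' := by
  have := isAffineHom_of_isPullback hc hsurj hnil
  rw [isClosedImmersion_iff_isAffineHom]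
  refine ⟨‹_›, fun V' hV' => ?_⟩
  have hU' : IsAffineOpen (f' ⁻¹ᵁ V') := hV'.preimage f'
  have hpo := isPushout_appLE hc V' hV' (f' ⁻¹ᵁ V') hU' le_rfl
  rw [← Scheme.Hom.app_eq_appLE] at hpo
  refine surjective_of_isPushout hpo (iS.app_surjective V' hV')
    (isNilpotent_ker_app iS hnil V' hV') ?_
  rw [Scheme.Hom.appLE, CommRingCat.hom_comp]
  exact (presheaf_map_bijective_of_eq (preimage_eq_of_isPullback hc V') _).2.comp
    (f.app_surjective _ (hV'.preimage iS))

end scheme

section fsch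

theorem surjective_toX (𝔜 : FSch.Sys.{u}) (hF : 𝔜.IsFormal) (n : ℕ) :
    Function.Surjective (𝔜.toX n) := by
  induction n with
  | zero => exact fun y => ⟨y, rfl⟩
  | succ n ih =>
    intro y
    obtain ⟨z, rfl⟩ := (hF n).2 y
    obtain ⟨w, rfl⟩ := ih z
    exact ⟨w, rfl⟩

theorem isNilpotent_ker_toX (𝔜 : FSch.Sys.{u}) (hF : 𝔜.IsFormal) (hA : 𝔜.IsAdic) (n : ℕ) :
    IsNilpotent (𝔜.toX n).ker :=
  ⟨n + 1, Groth.Agent.Lib.Helper20.ker_toX_pow_eq_bot 𝔜 hF hA n⟩

variable {𝔛 𝔜 : FSch.Sys.{u}} (f : 𝔛 ⟶ 𝔜)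

theorem isFinite_app_of_isAdicHom (hF : 𝔜.IsFormal) (hA : 𝔜.IsAdic) (hf : FSch.IsAdicHom f)
    [IsFinite ((f : FSch.Hom 𝔛 𝔜).app 0)] (n : ℕ) : IsFinite ((f : FSch.Hom 𝔛 𝔜).app n) := by
  have := Groth.Agent.Lib.Helper20.isClosedImmersion_toX hF n
  exact isFinite_of_isPullback (Groth.Agent.Lib.Helper20.isPullback_toX f hf n)
    (surjective_toX 𝔜 hF n) (isNilpotent_ker_toX 𝔜 hF hA n)

theorem isClosedImmersion_app_of_isAdicHom (hF : 𝔜.IsFormal) (hA : 𝔜.IsAdic)
    (hf : FSch.IsAdicHom f) [IsClosedImmersion ((f : FSch.Hom 𝔛 𝔜).app 0)] (n : ℕ) :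
    IsClosedImmersion ((f : FSch.Hom 𝔛 𝔜).app n) := by
  have := Groth.Agent.Lib.Helper20.isClosedImmersion_toX hF n
  exact isClosedImmersion_of_isPullback (Groth.Agent.Lib.Helper20.isPullback_toX f hf n)
    (surjective_toX 𝔜 hF n) (isNilpotent_ker_toX 𝔜 hF hA n)

theorem isAffineHom_app_of_isAdicHom (hF : 𝔜.IsFormal) (hA : 𝔜.IsAdic)
    (hf : FSch.IsAdicHom f) [IsAffineHom ((f : FSch.Hom 𝔛 𝔜).app 0)] (n : ℕ) :
    IsAffineHom ((f : FSch.Hom 𝔛 𝔜).app n) := by
  have := Groth.Agent.Lib.Helper20.isClosedImmersion_toX hF n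
  exact isAffineHom_of_isPullback (Groth.Agent.Lib.Helper20.isPullback_toX f hf n)
    (surjective_toX 𝔜 hF n) (isNilpotent_ker_toX 𝔜 hF hA n)

end fsch

end Groth.Agent.Lib.Helper20.ThickLift
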