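import Groth.Prelude.Def_FSch2
import Groth.Agent.Lib.Helper20.FormalSys
import Groth.Agent.Lib.Helper20.ThickLift
import Groth.Agent.Lib.Helper78.AlgSpInfSq
import Groth.Agent.S1488

/-!
# Pullback of a completion system and lifting of morphisms to smooth schemes (helper20)

* `pbSys g 𝒥`: the system `n ↦ U ×_S V(𝒥^(n+1))` for `g : U ⟶ S`, with its adic morphism `pbHom`
  to `FSch.completionAlong S 𝒥`.
* `exists_lift_of_smooth`: a smooth morphism has the lifting property against closed immersions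
  of square zero into an affine scheme.
-/

set_option autoImplicit false
universe u

open CategoryTheory CategoryTheory.Limits AlgebraicGeometry

namespace Groth.Agent.Lib.Helper20.SmoothFormalLift

section pb

variable {U S : Scheme.{u}} (g : U ⟶ S) (𝒥 : S.IdealSheafData)

/-- The pullback of the completion system of `S` along `𝒥` to `U`. -/
noncomputable def pbSys : FSch.Sys.{u} where
  X n := pullback g (FSch.completionToX S 𝒥 n)
  ι n := pullback.map g (FSch.completionToX S 𝒥 n) g (FSch.completionToX S 𝒥 (n + 1)) (𝟙 U)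
    ((FSch.completionAlong S 𝒥).ι n) (𝟙 S) (by simp)
    (by
      rw [Category.comp_id]
      exact (Scheme.IdealSheafData.inclusion_subschemeι (FSch.pow_succ_le S 𝒥 n)).symm)

/-- The projection of the pulled back system to the completion system. -/
noncomputable def pbHom : pbSys g 𝒥 ⟶ FSch.completionAlong S 𝒥 :=
  (⟨fun n => pullback.snd g (FSch.completionToX S 𝒥 n), fun n => by
    simp only [pbSys, pullback.map]
    rw [pullback.lift_snd]⟩ : FSch.Hom (pbSys g 𝒥) (FSch.completionAlong S 𝒥))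

@[simp]
theorem pbHom_app (n : ℕ) :
    (pbHom g 𝒥 : FSch.Hom _ _).app n = pullback.snd g (FSch.completionToX S 𝒥 n) := rfl

theorem pbSys_ι_fst (n : ℕ) :
    (pbSys g 𝒥).ι n ≫ pullback.fst g (FSch.completionToX S 𝒥 (n + 1)) =
      pullback.fst g (FSch.completionToX S 𝒥 n) := by
  simp only [pbSys, pullback.map]
  rw [pullback.lift_fst, Category.comp_id]

theorem pbSys_ι_snd (n : ℕ) :
    (pbSys g 𝒥).ι n ≫ pullback.snd g (FSch.completionToX S 𝒥 (n + 1)) =
      pullback.snd g (FSch.completionToX S 𝒥 n) ≫ (FSch.completionAlong S 𝒥).ι n := by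
  simp only [pbSys, pullback.map]
  rw [pullback.lift_snd]

theorem isAdicHom_pbHom : FSch.IsAdicHom (pbHom g 𝒥) := by
  intro n
  have hright : IsPullback (pullback.fst g (FSch.completionToX S 𝒥 (n + 1)))
      (pullback.snd g (FSch.completionToX S 𝒥 (n + 1))) g (FSch.completionToX S 𝒥 (n + 1)) :=
    IsPullback.of_hasPullback _ _
  have hbig : IsPullback ((pbSys g 𝒥).ι n ≫ pullback.fst g (FSch.completionToX S 𝒥 (n + 1)))
      (pullback.snd g (FSch.completionToX S 𝒥 n)) g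
      ((FSch.completionAlong S 𝒥).ι n ≫ FSch.completionToX S 𝒥 (n + 1)) := by
    rw [pbSys_ι_fst]
    have h1 : (FSch.completionAlong S 𝒥).ι n ≫ FSch.completionToX S 𝒥 (n + 1) =
        FSch.completionToX S 𝒥 n :=
      Scheme.IdealSheafData.inclusion_subschemeι (FSch.pow_succ_le S 𝒥 n)
    rw [h1]
    exact IsPullback.of_hasPullback _ _
  exact IsPullback.of_right hbig (pbSys_ι_snd g 𝒥 n) hright

instance smooth_pbHom_app [Smooth g] (n : ℕ) : Smooth ((pbHom g 𝒥 : FSch.Hom _ _).app n) := by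
  rw [pbHom_app]
  exact MorphismProperty.pullback_snd (P := @Smooth) _ _ ‹_›

instance isClosedImmersion_fst (n : ℕ) :
    IsClosedImmersion (pullback.fst g (FSch.completionToX S 𝒥 n)) :=
  MorphismProperty.pullback_fst (P := @IsClosedImmersion) _ _
    (inferInstanceAs (IsClosedImmersion (𝒥 ^ (n + 1)).subschemeι))

instance isAffine_pbSys [IsAffine U] (n : ℕ) : IsAffine ((pbSys g 𝒥).X n) :=
  show IsAffine (pullback g (FSch.completionToX S 𝒥 n)) from
    isAffine_of_isAffineHom (pullback.fst g (FSch.completionToX S 𝒥 n))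

instance isClosedImmersion_pbSys_ι (n : ℕ) : IsClosedImmersion ((pbSys g 𝒥).ι n) := by
  have := ((Groth.Agent.Lib.Helper20.completionAlong_isFormal S 𝒥) n).1
  exact MorphismProperty.of_isPullback (isAdicHom_pbHom g 𝒥 n).flip this

end pb

section sqzero

open Groth.Agent.Lib.Helper7.ThickRing Groth.Agent.Lib.Helper7.ThickBridge

/-- The base change of a closed immersion whose kernel has `n`-th power zero has the same
property. -/
theorem ker_pow_eq_bot_of_isPullback {T T₀ S S' : Scheme.{u}} {j : T₀ ⟶ T} {p : T₀ ⟶ S}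
    {h : T ⟶ S'} {iS : S ⟶ S'} (hp : IsPullback j p h iS) [IsClosedImmersion iS] (n : ℕ)
    (hn : iS.ker ^ n = ⊥) : j.ker ^ n = ⊥ := by
  have hj : IsClosedImmersion j := MorphismProperty.of_isPullback hp.flip ‹_›
  rw [← le_bot_iff]
  refine Scheme.IdealSheafData.le_of_iSup_eq_top
    (ι := {W : T.affineOpens // ∃ V' : S'.affineOpens, W.1 ≤ h ⁻¹ᵁ V'.1}) (fun W => W.1) ?_ ?_
  · rw [eq_top_iff]
    intro t _
    obtain ⟨_, ⟨V', hV', rfl⟩, htV', -⟩ :=
      S'.isBasis_affineOpens.exists_subset_of_mem_open (Set.mem_univ (h t)) isOpen_univ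
    obtain ⟨_, ⟨W, hW, rfl⟩, htW, hWV⟩ :=
      T.isBasis_affineOpens.exists_subset_of_mem_open (show t ∈ h ⁻¹ᵁ V' from htV')
        (h ⁻¹ᵁ V').isOpen
    exact TopologicalSpace.Opens.mem_iSup.mpr ⟨⟨⟨W, hW⟩, ⟨V', hV'⟩, hWV⟩, htW⟩
  · rintro ⟨W, V', e⟩
    have hpo := isPushout_appLE hp V'.1 V'.2 W.1 W.2 e
    obtain ⟨-, hker⟩ := Groth.Agent.Lib.Helper7.ThickRing.surjective_and_ker_of_isPushout hpo
      (iS.app_surjective V'.1 V'.2)
    have h1 : (j.ker ^ n).ideal W = (j.ker.ideal W) ^ n := rfl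
    have h2 : (iS.ker ^ n).ideal V' = (iS.ker.ideal V') ^ n := rfl
    rw [hn] at h2
    rw [h1, Scheme.Hom.ker_apply, hker, ← Ideal.map_pow, ← Scheme.Hom.ker_apply, ← h2]
    change Ideal.map _ ⊥ ≤ ⊥
    rw [Ideal.map_bot]

theorem completionAlong_ι_ker_sq {S : Scheme.{u}} (𝒥 : S.IdealSheafData) (n : ℕ) :
    ((FSch.completionAlong S 𝒥).ι n).ker ^ 2 = ⊥ := by
  have hF := Groth.Agent.Lib.Helper20.completionAlong_isFormal S 𝒥
  have hA := Groth.Agent.Lib.Helper20.completionAlong_isAdic S 𝒥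
  have h1 := Groth.Agent.Lib.Helper20.ker_toX_pow_eq_bot (FSch.completionAlong S 𝒥) hF hA (n + 1)
  rw [hA n, ← pow_mul]
  have h2 : (n + 1) * 2 = (n + 1 + 1) + n := by ring
  rw [h2, pow_add, h1]
  exact zero_mul _

theorem pbSys_ι_ker_mul {U S : Scheme.{u}} (g : U ⟶ S) (𝒥 : S.IdealSheafData) (n : ℕ) :
    ((pbSys g 𝒥).ι n).ker * ((pbSys g 𝒥).ι n).ker = ⊥ := by
  have := ((Groth.Agent.Lib.Helper20.completionAlong_isFormal S 𝒥) n).1
  rw [← pow_two]
  exact ker_pow_eq_bot_of_isPullback (isAdicHom_pbHom g 𝒥 n) 2 (completionAlong_ι_ker_sq 𝒥 n)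

end sqzero

section lift

open Groth.Agent.Lib.Helper78

/-- A smooth morphism has the lifting property against closed immersions of square zero into
affine schemes. -/
theorem exists_lift_of_smooth {V T N N₀ : Scheme.{u}} (f : V ⟶ T) [Smooth f] (κ : N₀ ⟶ N)
    [IsAffine N] [IsClosedImmersion κ] (hsq : κ.ker * κ.ker = ⊥) (a₁ : N₀ ⟶ V) (b : N ⟶ T)
    (comm : a₁ ≫ f = κ ≫ b) : ∃ ℓ : N ⟶ V, κ ≫ ℓ = a₁ ∧ ℓ ≫ f = b := by
  let W : Over T := Over.mk b
  let W₀ : Over T := Over.mk (κ ≫ b)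
  let k : W₀ ⟶ W := Over.homMk κ rfl
  haveI : IsAffine W.left := ‹IsAffine N›
  haveI : IsClosedImmersion k.left := ‹IsClosedImmersion κ›
  obtain ⟨A, _, I, hI, str, ΨW, ΨW₀, hΨ⟩ := AlgSpInfSq.exists_standard_form k hsq
  have hfs := ((Groth.Agent.S1488.result f).mp ‹_›).2
  have hΨl : ΨW₀.hom.left ≫ Spec.map (CommRingCat.ofHom (Ideal.Quotient.mk I)) =
      κ ≫ ΨW.hom.left := congrArg CommaMorphism.left hΨ
  have hW1 : ΨW.hom.left ≫ str = b := Over.w ΨW.hom
  have hW2 : ΨW.inv.left ≫ b = str := Over.w ΨW.inv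
  have hΨ' : (Over.homMk (Spec.map (CommRingCat.ofHom (Ideal.Quotient.mk I))) rfl :
        Over.mk (Spec.map (CommRingCat.ofHom (Ideal.Quotient.mk I)) ≫ str) ⟶ Over.mk str) ≫
      ΨW.inv = ΨW₀.inv ≫ k := by
    rw [Iso.eq_inv_comp, ← Category.assoc, Iso.comp_inv_eq]
    exact hΨ
  have hΨl' : Spec.map (CommRingCat.ofHom (Ideal.Quotient.mk I)) ≫ ΨW.inv.left =
      ΨW₀.inv.left ≫ κ := congrArg CommaMorphism.left hΨ'
  obtain ⟨l, hl1, hl2⟩ := hfs A I hI (ΨW₀.inv.left ≫ a₁) str (by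
    rw [Category.assoc, comm, ← Category.assoc, ← hΨl', Category.assoc, hW2])
  refine ⟨ΨW.hom.left ≫ l, ?_, ?_⟩
  · have h1 : ΨW₀.hom.left ≫ ΨW₀.inv.left = 𝟙 N₀ := by
      rw [← Over.comp_left, Iso.hom_inv_id]; rfl
    rw [← Category.assoc, ← hΨl, Category.assoc, hl1, ← Category.assoc, h1]
    exact Category.id_comp a₁
  · rw [Category.assoc, hl2, hW1]

end lift

end Groth.Agent.Lib.Helper20.SmoothFormalLift
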