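import Groth.Agent.Lib.Helper20.SmoothFormalLift
import Groth.Agent.Lib.Helper27.LiftStdSmooth

/-!
# Local lifting of smooth schemes along a closed immersion of the base (helper20)

`exists_smooth_lift`: for a closed immersion `i₀ : S₀ ⟶ S`, a smooth `a : X₀ ⟶ S₀` and a point
`x`, some open neighbourhood `U₀` of `x` (inside a prescribed one) is the base change to `S₀` of a
smooth affine `S`-scheme `U`.
-/

set_option autoImplicit false
universe u

open CategoryTheory CategoryTheory.Limits AlgebraicGeometry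

namespace Groth.Agent.Lib.Helper20.SmoothFormalLift

/-- A commutative square of rings with surjective `ρ`, `π` and `ker π = (ker ρ) B` is a pushout. -/
theorem isPushout_of_surjective_of_ker {R R₀ B A₀ : CommRingCat.{u}} (α : R ⟶ B) (ρ : R ⟶ R₀)
    (π : B ⟶ A₀) (φ₀ : R₀ ⟶ A₀) (w : α ≫ π = ρ ≫ φ₀) (hρ : Function.Surjective ρ.hom)
    (hπ : Function.Surjective π.hom)
    (hker : RingHom.ker π.hom = (RingHom.ker ρ.hom).map α.hom) : IsPushout α ρ π φ₀ := by
  have hw : ∀ r, π.hom (α.hom r) = φ₀.hom (ρ.hom r) := fun r => by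
    have := congr($(w).hom r)
    simpa using this
  have hle : ∀ s : PushoutCocone α ρ, RingHom.ker π.hom ≤ RingHom.ker s.inl.hom := by
    intro s
    rw [hker, Ideal.map_le_iff_le_comap]
    intro r hr
    rw [RingHom.mem_ker] at hr
    rw [Ideal.mem_comap, RingHom.mem_ker]
    have h1 : s.inl.hom (α.hom r) = s.inr.hom (ρ.hom r) := by
      have := congr($(s.condition).hom r)
      simpa using this
    rw [h1, hr, map_zero]
  refine ⟨⟨w⟩, ⟨PushoutCocone.IsColimit.mk _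
    (fun s => CommRingCat.ofHom (π.hom.liftOfSurjective hπ ⟨s.inl.hom, hle s⟩)) ?_ ?_ ?_⟩⟩
  · intro s
    ext b
    exact RingHom.liftOfSurjective_comp_apply _ hπ _ b
  · intro s
    ext y
    obtain ⟨r, rfl⟩ := hρ y
    have h1 : s.inl.hom (α.hom r) = s.inr.hom (ρ.hom r) := by
      have := congr($(s.condition).hom r)
      simpa using this
    change (π.hom.liftOfSurjective hπ ⟨s.inl.hom, hle s⟩) (φ₀.hom (ρ.hom r)) = _
    rw [← hw, RingHom.liftOfSurjective_comp_apply, ← h1]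
  · intro s m hm1 _
    ext y
    obtain ⟨b, rfl⟩ := hπ y
    change m.hom (π.hom b) = (π.hom.liftOfSurjective hπ ⟨s.inl.hom, hle s⟩) (π.hom b)
    rw [RingHom.liftOfSurjective_comp_apply]
    have := congr($(hm1).hom b)
    simpa using this

open RingHom in
/-- Standard smooth affine charts inside a prescribed open neighbourhood. -/
theorem exists_stdSmooth_of_smooth_le {X S : Scheme.{u}} (f : X ⟶ S) [hf : Smooth f] (x : X)
    (V : S.Opens) (hV : IsAffineOpen V) (hxV : f x ∈ V) (O : X.Opens) (hxO : x ∈ O) :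
    ∃ (U : X.Opens) (_ : IsAffineOpen U) (_ : x ∈ U) (_ : U ≤ O) (e : U ≤ f ⁻¹ᵁ V),
        (f.appLE V U e).hom.IsStandardSmooth := by
  have : HasRingHomProperty @Smooth.{u} (Locally IsStandardSmooth) := by
    convert! (inferInstance : HasRingHomProperty (@Smooth.{u}) RingHom.Smooth)
    ext f
    rw [RingHom.smooth_iff_locally_isStandardSmooth]
  obtain ⟨V', hV', hx, e⟩ := TopologicalSpace.Opens.isBasis_iff_nbhd.mp X.isBasis_affineOpens
    (show x ∈ O ⊓ f ⁻¹ᵁ V from ⟨hxO, hxV⟩)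
  have e1 : V' ≤ f ⁻¹ᵁ V := e.trans inf_le_right
  have e2 : V' ≤ O := e.trans inf_le_left
  have hf' := (HasRingHomProperty.iff_appLE (P := @Smooth)).mp hf ⟨V, hV⟩ ⟨V', hV'⟩ e1
  rw [locally_iff_isLocalization isStandardSmooth_respectsIso] at hf'
  obtain ⟨s, hs, hfs⟩ := hf'
  apply iSup_basicOpen_of_span_eq_top at hs
  have : x ∈ (⨆ i ∈ s, X.basicOpen i) := hs.symm ▸ hx
  have : ∃ r ∈ s, x ∈ X.basicOpen r := by simpa using this
  obtain ⟨r, hr, hrs⟩ := this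
  refine ⟨X.basicOpen r, hV'.basicOpen r, hrs, (X.basicOpen_le r).trans e2,
    (X.basicOpen_le r).trans e1, ?_⟩
  rw [← f.appLE_map e1 (homOfLE (X.basicOpen_le r)).op]
  have : IsLocalization.Away r Γ(X, X.basicOpen r) := hV'.isLocalization_basicOpen r
  exact hfs r hr _

/-- **Local lifting of smooth schemes along a closed immersion of the base.** -/
theorem exists_smooth_lift {S S₀ X₀ : Scheme.{u}} (i₀ : S₀ ⟶ S) [IsClosedImmersion i₀]
    (a : X₀ ⟶ S₀) [Smooth a] (x : X₀) (O : X₀.Opens) (hxO : x ∈ O) :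
    ∃ (U₀ : X₀.Opens) (_ : x ∈ U₀) (_ : U₀ ≤ O) (U : Scheme.{u}) (_ : IsAffine U) (g : U ⟶ S)
      (_ : Smooth g) (j : U₀.toScheme ⟶ U), IsPullback j (U₀.ι ≫ a) g i₀ := by
  obtain ⟨_, ⟨W, hW, rfl⟩, hsW, -⟩ := S.isBasis_affineOpens.exists_subset_of_mem_open
    (Set.mem_univ (i₀ (a x))) isOpen_univ
  have hW₀ : IsAffineOpen (i₀ ⁻¹ᵁ W) := hW.preimage i₀
  obtain ⟨U₀, hU₀, hxU₀, hU₀O, e, hstd⟩ :=
    exists_stdSmooth_of_smooth_le a x (i₀ ⁻¹ᵁ W) hW₀ hsW O hxO
  have hρ : Function.Surjective (i₀.app W).hom := i₀.app_surjective W hW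
  let I : Ideal Γ(S, W) := RingHom.ker (i₀.app W).hom
  let ε : Γ(S, W) ⧸ I ≃+* Γ(S₀, i₀ ⁻¹ᵁ W) := RingHom.quotientKerEquivOfSurjective hρ
  let ψ : Γ(S, W) ⧸ I →+* Γ(X₀, U₀) := (a.appLE (i₀ ⁻¹ᵁ W) U₀ e).hom.comp ε.toRingHom
  have hψ : ψ.IsStandardSmooth := RingHom.isStandardSmooth_respectsIso.2 _ ε hstd
  letI : Algebra (Γ(S, W) ⧸ I) Γ(X₀, U₀) := ψ.toAlgebra
  haveI : Algebra.IsStandardSmooth (Γ(S, W) ⧸ I) Γ(X₀, U₀) := hψ
  obtain ⟨B, _, _, hB, π, hπ, hπalg, hkerπ⟩ :=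
    Groth.Agent.Lib.Helper27.LiftStdSmooth.liftSS I (Bb := Γ(X₀, U₀))
  have hw : ∀ r, π (algebraMap Γ(S, W) B r) = (a.appLE (i₀ ⁻¹ᵁ W) U₀ e).hom ((i₀.app W).hom r) := by
    intro r
    rw [hπalg]
    rfl
  have hpo : IsPushout (CommRingCat.ofHom (algebraMap Γ(S, W) B)) (i₀.app W)
      (CommRingCat.ofHom π) (a.appLE (i₀ ⁻¹ᵁ W) U₀ e) := by
    refine isPushout_of_surjective_of_ker _ _ _ _ ?_ hρ hπ hkerπ
    ext r
    exact hw r
  have h1 := isPullback_SpecMap_of_isPushout _ _ _ _ hpo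
  have h2 : IsPullback (Spec.map (i₀.app W)) hW₀.fromSpec hW.fromSpec i₀ := by
    refine IsOpenImmersion.isPullback _ _ _ _ ?_ ?_
    · rw [Scheme.Hom.app_eq_appLE]
      exact (IsAffineOpen.SpecMap_appLE_fromSpec i₀ hW hW₀ le_rfl).symm
    · rw [hW.opensRange_fromSpec, hW₀.opensRange_fromSpec]
  have h3 := h1.paste_vert h2
  rw [IsAffineOpen.SpecMap_appLE_fromSpec a hW₀ hU₀ e] at h3
  have h4 : IsPullback hU₀.isoSpec.hom (U₀.ι ≫ a) (hU₀.fromSpec ≫ a) (𝟙 S₀) :=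
    IsPullback.of_horiz_isIso ⟨by
      rw [Category.comp_id, ← Category.assoc, IsAffineOpen.isoSpec_hom_fromSpec]⟩
  have h5 := h4.paste_horiz h3
  rw [Category.id_comp] at h5
  have hsm : Smooth (Spec.map (CommRingCat.ofHom (algebraMap Γ(S, W) B)) ≫ hW.fromSpec) := by
    have h6 : Smooth (Spec.map (CommRingCat.ofHom (algebraMap Γ(S, W) B))) := by
      rw [HasRingHomProperty.Spec_iff (P := @Smooth)]
      exact RingHom.smooth_algebraMap.mpr inferInstance
    infer_instance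
  exact ⟨U₀, hxU₀, hU₀O, Spec (CommRingCat.of B), inferInstance, _, hsm, _, h5⟩

end Groth.Agent.Lib.Helper20.SmoothFormalLift
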