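import Groth.Agent.Lib.Helper20.AdicHom
import Mathlib.RingTheory.Ideal.Quotient.PowTransition
import Mathlib.RingTheory.Spectrum.Prime.Topology
import Mathlib.RingTheory.Spectrum.Prime.RingHom

/-!
The formal spectrum `FSch.spf A I` as a system of thickenings.
-/

universe u

open CategoryTheory CategoryTheory.Limits AlgebraicGeometry

namespace Groth.Agent.Lib.Helper20

open AlgebraicGeometry.Scheme

/-- Global sections of the kernel ideal sheaf of `Spec.map θ`. -/
theorem ker_Spec_map_ideal_top {R S : CommRingCat.{u}} (θ : R ⟶ S) :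
    (Spec.map θ).ker.ideal ⟨⊤, isAffineOpen_top _⟩ =
      (RingHom.ker θ.hom).comap (Scheme.ΓSpecIso R).hom.hom := by
  rw [Scheme.Hom.ker_apply]
  ext x
  simp only [RingHom.mem_ker, Ideal.mem_comap]
  have h := congrArg (fun g => g.hom x) (Scheme.ΓSpecIso_naturality θ)
  simp only [CommRingCat.hom_comp, RingHom.comp_apply] at h
  change (Spec.map θ).appTop.hom x = 0 ↔ _
  rw [← h]
  constructor
  · intro hx
    rw [hx, map_zero]
  · intro hx
    have hinj : Function.Injective (Scheme.ΓSpecIso S).hom.hom :=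
      (ConcreteCategory.bijective_of_isIso (Scheme.ΓSpecIso S).hom).1
    exact hinj (by rw [hx, map_zero])

theorem comap_hom_eq_map_inv {A B : CommRingCat.{u}} (e : A ≅ B) (I : Ideal B) :
    I.comap e.hom.hom = I.map e.inv.hom :=
  comap_inv_eq_map_hom e.symm I

/-- A surjective ring map with nil kernel induces a surjection on prime spectra. -/
theorem Spec_map_surjective_of_nil {R S : CommRingCat.{u}} (θ : R ⟶ S)
    (hs : Function.Surjective θ.hom) (hk : RingHom.ker θ.hom ≤ nilradical R) :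
    Function.Surjective (Spec.map θ).base := by
  change Function.Surjective (PrimeSpectrum.comap θ.hom)
  rw [← Set.range_eq_univ, _root_.range_comap_of_surjective _ _ hs,
    PrimeSpectrum.zeroLocus_eq_univ_iff]
  exact hk

/-- Global sections of `FSch.idealSpec`. -/
theorem idealSpec_ideal_top (A : Type u) [CommRing A] (J : Ideal A) :
    (FSch.idealSpec A J).ideal ⟨⊤, isAffineOpen_top _⟩ =
      J.map (Scheme.ΓSpecIso (CommRingCat.of A)).inv.hom := by
  rw [FSch.idealSpec, ker_Spec_map_ideal_top, comap_hom_eq_map_inv]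
  congr 1
  exact Ideal.mk_ker

/-- Pullback of `idealSpec` along `Spec.map`. -/
theorem comap_idealSpec_Spec_map (A B : Type u) [CommRing A] [CommRing B] (φ : B →+* A)
    (𝔟 : Ideal B) :
    (FSch.idealSpec B 𝔟).comap (Spec.map (CommRingCat.ofHom φ)) = FSch.idealSpec A (𝔟.map φ) := by
  apply IdealSheafData.ext_of_isAffine
  rw [ideal_comap_top_of_isAffine, idealSpec_ideal_top, idealSpec_ideal_top, Ideal.map_map,
    Ideal.map_map]
  congr 1
  have := Scheme.ΓSpecIso_inv_naturality (CommRingCat.ofHom φ)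
  have h2 := congrArg CommRingCat.Hom.hom this
  simp only [CommRingCat.hom_comp, CommRingCat.hom_ofHom] at h2
  exact h2.symm

/-- The kernel ideal sheaf of `Spec.map θ` is the ideal sheaf of `ker θ`. -/
theorem ker_Spec_map_eq_idealSpec {R : Type u} [CommRing R] {S : CommRingCat.{u}}
    (θ : CommRingCat.of R ⟶ S) :
    (Spec.map θ).ker = FSch.idealSpec R (RingHom.ker θ.hom) := by
  apply IdealSheafData.ext_of_isAffine
  rw [ker_Spec_map_ideal_top, idealSpec_ideal_top, comap_hom_eq_map_inv]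

theorem idealSpec_injective (A : Type u) [CommRing A] :
    Function.Injective (FSch.idealSpec A) := by
  intro J₁ J₂ h
  have h1 := congrArg (fun K => K.ideal ⟨⊤, isAffineOpen_top _⟩) h
  simp only [idealSpec_ideal_top] at h1
  have h2 := congrArg (Ideal.map (Scheme.ΓSpecIso (CommRingCat.of A)).hom.hom) h1
  rw [Ideal.map_map, Ideal.map_map] at h2
  have h3 : (Scheme.ΓSpecIso (CommRingCat.of A)).hom.hom.comp
      (Scheme.ΓSpecIso (CommRingCat.of A)).inv.hom = RingHom.id _ := by
    rw [← CommRingCat.hom_comp]; simp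
  rw [h3] at h2
  simpa using h2

section spf

variable (A : Type u) [CommRing A] (I : Ideal A)

theorem pow_le_pow_one' (n : ℕ) : I ^ (n + 1) ≤ I ^ (0 + 1) :=
  Ideal.pow_le_pow_right (by omega)

theorem spf_toX (n : ℕ) : (FSch.spf A I).toX n =
    Spec.map (CommRingCat.ofHom (Ideal.Quotient.factor (pow_le_pow_one' A I n))) := by
  induction n with
  | zero =>
    change 𝟙 _ = _
    have : Ideal.Quotient.factor (pow_le_pow_one' A I 0) = RingHom.id _ := by
      ext x; simp
    rw [this]
    exact (Spec.map_id _).symm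
  | succ n ih =>
    have h : (FSch.spf A I).toX (n + 1) = (FSch.spf A I).toX n ≫ (FSch.spf A I).ι n := rfl
    rw [h, ih]
    change Spec.map _ ≫ Spec.map _ = _
    rw [← Spec.map_comp, ← CommRingCat.ofHom_comp, Ideal.Quotient.factor_comp]

theorem spf_isFormal : (FSch.spf A I).IsFormal := by
  intro n
  have hle : I ^ (n + 2) ≤ I ^ (n + 1) := Ideal.pow_le_pow_right (Nat.le_succ (n + 1))
  change IsClosedImmersion (Spec.map (CommRingCat.ofHom (Ideal.Quotient.factor hle))) ∧
    Function.Surjective (Spec.map (CommRingCat.ofHom (Ideal.Quotient.factor hle))).base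
  refine ⟨?_, ?_⟩
  · exact IsClosedImmersion.spec_of_surjective _ (Ideal.Quotient.factor_surjective hle)
  · apply Spec_map_surjective_of_nil _ (Ideal.Quotient.factor_surjective hle)
    intro x hx
    change x ∈ RingHom.ker (Ideal.Quotient.factor hle) at hx
    rw [Ideal.Quotient.factor_ker] at hx
    rw [mem_nilradical]
    refine ⟨2, ?_⟩
    have h2 : x ^ 2 ∈ (Ideal.map (Ideal.Quotient.mk (I ^ (n + 2))) (I ^ (n + 1))) ^ 2 :=
      Ideal.pow_mem_pow hx 2
    rw [← Ideal.map_pow, ← pow_mul] at h2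
    have h3 : Ideal.map (Ideal.Quotient.mk (I ^ (n + 2))) (I ^ ((n + 1) * 2)) = ⊥ := by
      rw [Ideal.map_eq_bot_iff_le_ker, Ideal.mk_ker]
      exact Ideal.pow_le_pow_right (by omega)
    rw [h3] at h2
    exact h2

theorem spf_isAdic : (FSch.spf A I).IsAdic := by
  intro n
  have hle : I ^ (n + 2) ≤ I ^ (n + 1) := Ideal.pow_le_pow_right (Nat.le_succ (n + 1))
  rw [spf_toX]
  change (Spec.map (CommRingCat.ofHom (Ideal.Quotient.factor hle))).ker =
    (Spec.map (CommRingCat.ofHom (Ideal.Quotient.factor (pow_le_pow_one' A I (n + 1))))).ker ^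
      (n + 1)
  apply IdealSheafData.ext_of_isAffine
  rw [IdealSheafData.ideal_pow, Pi.pow_apply, ker_Spec_map_ideal_top, ker_Spec_map_ideal_top,
    comap_hom_eq_map_inv, comap_hom_eq_map_inv, ← Ideal.map_pow]
  congr 1
  change RingHom.ker (Ideal.Quotient.factor hle) =
    RingHom.ker (Ideal.Quotient.factor (pow_le_pow_one' A I (n + 1))) ^ (n + 1)
  rw [Ideal.Quotient.factor_ker, Ideal.Quotient.factor_ker, ← Ideal.map_pow, ← pow_mul]
  simp

theorem spf_isLocNoethFormal [IsNoetherianRing A] : (FSch.spf A I).IsLocNoethFormal := by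
  refine ⟨spf_isFormal A I, spf_isAdic A I, fun n => ?_⟩
  change IsLocallyNoetherian (Spec (CommRingCat.of (A ⧸ I ^ (n + 1))))
  infer_instance

theorem spf_key {B : Type u} [CommRing B] (K : Ideal B) (φ : B →+* A)
    (h : K ≤ I.comap φ) (n : ℕ) (hleB : K ^ (n + 2) ≤ K ^ (n + 1))
    (hleA : I ^ (n + 2) ≤ I ^ (n + 1)) :
    (Spec.map (CommRingCat.ofHom (Ideal.Quotient.factor hleB))).ker.comap
      (Spec.map (CommRingCat.ofHom (FSch.quotPowMap I K φ h (n + 1)))) =
      (Spec.map (CommRingCat.ofHom (Ideal.Quotient.factor hleA))).ker ↔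
      ((K.map φ) ^ (n + 1)).map (Ideal.Quotient.mk (I ^ (n + 2))) =
        (I ^ (n + 1)).map (Ideal.Quotient.mk (I ^ (n + 2))) := by
  have e1 : (Spec.map (CommRingCat.ofHom (Ideal.Quotient.factor hleB))).ker =
      FSch.idealSpec (B ⧸ K ^ (n + 2)) (RingHom.ker (Ideal.Quotient.factor hleB)) :=
    ker_Spec_map_eq_idealSpec (R := B ⧸ K ^ (n + 2))
      (CommRingCat.ofHom (Ideal.Quotient.factor hleB))
  have e2 : (Spec.map (CommRingCat.ofHom (Ideal.Quotient.factor hleA))).ker =
      FSch.idealSpec (A ⧸ I ^ (n + 2)) (RingHom.ker (Ideal.Quotient.factor hleA)) :=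
    ker_Spec_map_eq_idealSpec (R := A ⧸ I ^ (n + 2))
      (CommRingCat.ofHom (Ideal.Quotient.factor hleA))
  rw [e1, e2, comap_idealSpec_Spec_map]
  rw [(idealSpec_injective _).eq_iff, Ideal.Quotient.factor_ker, Ideal.Quotient.factor_ker,
    Ideal.map_map]
  have e3 : (FSch.quotPowMap I K φ h (n + 1)).comp (Ideal.Quotient.mk (K ^ (n + 2))) =
      (Ideal.Quotient.mk (I ^ (n + 2))).comp φ := by
    ext b; rfl
  rw [e3, ← Ideal.map_map, Ideal.map_pow]

/-- Criterion for `spfMap` to be adic, in terms of ideals. -/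
theorem isAdicHom_spfMap_iff_forall {B : Type u} [CommRing B] (K : Ideal B) (φ : B →+* A)
    (h : K ≤ I.comap φ) :
    FSch.IsAdicHom (FSch.spfMap I K φ h) ↔
      ∀ n : ℕ, ((K.map φ) ^ (n + 1)).map (Ideal.Quotient.mk (I ^ (n + 2))) =
        (I ^ (n + 1)).map (Ideal.Quotient.mk (I ^ (n + 2))) := by
  have key : ∀ n : ℕ, ((FSch.spf B K).ι n).ker.comap
      ((FSch.spfMap I K φ h : FSch.Hom _ _).app (n + 1)) = ((FSch.spf A I).ι n).ker ↔
      ((K.map φ) ^ (n + 1)).map (Ideal.Quotient.mk (I ^ (n + 2))) =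
        (I ^ (n + 1)).map (Ideal.Quotient.mk (I ^ (n + 2))) := fun n =>
    spf_key A I K φ h n (Ideal.pow_le_pow_right (Nat.le_succ (n + 1)))
      (Ideal.pow_le_pow_right (Nat.le_succ (n + 1)))
  constructor
  · intro hadic n
    rw [← key n]
    have := (spf_isFormal B K n).1
    exact (ker_fst_of_isPullback (hadic n)).symm
  · intro hall n
    have h1 := (spf_isFormal B K n).1
    have h2 := (spf_isFormal A I n).1
    exact isPullback_of_isClosedImmersion _ _ _ _
      ((FSch.spfMap I K φ h : FSch.Hom _ _).comm n).symm ((key n).mpr (hall n))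

end spf

end Groth.Agent.Lib.Helper20
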