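import Groth.Agent.Lib.Helper20.StalkSub

universe u

namespace Groth.Agent.Lib.Helper20.StalkSub

open FSch

variable (A : Type u) [CommRing A] (J : Ideal A) (𝔭 : Ideal A) [𝔭.IsPrime]

/-- The image of `A` in `A{S⁻¹}` lies in the stalk ring. -/
theorem algebraMap_mem_stalkSubring (a : A) :
    algebraMap (Localization.AtPrime 𝔭) (cAtPrime A J 𝔭) (algebraMap A (Localization.AtPrime 𝔭) a) ∈
      stalkSubring A J 𝔭 := by
  have h1 : (1 : A) ∉ 𝔭 := fun h => (Ideal.IsPrime.ne_top inferInstance)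
    ((Ideal.eq_top_iff_one 𝔭).mpr h)
  refine (mem_stalkSubring_iff A J 𝔭 _).mpr ⟨1, h1,
    AdicCompletion.of _ _ (algebraMap A (Localization.Away (1 : A)) a), ?_⟩
  unfold cAwayToAtPrime
  rw [complMap_of, awayToAtPrime_algebraMap]
  rfl

theorem evalOneₐ_algebraMap {R : Type u} [CommRing R] (I : Ideal R) (r : R) :
    AdicCompletion.evalOneₐ I (algebraMap R (AdicCompletion I R) r) = Ideal.Quotient.mk I r := by
  rw [AlgHom.commutes]
  rfl

section Residue

variable [IsLocalRing (cAtPrime A J 𝔭)]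

theorem sub_algebraMap_mem_maximalIdeal (hJ : J ≤ 𝔭) (x : cAtPrime A J 𝔭)
    (w : Localization.AtPrime 𝔭)
    (hw : AdicCompletion.evalOneₐ _ x = Ideal.Quotient.mk _ w) :
    x - algebraMap (Localization.AtPrime 𝔭) (cAtPrime A J 𝔭) w ∈
      IsLocalRing.maximalIdeal (cAtPrime A J 𝔭) := by
  rw [IsLocalRing.mem_maximalIdeal, mem_nonunits_iff]
  intro hu
  have h1 : IsUnit (AdicCompletion.evalOneₐ (J.map (algebraMap A (Localization.AtPrime 𝔭)))
      (x - algebraMap (Localization.AtPrime 𝔭) (cAtPrime A J 𝔭) w)) := hu.map _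
  rw [map_sub, evalOneₐ_algebraMap, hw, sub_self] at h1
  have hle := map_le_maximalIdeal A J 𝔭 hJ
  have hne : J.map (algebraMap A (Localization.AtPrime 𝔭)) ≠ ⊤ :=
    fun h => (IsLocalRing.maximalIdeal.isMaximal _).ne_top (top_le_iff.mp (h ▸ hle))
  have : Nontrivial (Localization.AtPrime 𝔭 ⧸ J.map (algebraMap A (Localization.AtPrime 𝔭))) :=
    Ideal.Quotient.nontrivial_iff.mpr hne
  exact not_isUnit_zero h1

theorem residueField_map_algebraMap_bijective (hJ : J ≤ 𝔭)
    [IsLocalHom (algebraMap (Localization.AtPrime 𝔭) (cAtPrime A J 𝔭))] :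
    Function.Bijective (IsLocalRing.ResidueField.map
      (algebraMap (Localization.AtPrime 𝔭) (cAtPrime A J 𝔭))) := by
  refine ⟨RingHom.injective _, ?_⟩
  intro xbar
  obtain ⟨x, rfl⟩ := IsLocalRing.residue_surjective xbar
  obtain ⟨w, hw⟩ := Ideal.Quotient.mk_surjective (AdicCompletion.evalOneₐ _ x)
  refine ⟨IsLocalRing.residue _ w, ?_⟩
  rw [IsLocalRing.ResidueField.map_residue]
  have := sub_algebraMap_mem_maximalIdeal A J 𝔭 hJ x w hw.symm
  rw [← IsLocalRing.residue_eq_zero_iff, map_sub, sub_eq_zero] at this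
  exact this.symm

theorem residueField_map_subtype_bijective (hJ : J ≤ 𝔭)
    [IsLocalRing (stalkSubring A J 𝔭)] [IsLocalHom (stalkSubring A J 𝔭).subtype] :
    Function.Bijective (IsLocalRing.ResidueField.map (stalkSubring A J 𝔭).subtype) := by
  refine ⟨RingHom.injective _, ?_⟩
  intro xbar
  obtain ⟨x, rfl⟩ := IsLocalRing.residue_surjective xbar
  obtain ⟨w, hw⟩ := Ideal.Quotient.mk_surjective (AdicCompletion.evalOneₐ _ x)
  have hx := sub_algebraMap_mem_maximalIdeal A J 𝔭 hJ x w hw.symm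
  rw [← IsLocalRing.residue_eq_zero_iff, map_sub, sub_eq_zero] at hx
  obtain ⟨⟨a, s⟩, hws⟩ := IsLocalization.surj 𝔭.primeCompl w
  let α : stalkSubring A J 𝔭 := ⟨_, algebraMap_mem_stalkSubring A J 𝔭 a⟩
  let σ : stalkSubring A J 𝔭 := ⟨_, algebraMap_mem_stalkSubring A J 𝔭 s.1⟩
  have hσ : IsUnit σ := by
    apply isUnit_of_map_unit (stalkSubring A J 𝔭).subtype
    change IsUnit (algebraMap (Localization.AtPrime 𝔭) (cAtPrime A J 𝔭)
      (algebraMap A (Localization.AtPrime 𝔭) s.1))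
    exact (IsLocalization.map_units (Localization.AtPrime 𝔭) s).map _
  obtain ⟨v, hv⟩ := hσ
  refine ⟨IsLocalRing.residue _ (α * ↑v⁻¹), ?_⟩
  rw [IsLocalRing.ResidueField.map_residue, hx]
  congr 1
  have h1 : (stalkSubring A J 𝔭).subtype (α * ↑v⁻¹) * (stalkSubring A J 𝔭).subtype σ =
      (stalkSubring A J 𝔭).subtype α := by
    rw [← map_mul, ← hv, mul_assoc, Units.inv_mul, mul_one]
  have h2 : algebraMap (Localization.AtPrime 𝔭) (cAtPrime A J 𝔭) w *
      (stalkSubring A J 𝔭).subtype σ = (stalkSubring A J 𝔭).subtype α := by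
    change algebraMap (Localization.AtPrime 𝔭) (cAtPrime A J 𝔭) w *
      algebraMap (Localization.AtPrime 𝔭) (cAtPrime A J 𝔭)
        (algebraMap A (Localization.AtPrime 𝔭) s.1) =
      algebraMap (Localization.AtPrime 𝔭) (cAtPrime A J 𝔭)
        (algebraMap A (Localization.AtPrime 𝔭) a)
    rw [← map_mul]
    exact congrArg _ hws
  have hu : IsUnit ((stalkSubring A J 𝔭).subtype σ) := by
    rw [← hv]; exact v.isUnit.map _
  exact hu.mul_left_injective (h1.trans h2.symm)

end Residue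

end Groth.Agent.Lib.Helper20.StalkSub
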