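import Groth.Agent.Lib.Helper20.StalkSub2
import Groth.Agent.Lib.Helper83.FlatCompl

universe u

namespace Groth.Agent.Lib.Helper20.StalkSub

open FSch

variable (A : Type u) [CommRing A] (J : Ideal A) (𝔭 : Ideal A) [𝔭.IsPrime]

theorem powers_le_primeCompl (f : A) (hf : f ∉ 𝔭) : Submonoid.powers f ≤ 𝔭.primeCompl := by
  rw [Submonoid.powers_le]
  exact hf

theorem flat_awayToAtPrime (f : A) (hf : f ∉ 𝔭) : (awayToAtPrime A 𝔭 f hf).Flat := by
  let _ : Algebra (Localization.Away f) (Localization.AtPrime 𝔭) :=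
    (awayToAtPrime A 𝔭 f hf).toAlgebra
  have : IsScalarTower A (Localization.Away f) (Localization.AtPrime 𝔭) :=
    IsScalarTower.of_algebraMap_eq (fun a => (awayToAtPrime_algebraMap A 𝔭 f hf a).symm)
  have hloc := IsLocalization.isLocalization_of_submonoid_le (Localization.Away f)
    (Localization.AtPrime 𝔭) (Submonoid.powers f) 𝔭.primeCompl (powers_le_primeCompl A 𝔭 f hf)
  exact IsLocalization.flat (Localization.AtPrime 𝔭)
    (𝔭.primeCompl.map (algebraMap A (Localization.Away f)))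

theorem range_le_range_of_dvd (f g : A) (hf : f ∉ 𝔭) (hg : g ∉ 𝔭) (h : f ∣ g) :
    (cAwayToAtPrime A J 𝔭 f hf).range ≤ (cAwayToAtPrime A J 𝔭 g hg).range := by
  rintro _ ⟨y, rfl⟩
  exact ⟨cAwayMap A J f g (IsLocalization.Away.isUnit_of_dvd g h) y,
    cAwayToAtPrime_cAwayMap A J 𝔭 f g hf hg _ y⟩

/-- Finitely many elements of the stalk ring come from a common `A_{g}`. -/
theorem exists_common_range {l : ℕ} (f : Fin l → stalkSubring A J 𝔭) :
    ∃ (g : A) (hg : g ∉ 𝔭), ∀ i, (f i).1 ∈ (cAwayToAtPrime A J 𝔭 g hg).range := by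
  choose g hg hy using fun i => (mem_stalkSubring_iff A J 𝔭 (f i).1).mp (f i).2
  have hG : (∏ i, g i) ∉ 𝔭 := by
    rw [Ideal.IsPrime.prod_mem_iff]
    rintro ⟨i, -, hi⟩
    exact hg i hi
  refine ⟨∏ i, g i, hG, fun i => ?_⟩
  exact range_le_range_of_dvd A J 𝔭 (g i) _ (hg i) hG
    (Finset.dvd_prod_of_mem g (Finset.mem_univ i)) (hy i)

variable [IsNoetherianRing A]

theorem flat_cAwayToAtPrime (f : A) (hf : f ∉ 𝔭) : (cAwayToAtPrime A J 𝔭 f hf).Flat :=
  Groth.Agent.Lib.Helper83.FlatCompl.flat_of_map_adicCompletion _ _ (awayToAtPrime A 𝔭 f hf)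
    (map_awayToAtPrime_le A J 𝔭 f hf) (flat_awayToAtPrime A 𝔭 f hf) _
    (fun a => complMap_of _ _ _ _ a)


theorem flat_stalkSubring : Module.Flat (stalkSubring A J 𝔭) (cAtPrime A J 𝔭) := by
  rw [Module.Flat.iff_forall_isTrivialRelation]
  intro l f x hfx
  obtain ⟨g, hg, hy⟩ := exists_common_range A J 𝔭 f
  choose y hy using hy
  have hflat := flat_cAwayToAtPrime A J 𝔭 g hg
  let _ : Algebra (cAway A J g) (cAtPrime A J 𝔭) := (cAwayToAtPrime A J 𝔭 g hg).toAlgebra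
  have hflat' : Module.Flat (cAway A J g) (cAtPrime A J 𝔭) := hflat
  have hrel : ∑ i, y i • x i = 0 := by
    rw [← hfx]
    refine Finset.sum_congr rfl fun i _ => ?_
    change cAwayToAtPrime A J 𝔭 g hg (y i) * x i = (f i).1 * x i
    rw [hy i]
  have htriv : Module.IsTrivialRelation y x :=
    Module.Flat.isTrivialRelation_of_sum_smul_eq_zero hrel
  obtain ⟨k, a, z, hxz, haz⟩ := htriv
  have hmem : ∀ i j, cAwayToAtPrime A J 𝔭 g hg (a i j) ∈ stalkSubring A J 𝔭 :=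
    fun i j => (mem_stalkSubring_iff A J 𝔭 _).mpr ⟨g, hg, _, rfl⟩
  let a' : Fin l → Fin k → stalkSubring A J 𝔭 := fun i j => ⟨_, hmem i j⟩
  have h1 : ∀ i, x i = ∑ j, a' i j • z j := by
    intro i
    rw [hxz i]
    exact Finset.sum_congr rfl fun j _ => rfl
  have h2 : ∀ j, ∑ i, f i * a' i j = 0 := by
    intro j
    apply Subtype.ext
    have h3 := congrArg (cAwayToAtPrime A J 𝔭 g hg) (haz j)
    rw [map_sum, map_zero] at h3
    rw [ZeroMemClass.coe_zero, ← h3]
    change (stalkSubring A J 𝔭).subtype (∑ i, f i * a' i j) = _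
    rw [map_sum]
    refine Finset.sum_congr rfl fun i _ => ?_
    rw [map_mul, map_mul, hy i]
    rfl
  exact ⟨k, a', z, h1, h2⟩


theorem faithfullyFlat_stalkSubring (hJ : J ≤ 𝔭) :
    Module.FaithfullyFlat (stalkSubring A J 𝔭) (cAtPrime A J 𝔭) := by
  have h1 := isLocalRing_stalkSubring A J 𝔭 hJ
  have h2 := isLocalRing_cAtPrime A J 𝔭 hJ
  have h3 := flat_stalkSubring A J 𝔭
  have h4 : IsLocalHom (algebraMap (stalkSubring A J 𝔭) (cAtPrime A J 𝔭)) :=
    isLocalHom_subtype A J 𝔭 hJ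
  exact Module.FaithfullyFlat.of_flat_of_isLocalHom

end Groth.Agent.Lib.Helper20.StalkSub
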