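import Groth.Agent.Lib.Helper20.StalkSub3
import Groth.Agent.Lib.Helper3.FlatDescent

universe u

namespace Groth.Agent.Lib.Helper20.StalkSub

open FSch TensorProduct

variable (A : Type u) [CommRing A] [IsNoetherianRing A] (J : Ideal A) (𝔭 : Ideal A) [𝔭.IsPrime]

theorem isNoetherianRing_cAtPrime : IsNoetherianRing (cAtPrime A J 𝔭) :=
  Groth.Agent.Lib.Helper83.isNoetherianRing_adicCompletion _

theorem isNoetherianRing_stalkSubring (hJ : J ≤ 𝔭) : IsNoetherianRing (stalkSubring A J 𝔭) := by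
  have hff := faithfullyFlat_stalkSubring A J 𝔭 hJ
  have hN : IsNoetherianRing (cAtPrime A J 𝔭) := isNoetherianRing_cAtPrime A J 𝔭
  have hN' : IsNoetherian (cAtPrime A J 𝔭) (cAtPrime A J 𝔭) := hN
  have h : IsNoetherian (cAtPrime A J 𝔭)
      ((cAtPrime A J 𝔭) ⊗[stalkSubring A J 𝔭] (stalkSubring A J 𝔭)) :=
    isNoetherian_of_linearEquiv
      (Algebra.TensorProduct.rid (stalkSubring A J 𝔭) (cAtPrime A J 𝔭)
        (cAtPrime A J 𝔭)).symm.toLinearEquiv
  exact Submodule.IsNoetherian.of_isNoetherian_tensorProduct_of_faithfullyFlat h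

theorem flat_algebraMap_cAtPrime :
    Module.Flat (Localization.AtPrime 𝔭) (cAtPrime A J 𝔭) := inferInstance

end Groth.Agent.Lib.Helper20.StalkSub
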