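import Groth.Agent.Lib.Helper20.AnnIdeal
import Groth.Agent.Lib.Helper7.ThickMono
import Groth.Agent.Lib.QCoh.Helper50_FinitePush

/-!
# Support proper over the base ⇔ pushforward from a proper closed subscheme (helper20)
-/

universe u

open CategoryTheory CategoryTheory.Limits AlgebraicGeometry Opposite TopologicalSpace
open Groth.Agent.Lib.QCoh Scheme.Modules

namespace Groth.Agent.Lib.Helper20.SuppProper

open Groth.Agent.Lib.Helper20.AnnIdeal Groth.Agent.Lib.Helper20.ThickAffine

theorem isProper_of_comp_thickening {A B C : Scheme.{u}} (j : A ⟶ B) (g : B ⟶ C)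
    [IsClosedImmersion j] [Surjective j] [LocallyOfFiniteType g] [IsProper (j ≫ g)] :
    IsProper g :=
  { toIsSeparated := Groth.Agent.Lib.Helper7.ThickMono.isSeparated_of_comp_thickening j g
    toUniversallyClosed := UniversallyClosed.of_comp_surjective j g
    toLocallyOfFiniteType := inferInstance }

theorem lift_surjective {Z₁ Z₂ X : Scheme.{u}} (i₁ : Z₁ ⟶ X) (i₂ : Z₂ ⟶ X)
    [IsClosedImmersion i₁] [IsClosedImmersion i₂] (H : i₁.ker ≤ i₂.ker)
    (hr : Set.range i₁ ⊆ Set.range i₂) :
    Function.Surjective (IsClosedImmersion.lift i₁ i₂ H) := by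
  intro z
  obtain ⟨w, hw⟩ := hr ⟨z, rfl⟩
  refine ⟨w, ?_⟩
  apply i₁.isEmbedding.injective
  rw [← hw, ← Scheme.Hom.comp_apply, IsClosedImmersion.lift_fac]

variable {X : Scheme.{u}}

/-- The pullback of a quasi-coherent module of finite type killed by the kernel of the closed
immersion is of finite type. -/
theorem isFiniteType_pullback_of_isIso_unit {Z : Scheme.{u}} (i : Z ⟶ X) [IsClosedImmersion i]
    (F : X.Modules) [F.IsQuasicoherent] [F.IsFiniteType] [IsIso (η i F)] :
    ((Scheme.Modules.pullback i).obj F).IsFiniteType := by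
  have hGq : ((Scheme.Modules.pullback i).obj F).IsQuasicoherent := isQuasicoherent_pullback i F
  have hpft : ((Scheme.Modules.pushforward i).obj
      ((Scheme.Modules.pullback i).obj F)).IsFiniteType :=
    isFiniteType_of_iso (asIso (η i F))
  exact isFiniteType_of_pushforward_isAffineHom i _

theorem isClosed_support (F : X.Modules) [F.IsQuasicoherent] [F.IsFiniteType] :
    IsClosed (CohB1.support F) := by
  rw [← annIdeal_support F]
  exact (annIdeal F).support.isClosed

theorem annIdeal_le_vanishingIdeal (F : X.Modules) [F.IsQuasicoherent] [F.IsFiniteType] :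
    annIdeal F ≤ Scheme.IdealSheafData.vanishingIdeal ⟨CohB1.support F, isClosed_support F⟩ := by
  rw [← Scheme.IdealSheafData.le_support_iff_le_vanishingIdeal]
  intro x hx
  show x ∈ ((annIdeal F).support : Set X)
  rw [annIdeal_support F]
  exact hx

/-- The kernel of a closed immersion kills every pushforward. -/
theorem ker_le_annIdeal_of_iso {Z : Scheme.{u}} (i : Z ⟶ X) [IsClosedImmersion i]
    (F : X.Modules) [F.IsQuasicoherent] [F.IsFiniteType] (G : Z.Modules)
    (e : (Scheme.Modules.pushforward i).obj G ≅ F) : i.ker ≤ annIdeal F := by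
  intro U a ha
  rw [Scheme.Hom.ker_apply] at ha
  rw [annIdeal_ideal, Module.mem_annihilator]
  intro m
  have hsurj : Function.Surjective (e.hom.app U.1) := by
    intro y
    refine ⟨e.inv.app U.1 y, ?_⟩
    have : (e.inv ≫ e.hom).app U.1 y = y := by rw [e.inv_hom_id]; rfl
    exact this
  obtain ⟨m', rfl⟩ := hsurj m
  rw [← Hom.app_smul]
  have h0 : a • m' = 0 := by
    let m'' : Γ(G, i ⁻¹ᵁ U.1) := m'
    have h1 : a • m' = ((i.app U.1).hom a) • m'' := rfl
    rw [h1]
    have h2 : (i.app U.1).hom a = 0 := ha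
    rw [h2, zero_smul]
    rfl
  rw [h0, map_zero]

end Groth.Agent.Lib.Helper20.SuppProper
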