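import Groth.Agent.Lib.Helper20.FormalSys

/-!
Pullback squares in the category of systems `FSch.Sys` can be checked levelwise.
-/

universe u

open CategoryTheory CategoryTheory.Limits AlgebraicGeometry

namespace Groth.Agent.Lib.Helper20

theorem isPullback_of_levelwise {𝔚 𝔛 𝔜 𝔖 : FSch.Sys.{u}} (a : 𝔚 ⟶ 𝔛) (b : 𝔚 ⟶ 𝔜) (f : 𝔛 ⟶ 𝔖)
    (g : 𝔜 ⟶ 𝔖)
    (h : ∀ n, IsPullback ((a : FSch.Hom _ _).app n) ((b : FSch.Hom _ _).app n)
      ((f : FSch.Hom _ _).app n) ((g : FSch.Hom _ _).app n)) :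
    IsPullback a b f g := by
  have hw : a ≫ f = b ≫ g := by
    apply FSch.Hom.ext
    funext n
    exact (h n).w
  refine ⟨⟨hw⟩, ⟨PullbackCone.IsLimit.mk hw
    (fun s => (⟨fun n => (h n).lift ((s.fst : FSch.Hom _ _).app n) ((s.snd : FSch.Hom _ _).app n)
        (congrArg (fun h : FSch.Hom _ _ => h.app n) s.condition), fun n => ?_⟩ : FSch.Hom _ _))
    (fun s => ?_) (fun s => ?_) (fun s m h1 h2 => ?_)⟩⟩
  · apply (h (n + 1)).hom_ext
    · have h1 := (s.fst : FSch.Hom _ _).comm n
      have h2 := (a : FSch.Hom _ _).comm n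
      rw [Category.assoc, ← h2, IsPullback.lift_fst_assoc, Category.assoc, IsPullback.lift_fst]
      exact h1
    · have h1 := (s.snd : FSch.Hom _ _).comm n
      have h2 := (b : FSch.Hom _ _).comm n
      rw [Category.assoc, ← h2, IsPullback.lift_snd_assoc, Category.assoc, IsPullback.lift_snd]
      exact h1
  · apply FSch.Hom.ext
    funext n
    exact (h n).lift_fst _ _ _
  · apply FSch.Hom.ext
    funext n
    exact (h n).lift_snd _ _ _
  · apply FSch.Hom.ext
    funext n
    apply (h n).hom_ext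
    · rw [IsPullback.lift_fst]
      exact congrArg (fun h : FSch.Hom _ _ => h.app n) h1
    · rw [IsPullback.lift_snd]
      exact congrArg (fun h : FSch.Hom _ _ => h.app n) h2

end Groth.Agent.Lib.Helper20
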