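import Groth.Agent.Lib.Helper20.K0Dev3
import Groth.Agent.Lib.QCoh.TensorRestrict
import Groth.Agent.Lib.QCoh.TensorColim
import Groth.Agent.Lib.QCoh.TensorQCoh
import Groth.Agent.Lib.QCoh.Helper74_LocFree
import Groth.Agent.Lib.Cohomology.helper5_CohSigma

/-!
# helper20: stalk lengths of `E ⊗ F` for `E` finite locally free of rank `e`
-/

universe u
open CategoryTheory CategoryTheory.Limits AlgebraicGeometry Opposite TopologicalSpace

namespace Groth.Agent.Lib.Helper20.TensorLocFree

open Groth.Agent.Lib.QCoh Groth.Agent.Lib.Helper20.DevLen Scheme.Modules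

variable {X : Scheme.{u}}

lemma stalkMap_sum_apply {A B : X.Modules} {ι : Type*} (s : Finset ι) (f : ι → (A ⟶ B)) (x : X)
    (m : A.presheaf.stalk x) :
    stalkMap (∑ i ∈ s, f i) x m = ∑ i ∈ s, stalkMap (f i) x m := by
  classical
  induction s using Finset.induction_on with
  | empty =>
    rw [Finset.sum_empty, Finset.sum_empty]
    exact stalkMap_zero_apply x m
  | insert a s ha ih =>
    rw [Finset.sum_insert ha, Finset.sum_insert ha, stalkMap_add_apply, ih]

/-- the `i`-th projection from a finite coproduct of copies of `G` -/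
noncomputable def proj (G : X.Modules) (e : ℕ) (i : Fin e) : (∐ fun _ : Fin e => G) ⟶ G :=
  Sigma.desc (fun j => if j = i then 𝟙 G else 0)

lemma ι_proj (G : X.Modules) (e : ℕ) (i j : Fin e) :
    Sigma.ι (fun _ : Fin e => G) j ≫ proj G e i = if j = i then 𝟙 G else 0 := by
  unfold proj
  rw [Sigma.ι_desc]

lemma sum_proj_ι (G : X.Modules) (e : ℕ) :
    ∑ i : Fin e, proj G e i ≫ Sigma.ι (fun _ : Fin e => G) i = 𝟙 _ := by
  apply Sigma.hom_ext
  intro j
  rw [Preadditive.comp_sum, Category.comp_id]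
  have h : ∀ i : Fin e, Sigma.ι (fun _ : Fin e => G) j ≫ proj G e i ≫
      Sigma.ι (fun _ : Fin e => G) i =
      if i = j then Sigma.ι (fun _ : Fin e => G) j else 0 := by
    intro i
    rw [← Category.assoc, ι_proj]
    by_cases hij : j = i
    · subst hij
      simp
    · rw [if_neg hij, if_neg (Ne.symm hij), zero_comp]
  rw [Finset.sum_congr rfl (fun i _ => h i), Finset.sum_ite_eq']
  simp

theorem L_sigma_fin (G : X.Modules) (e : ℕ) (x : X) :
    L x (∐ fun _ : Fin e => G) = e * L x G := by
  let Φ : (Fin e → G.presheaf.stalk x) →ₗ[X.presheaf.stalk x]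
      (∐ fun _ : Fin e => G).presheaf.stalk x :=
    LinearMap.lsum _ _ ℕ (fun i => stalkMapₗ (Sigma.ι (fun _ : Fin e => G) i) x)
  have hΦ : ∀ v, Φ v = ∑ i : Fin e, stalkMap (Sigma.ι (fun _ : Fin e => G) i) x (v i) := by
    intro v
    simp [Φ, LinearMap.lsum_apply, stalkMapₗ_apply]
  have h1 : ∀ v (i : Fin e), stalkMap (proj G e i) x (Φ v) = v i := by
    intro v i
    rw [hΦ, map_sum]
    have h : ∀ j : Fin e, stalkMap (proj G e i) x
        (stalkMap (Sigma.ι (fun _ : Fin e => G) j) x (v j)) = if j = i then v j else 0 := by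
      intro j
      rw [← stalkMap_comp_apply, ι_proj]
      by_cases hij : j = i
      · rw [if_pos hij, if_pos hij, stalkMap_id_apply]
      · rw [if_neg hij, if_neg hij, stalkMap_zero_apply]
    rw [Finset.sum_congr rfl (fun j _ => h j), Finset.sum_ite_eq']
    simp
  have h2 : ∀ t, Φ (fun i => stalkMap (proj G e i) x t) = t := by
    intro t
    rw [hΦ]
    have h : ∀ i : Fin e, stalkMap (Sigma.ι (fun _ : Fin e => G) i) x
        (stalkMap (proj G e i) x t) =
        stalkMap (proj G e i ≫ Sigma.ι (fun _ : Fin e => G) i) x t := by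
      intro i
      rw [stalkMap_comp_apply]
    rw [Finset.sum_congr rfl (fun i _ => h i), ← stalkMap_sum_apply, sum_proj_ι,
      stalkMap_id_apply]
  have hbij : Function.Bijective Φ := by
    constructor
    · intro v w hvw
      funext i
      rw [← h1 v i, ← h1 w i, hvw]
    · intro t
      exact ⟨_, h2 t⟩
  have h3 := (LinearEquiv.ofBijective Φ hbij).length_eq
  rw [Module.length_pi] at h3
  simpa using h3.symm

/-- modules that are isomorphic near `x` have the same stalk length at `x` -/
theorem L_eq_of_restrict_iso [IsLocallyNoetherian X] (M N : X.Modules) (hM : Coh.IsCoh M)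
    [N.IsQuasicoherent] (U : X.Opens) (x : X) (hxU : x ∈ U)
    (φ : (restrictFunctor U.ι).obj M ≅ (restrictFunctor U.ι).obj N) : L x M = L x N := by
  haveI : M.IsQuasicoherent := hM.1
  haveI : M.IsFiniteType := hM.2
  have hX : ∀ y : X, ∃ V : X.Opens, y ∈ V ∧ NoetherianSpace (V : Set X) := by
    intro y
    obtain ⟨V, hV0, hyV, -⟩ := Opens.isBasis_iff_nbhd.1 (X.isBasis_affineOpens)
      (show y ∈ (⊤ : X.Opens) from trivial)
    have hV : IsAffineOpen V := hV0
    haveI : IsNoetherianRing Γ(X, V) := IsLocallyNoetherian.component_noetherian ⟨V, hV⟩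
    exact ⟨V, hyV, noetherianSpace_of_isAffineOpen V hV⟩
  obtain ⟨H, j, hj, hHq, hHf, hiso, hcomm⟩ :=
    Groth.Agent.Lib.Helper20.DevGraph.exists_graph_hom hX M N U φ.hom
  let u : U := ⟨x, hxU⟩
  have ha' : Function.Bijective
      (stalkMap ((restrictFunctor U.ι).map (j ≫ biprod.fst)) u) := by
    have hi2 : IsIso ((stalkFunctor U u).map ((restrictFunctor U.ι).map (j ≫ biprod.fst))) :=
      Functor.map_isIso _ _
    exact (ConcreteCategory.isIso_iff_bijective _).1 hi2
  have ha : Function.Bijective (stalkMap (j ≫ biprod.fst) x) :=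
    (StalkLocal.bijective_stalkMap_restrict_iff U (j ≫ biprod.fst) u).1 ha'
  have hb' : Function.Bijective
      (stalkMap ((restrictFunctor U.ι).map (j ≫ biprod.snd)) u) := by
    have hi1 : IsIso ((restrictFunctor U.ι).map (j ≫ biprod.snd)) := by
      rw [hcomm]
      infer_instance
    have hi2 : IsIso ((stalkFunctor U u).map ((restrictFunctor U.ι).map (j ≫ biprod.snd))) :=
      Functor.map_isIso _ _
    exact (ConcreteCategory.isIso_iff_bijective _).1 hi2
  have hb : Function.Bijective (stalkMap (j ≫ biprod.snd) x) :=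
    (StalkLocal.bijective_stalkMap_restrict_iff U (j ≫ biprod.snd) u).1 hb'
  exact (L_of_bijective _ x ha).symm.trans (L_of_bijective _ x hb)

/-- locally, `E ⊗ F` is a finite sum of copies of `F` -/
theorem exists_restrict_tensor_iso {e : ℕ} {E : X.Modules}
    (hE : FlatMod.IsFinLocFreeOfRank e E) (F : X.Modules) (x : X) :
    ∃ U : X.Opens, x ∈ U ∧ Nonempty ((restrictFunctor U.ι).obj (CohB1.tensorMod E F) ≅
      (restrictFunctor U.ι).obj (∐ fun _ : Fin e => F)) := by
  obtain ⟨U, hxU, ⟨α⟩⟩ := hE x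
  refine ⟨U, hxU, ⟨?_⟩⟩
  let i1 := restrictTensorModIso U.ι E F
  let i2 : CohB1.tensorMod (E.restrict U.ι) (F.restrict U.ι) ≅
      CohB1.tensorMod (FlatMod.freeMod (↑U) e) (F.restrict U.ι) :=
    tensorModCongr α (Iso.refl _)
  let i3 : (tensorRightFunctor (F.restrict U.ι)).obj
        (∐ fun _ : Fin e => Coh.structureModule (↑U : Scheme.{u})) ≅
      ∐ fun _ : Fin e => (tensorRightFunctor (F.restrict U.ι)).obj
        (Coh.structureModule (↑U : Scheme.{u})) :=
    PreservesCoproduct.iso (tensorRightFunctor (F.restrict U.ι))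
      (fun _ : Fin e => Coh.structureModule (↑U : Scheme.{u}))
  let i4 : (∐ fun _ : Fin e => (tensorRightFunctor (F.restrict U.ι)).obj
        (Coh.structureModule (↑U : Scheme.{u}))) ≅ ∐ fun _ : Fin e => F.restrict U.ι :=
    Sigma.mapIso (fun _ => tensorModLeftUnitor (F.restrict U.ι))
  let i5 : (restrictFunctor U.ι).obj (∐ fun _ : Fin e => F) ≅
      ∐ fun _ : Fin e => (restrictFunctor U.ι).obj F :=
    PreservesCoproduct.iso (restrictFunctor U.ι) (fun _ : Fin e => F)
  exact i1 ≪≫ i2 ≪≫ i3 ≪≫ i4 ≪≫ i5.symm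

theorem L_tensor_locFree [IsLocallyNoetherian X] {e : ℕ} {E : X.Modules}
    (hE : FlatMod.IsFinLocFreeOfRank e E) (F : X.Modules) (hF : Coh.IsCoh F) (x : X) :
    L x (CohB1.tensorMod E F) = e * L x F := by
  haveI : F.IsQuasicoherent := hF.1
  haveI : F.IsFiniteType := hF.2
  have hEf := isFinLocFree_of_isFinLocFreeOfRank hE
  haveI : E.IsQuasicoherent := isQuasicoherent_of_isFinLocFree hEf
  haveI : E.IsFiniteType := isFiniteType_of_isFinLocFree hEf
  have hEF : Coh.IsCoh (CohB1.tensorMod E F) :=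
    ⟨isQuasicoherent_tensorMod E F, isFiniteType_tensorMod E F⟩
  have hS : Coh.IsCoh (∐ fun _ : Fin e => F) :=
    Groth.Agent.Lib.Cohomology.CohSigma.isCoh_sigma_fin _ (fun _ => hF)
  haveI : (∐ fun _ : Fin e => F).IsQuasicoherent := hS.1
  obtain ⟨U, hxU, ⟨φ⟩⟩ := exists_restrict_tensor_iso hE F x
  rw [L_eq_of_restrict_iso _ _ hEF U x hxU φ, L_sigma_fin]

theorem isCoh_tensor_locFree {e : ℕ} {E : X.Modules}
    (hE : FlatMod.IsFinLocFreeOfRank e E) (F : X.Modules) (hF : Coh.IsCoh F) :
    Coh.IsCoh (CohB1.tensorMod E F) := by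
  haveI : F.IsQuasicoherent := hF.1
  haveI : F.IsFiniteType := hF.2
  have hEf := isFinLocFree_of_isFinLocFreeOfRank hE
  haveI : E.IsQuasicoherent := isQuasicoherent_of_isFinLocFree hEf
  haveI : E.IsFiniteType := isFiniteType_of_isFinLocFree hEf
  exact ⟨isQuasicoherent_tensorMod E F, isFiniteType_tensorMod E F⟩

theorem support_tensor_locFree_subset [IsLocallyNoetherian X] {e : ℕ} {E : X.Modules}
    (hE : FlatMod.IsFinLocFreeOfRank e E) (F : X.Modules) (hF : Coh.IsCoh F) :
    CohB1.support (CohB1.tensorMod E F) ⊆ CohB1.support F := by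
  intro x hx
  by_contra hcon
  rw [notMem_support_iff] at hcon
  rw [mem_support_iff] at hx
  apply hx
  have h1 : L x F = 0 := Module.length_eq_zero_iff.2 hcon
  have h2 := L_tensor_locFree hE F hF x
  rw [h1, mul_zero] at h2
  exact Module.length_eq_zero_iff.1 h2

open Groth.Agent.Lib.Helper20.K0Dev in
/-- `[E ⊗ F] - e [F]` lies in the subgroup of classes with lower dimensional support -/
theorem clSub_tensor_sub_mem [IsNoetherian X] (E : X.Modules) (e : ℕ)
    (hE : FlatMod.IsFinLocFreeOfRank e E) (F : X.Modules) (hF : Coh.IsCoh F) (r : ℕ)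
    (hr : topologicalKrullDim ↥(CohB1.support F) ≤ (r : WithBot ℕ∞)) :
    KZero.clSub (CohP X) (CohB1.tensorMod E F) - e • KZero.clSub (CohP X) F ∈
      AddSubgroup.closure {c : KZero.K0sub (CohP X) |
        ∃ G : X.Modules, Coh.IsCoh G ∧
          topologicalKrullDim ↥(CohB1.support G) < (r : WithBot ℕ∞) ∧
          c = KZero.clSub (CohP X) G} := by
  classical
  have hEF := isCoh_tensor_locFree hE F hF
  have hsub := support_tensor_locFree_subset hE F hF
  have hdim : topologicalKrullDim ↥(CohB1.support (CohB1.tensorMod E F)) ≤ (r : WithBot ℕ∞) :=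
    ((Topology.IsEmbedding.inclusion hsub).isInducing.topologicalKrullDim_le).trans hr
  have k1 := DD_mem r (CohB1.tensorMod E F) hEF hdim
  have k2 := DD_mem r F hF hr
  have k3 := AddSubgroup.sub_mem _ k1 (AddSubgroup.nsmul_mem _ k2 e)
  have htt : tt r (CohB1.tensorMod E F) = fun x => e • tt r F x := by
    funext x
    unfold tt
    by_cases hd : topologicalKrullDim ↥(closure ({x} : Set X)) = (r : WithBot ℕ∞)
    · rw [if_pos hd, if_pos hd, L_tensor_locFree hE F hF x, ENat.toNat_mul, ENat.toNat_coe,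
        mul_smul]
    · rw [if_neg hd, if_neg hd, smul_zero]
  have hY₀ : IsClosed (CohB1.support F) := by
    haveI : F.IsQuasicoherent := hF.1
    exact isClosed_support_of_isFT F hF.2
  have hfin : (Function.support (tt r F)).Finite :=
    finite_support_tt r (CohB1.support F) hY₀ hr F subset_rfl
  have hsum : finsum (tt r (CohB1.tensorMod E F)) = e • finsum (tt r F) := by
    rw [htt, smul_finsum' e hfin]
  have heq : DD r (CohB1.tensorMod E F) - e • DD r F =
      KZero.clSub (CohP X) (CohB1.tensorMod E F) - e • KZero.clSub (CohP X) F := by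
    unfold DD
    rw [hsum, smul_sub]
    abel
  rw [← heq]
  exact k3

end Groth.Agent.Lib.Helper20.TensorLocFree
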