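import Groth.Agent.Lib.Helper20.ThickLift

/-!
# Lifting affine / finite / closed immersion along locally nilpotent thickenings of the base

Same as `ThickLift`, with the kernel of `iS` only assumed nilpotent on every affine open.
-/

set_option autoImplicit false
universe u

open CategoryTheory CategoryTheory.Limits AlgebraicGeometry

namespace Groth.Agent.Lib.Helper20.ThickLift

open Groth.Agent.Lib.Helper7.ThickRing Groth.Agent.Lib.Helper7.ThickBridge

theorem isAffineOpen_of_preimage_of_le {X X' : Scheme.{u}} (t : X ⟶ X') [IsClosedImmersion t]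
    (ht : Function.Surjective t) (U' : X'.Opens) (n : ℕ)
    (hn : ∀ V : X'.affineOpens, V.1 ≤ U' → t.ker.ideal V ^ n = ⊥)
    (h : IsAffineOpen (t ⁻¹ᵁ U')) : IsAffineOpen U' := by
  have : IsAffine (t ⁻¹ᵁ U').toScheme := h
  have hsurj : Function.Surjective (t ∣_ U') := by
    rintro ⟨y, hy⟩
    obtain ⟨x, rfl⟩ := ht y
    exact ⟨⟨x, hy⟩, Subtype.ext (morphismRestrict_base_coe t U' ⟨x, hy⟩)⟩
  exact ThickAffine.isAffine_of_ker_ideal_pow (t ∣_ U') hsurj n (fun V => by
    rw [Scheme.ker_morphismRestrict_ideal]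
    exact hn _ (Scheme.Opens.ι_image_le U' V.1))

variable {X X' S S' : Scheme.{u}} {iX : X ⟶ X'} {iS : S ⟶ S'} {f : X ⟶ S} {f' : X' ⟶ S'}

theorem isNilpotent_ker_app_of_ideal (iS : S ⟶ S') [QuasiCompact iS] (V' : S'.affineOpens)
    (hnil : IsNilpotent (iS.ker.ideal V')) : IsNilpotent (RingHom.ker (iS.app V'.1).hom) := by
  rw [← Scheme.Hom.ker_apply]; exact hnil

/-- Affineness lifts along a locally nilpotent thickening of the base. -/
theorem isAffineHom_of_isPullback' (hc : IsPullback iX f f' iS) [IsClosedImmersion iS]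
    (hsurj : Function.Surjective iS) (hnil : ∀ V' : S'.affineOpens, IsNilpotent (iS.ker.ideal V'))
    [IsAffineHom f] : IsAffineHom f' := by
  have hiX : IsClosedImmersion iX := MorphismProperty.of_isPullback hc.flip ‹_›
  have hsX : Function.Surjective iX :=
    (Groth.Agent.Lib.Helper20.closedImmersion_surjective_of_isPullback hc ⟨‹_›, hsurj⟩).2
  constructor
  intro V' hV'
  obtain ⟨n, hn⟩ := hnil ⟨V', hV'⟩
  refine isAffineOpen_of_preimage_of_le iX hsX (f' ⁻¹ᵁ V') n ?_ ?_
  · intro W e
    have hpo := isPushout_appLE hc V' hV' W.1 W.2 e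
    obtain ⟨-, hker⟩ := surjective_and_ker_of_isPushout hpo (iS.app_surjective V' hV')
    rw [Scheme.Hom.ker_apply, hker, ← Ideal.map_pow, ← Scheme.Hom.ker_apply iS ⟨V', hV'⟩, hn]
    exact Ideal.map_bot
  · rw [preimage_eq_of_isPullback hc V']
    exact (hV'.preimage iS).preimage f

/-- Finiteness lifts along a locally nilpotent thickening of the base. -/
theorem isFinite_of_isPullback' (hc : IsPullback iX f f' iS) [IsClosedImmersion iS]
    (hsurj : Function.Surjective iS) (hnil : ∀ V' : S'.affineOpens, IsNilpotent (iS.ker.ideal V'))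
    [IsFinite f] : IsFinite f' := by
  have := isAffineHom_of_isPullback' hc hsurj hnil
  rw [isFinite_iff]
  refine ⟨‹_›, fun V' hV' => ?_⟩
  have hU' : IsAffineOpen (f' ⁻¹ᵁ V') := hV'.preimage f'
  have hpo := isPushout_appLE hc V' hV' (f' ⁻¹ᵁ V') hU' le_rfl
  rw [← Scheme.Hom.app_eq_appLE] at hpo
  refine finite_of_isPushout hpo (iS.app_surjective V' hV')
    (isNilpotent_ker_app_of_ideal iS ⟨V', hV'⟩ (hnil _)) ?_
  rw [Scheme.Hom.appLE, CommRingCat.hom_comp]
  refine RingHom.Finite.comp ?_ (f.finite_app _ (hV'.preimage iS))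
  exact RingHom.Finite.of_surjective _
    (presheaf_map_bijective_of_eq (preimage_eq_of_isPullback hc V') _).2

/-- Being a closed immersion lifts along a locally nilpotent thickening of the base. -/
theorem isClosedImmersion_of_isPullback' (hc : IsPullback iX f f' iS) [IsClosedImmersion iS]
    (hsurj : Function.Surjective iS) (hnil : ∀ V' : S'.affineOpens, IsNilpotent (iS.ker.ideal V'))
    [IsClosedImmersion f] : IsClosedImmersion f' := by
  have := isAffineHom_of_isPullback' hc hsurj hnil
  rw [isClosedImmersion_iff_isAffineHom]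
  refine ⟨‹_›, fun V' hV' => ?_⟩
  have hU' : IsAffineOpen (f' ⁻¹ᵁ V') := hV'.preimage f'
  have hpo := isPushout_appLE hc V' hV' (f' ⁻¹ᵁ V') hU' le_rfl
  rw [← Scheme.Hom.app_eq_appLE] at hpo
  refine surjective_of_isPushout hpo (iS.app_surjective V' hV')
    (isNilpotent_ker_app_of_ideal iS ⟨V', hV'⟩ (hnil _)) ?_
  rw [Scheme.Hom.appLE, CommRingCat.hom_comp]
  exact (presheaf_map_bijective_of_eq (preimage_eq_of_isPullback hc V') _).2.comp
    (f.app_surjective _ (hV'.preimage iS))

end Groth.Agent.Lib.Helper20.ThickLift
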