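import Groth.Agent.Lib.Helper20.ThickLift
import Groth.Agent.Lib.Helper7.ThickBridge
import Mathlib.AlgebraicGeometry.Morphisms.SmoothFiber
import Mathlib.AlgebraicGeometry.Noetherian

/-!
# Smoothness lifts along flat thickenings (helper20)

* `exists_lift_of_isReduced`: a morphism from a reduced scheme factors through any closed immersion
  with nilpotent kernel.
* `smooth_of_isPullback_of_isNilpotent`: `f'` flat, locally of finite presentation, whose base
  change `f` along a nilpotent closed immersion is smooth, is smooth.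
* `smooth_app_of_isAdicHom`: levels of a levelwise flat adic morphism of locally Noetherian formal
  systems with smooth bottom level are smooth.
-/

universe u

open CategoryTheory CategoryTheory.Limits AlgebraicGeometry Opposite TopologicalSpace

namespace Groth.Agent.Lib.Helper20.ThickSmooth

open AlgebraicGeometry.Scheme

theorem ker_le_ker_of_isReduced {T Z Y : Scheme.{u}} (i : Z ⟶ Y)
    (hnil : IsNilpotent i.ker) (h : T ⟶ Y) [IsReduced T] : i.ker ≤ h.ker := by
  obtain ⟨m, hm⟩ := hnil
  refine IdealSheafData.le_ofIdeals_iff.mpr fun U a ha => ?_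
  have h1 : (i.ker ^ m).ideal U = i.ker.ideal U ^ m := rfl
  have h2 : a ^ m ∈ i.ker.ideal U ^ m := Ideal.pow_mem_pow ha m
  rw [← h1, hm] at h2
  have h3 : a ^ m = 0 := h2
  rw [RingHom.mem_ker]
  have h4 : ((h.app U).hom a) ^ m = 0 := by rw [← map_pow, h3, map_zero]
  exact IsReduced.eq_zero _ ⟨m, h4⟩

theorem exists_lift_of_isReduced {T Z Y : Scheme.{u}} (i : Z ⟶ Y) [IsClosedImmersion i]
    (hnil : IsNilpotent i.ker) (h : T ⟶ Y) [IsReduced T] : ∃ g : T ⟶ Z, g ≫ i = h :=
  ⟨IsClosedImmersion.lift i h (ker_le_ker_of_isReduced i hnil h), IsClosedImmersion.lift_fac _ _ _⟩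

/-- If the base change of `f'` along a nilpotent closed immersion is smooth, then the base change
of `f'` along any morphism from a reduced scheme is smooth. -/
theorem smooth_snd_of_isReduced {X X' S S' T : Scheme.{u}} {iX : X ⟶ X'} {iS : S ⟶ S'} {f : X ⟶ S}
    {f' : X' ⟶ S'} (hc : IsPullback iX f f' iS) [IsClosedImmersion iS] (hnil : IsNilpotent iS.ker)
    [Smooth f] (h : T ⟶ S') [IsReduced T] : Smooth (pullback.snd f' h) := by
  obtain ⟨g, rfl⟩ := exists_lift_of_isReduced iS hnil h
  -- the lift `P ⟶ X`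
  let l : pullback f' (g ≫ iS) ⟶ X :=
    hc.lift (pullback.fst f' (g ≫ iS)) (pullback.snd f' (g ≫ iS) ≫ g)
      (by rw [pullback.condition, Category.assoc])
  have hl1 : l ≫ iX = pullback.fst f' (g ≫ iS) := hc.lift_fst _ _ _
  have hl2 : l ≫ f = pullback.snd f' (g ≫ iS) ≫ g := hc.lift_snd _ _ _
  have hbig : IsPullback (l ≫ iX) (pullback.snd f' (g ≫ iS)) f' (g ≫ iS) := by
    rw [hl1]
    exact IsPullback.of_hasPullback f' (g ≫ iS)
  have hleft : IsPullback l (pullback.snd f' (g ≫ iS)) f g :=
    IsPullback.of_right hbig hl2 hc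
  exact MorphismProperty.of_isPullback (P := @Smooth) hleft inferInstance

/-- Smoothness lifts along a nilpotent thickening of the base for flat morphisms locally of
finite presentation. -/
theorem smooth_of_isPullback_of_isNilpotent {X X' S S' : Scheme.{u}} {iX : X ⟶ X'} {iS : S ⟶ S'}
    {f : X ⟶ S} {f' : X' ⟶ S'} (hc : IsPullback iX f f' iS) [IsClosedImmersion iS]
    (hnil : IsNilpotent iS.ker) [Smooth f] [Flat f'] [LocallyOfFinitePresentation f'] :
    Smooth f' := by
  refine Smooth.of_smooth_fiberToSpecResidueField f' fun y => ?_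
  exact smooth_snd_of_isReduced hc hnil (S'.fromSpecResidueField y)

/-- Levels of a levelwise flat adic morphism of locally Noetherian formal systems with smooth
bottom level are smooth. -/
theorem smooth_app_of_isAdicHom {𝔛 𝔜 : FSch.Sys.{u}} (h𝔜 : 𝔜.IsLocNoethFormal) (f : 𝔛 ⟶ 𝔜)
    (hf : FSch.IsAdicHom f) (hflat : ∀ n : ℕ, Flat ((f : FSch.Hom 𝔛 𝔜).app n))
    (h0 : Smooth ((f : FSch.Hom 𝔛 𝔜).app 0)) (n : ℕ) : Smooth ((f : FSch.Hom 𝔛 𝔜).app n) := by
  have hci := Groth.Agent.Lib.Helper20.isClosedImmersion_toX h𝔜.1 n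
  have hnil := ThickLift.isNilpotent_ker_toX 𝔜 h𝔜.1 h𝔜.2.1 n
  have hc := Groth.Agent.Lib.Helper20.isPullback_toX f hf n
  have := hflat n
  have := h𝔜.2.2 n
  have hlft : LocallyOfFiniteType ((f : FSch.Hom 𝔛 𝔜).app n) :=
    Groth.Agent.Lib.Helper7.ThickBridge.locallyOfFiniteType_of_isPullback_of_isNilpotent hc hnil
      inferInstance
  exact smooth_of_isPullback_of_isNilpotent hc hnil

end Groth.Agent.Lib.Helper20.ThickSmooth
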